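import Cfsg.Agent.Lib.ONPres.DataADefs
import Cfsg.Agent.Lib.ONPres.DataAFacts0
import Cfsg.Agent.Lib.ONPres.DataAFacts1
import Cfsg.Agent.Lib.ONPres.DataAFacts2
import Cfsg.Agent.Lib.ONPres.DataAFacts3
import Cfsg.Agent.Lib.ONPres.DataARefs0
import Cfsg.Agent.Lib.ONPres.DataARefs1
import Cfsg.Agent.Lib.ONPres.DataARefs2
import Cfsg.Agent.Lib.ONPres.DataARefs3
import Cfsg.Agent.Lib.ONPres.DataATab
import Cfsg.Agent.Lib.ONPres.DataANd
import Cfsg.Agent.Lib.ONPres.DataAEdge0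
import Cfsg.Agent.Lib.ONPres.DataAEdge1
import Cfsg.Agent.Lib.ONPres.DataAEdge2
import Cfsg.Agent.Lib.ONPres.DataAEdge3
import Cfsg.Agent.Lib.ONPres.DataAImg

/-!
The certificate for index 122760: 172398 nodes, 665104 facts.
-/

set_option autoImplicit false
set_option linter.style.longLine false

namespace CfsgLib.ONPres
open CfsgLib.CosetEnum

/-- the certificate -/
def certA : Cert where
  K := 8
  invs := [0, 1, 2, 3, 4, 5, 7, 6]
  rels := [[1, 1],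
    [1, 2, 1, 2, 1, 2],
    [1, 0, 1, 0],
    [1, 3, 1, 3],
    [1, 4, 1, 4],
    [1, 5, 1, 5],
    [2, 2],
    [2, 0, 2, 0, 2, 0],
    [2, 3, 2, 3],
    [2, 4, 2, 4],
    [2, 5, 2, 5],
    [0, 0],
    [0, 3, 0, 3, 0, 3, 0, 3, 0, 3, 0, 3, 0, 3, 0, 3],
    [0, 4, 0, 4],
    [0, 5, 0, 5],
    [3, 3],
    [3, 4, 3, 4, 3, 4],
    [3, 5, 3, 5],
    [4, 4],
    [4, 5, 4, 5, 4, 5],
    [5, 5],
    [1, 5, 7, 7],
    [1, 5, 3, 0, 3, 0, 3, 0, 3, 0],
    [0, 7, 3, 7, 3, 0, 3, 6, 3, 6],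
    [3, 7, 0, 7, 0, 3, 0, 6, 0, 6],
    [2, 0, 3, 6, 2, 0, 3, 6, 2, 0, 3, 6, 2, 0, 3, 6, 2, 0, 3, 6],
    [6, 2, 0, 6, 0, 2, 6, 2, 0, 6, 0],
    [6, 4, 3, 6, 3, 4, 6, 4, 3, 6, 3]]
  subs := [[0],
    [1],
    [2],
    [3],
    [4],
    [5]]
  N := 122760
  M := 172398
  F := 665104
  defs := certADefs
  facts := .node (.node certAFacts0 certAFacts2) (.node certAFacts1 certAFacts3)
  refs := .node (.node certARefs0 certARefs2) (.node certARefs1 certARefs3)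
  tab := certATab
  nd := certANd
  edge := .node (.node certAEdge0 certAEdge2) (.node certAEdge1 certAEdge3)
  img := certAImg

end CfsgLib.ONPres
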