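import Cfsg.Agent.Lib.CosetEnum.OrbitTables
import Cfsg.Agent.Lib.ONPres.DataA

/-!
Kernel check of consecutive blocks.
-/

set_option autoImplicit false
set_option Elab.async false
set_option linter.style.longLine false

namespace CfsgLib.ONPres
open CfsgLib.CosetEnum

theorem checkActA0b0 : allUp certA.actOK' 9 0 = true := by decide +kernel

theorem checkActA0b1 : allUp certA.actOK' 9 512 = true := by decide +kernel

theorem checkActA0b2 : allUp certA.actOK' 9 1024 = true := by decide +kernel

theorem checkActA0b3 : allUp certA.actOK' 9 1536 = true := by decide +kernel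

theorem checkActA0b4 : allUp certA.actOK' 9 2048 = true := by decide +kernel

theorem checkActA0b5 : allUp certA.actOK' 9 2560 = true := by decide +kernel

theorem checkActA0b6 : allUp certA.actOK' 9 3072 = true := by decide +kernel

theorem checkActA0b7 : allUp certA.actOK' 9 3584 = true := by decide +kernel

theorem checkActA0b8 : allUp certA.actOK' 9 4096 = true := by decide +kernel

theorem checkActA0b9 : allUp certA.actOK' 9 4608 = true := by decide +kernel

theorem checkActA0b10 : allUp certA.actOK' 9 5120 = true := by decide +kernel

theorem checkActA0b11 : allUp certA.actOK' 9 5632 = true := by decide +kernel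

theorem checkActA0b12 : allUp certA.actOK' 9 6144 = true := by decide +kernel

theorem checkActA0b13 : allUp certA.actOK' 9 6656 = true := by decide +kernel

theorem checkActA0b14 : allUp certA.actOK' 9 7168 = true := by decide +kernel

theorem checkActA0b15 : allUp certA.actOK' 9 7680 = true := by decide +kernel

theorem checkActA0j9n0 : allUp certA.actOK' (9 + 1) 0 = true :=
  allUp_join (by decide +kernel) checkActA0b0 checkActA0b1

theorem checkActA0j9n2 : allUp certA.actOK' (9 + 1) 1024 = true :=
  allUp_join (by decide +kernel) checkActA0b2 checkActA0b3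

theorem checkActA0j9n4 : allUp certA.actOK' (9 + 1) 2048 = true :=
  allUp_join (by decide +kernel) checkActA0b4 checkActA0b5

theorem checkActA0j9n6 : allUp certA.actOK' (9 + 1) 3072 = true :=
  allUp_join (by decide +kernel) checkActA0b6 checkActA0b7

theorem checkActA0j9n8 : allUp certA.actOK' (9 + 1) 4096 = true :=
  allUp_join (by decide +kernel) checkActA0b8 checkActA0b9

theorem checkActA0j9n10 : allUp certA.actOK' (9 + 1) 5120 = true :=
  allUp_join (by decide +kernel) checkActA0b10 checkActA0b11

theorem checkActA0j9n12 : allUp certA.actOK' (9 + 1) 6144 = true :=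
  allUp_join (by decide +kernel) checkActA0b12 checkActA0b13

theorem checkActA0j9n14 : allUp certA.actOK' (9 + 1) 7168 = true :=
  allUp_join (by decide +kernel) checkActA0b14 checkActA0b15

theorem checkActA0j10n0 : allUp certA.actOK' (10 + 1) 0 = true :=
  allUp_join (by decide +kernel) checkActA0j9n0 checkActA0j9n2

theorem checkActA0j10n2 : allUp certA.actOK' (10 + 1) 2048 = true :=
  allUp_join (by decide +kernel) checkActA0j9n4 checkActA0j9n6

theorem checkActA0j10n4 : allUp certA.actOK' (10 + 1) 4096 = true :=
  allUp_join (by decide +kernel) checkActA0j9n8 checkActA0j9n10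

theorem checkActA0j10n6 : allUp certA.actOK' (10 + 1) 6144 = true :=
  allUp_join (by decide +kernel) checkActA0j9n12 checkActA0j9n14

theorem checkActA0j11n0 : allUp certA.actOK' (11 + 1) 0 = true :=
  allUp_join (by decide +kernel) checkActA0j10n0 checkActA0j10n2

theorem checkActA0j11n2 : allUp certA.actOK' (11 + 1) 4096 = true :=
  allUp_join (by decide +kernel) checkActA0j10n4 checkActA0j10n6

theorem checkActA0 : allUp certA.actOK' (12 + 1) 0 = true :=
  allUp_join (by decide +kernel) checkActA0j11n0 checkActA0j11n2

end CfsgLib.ONPres
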