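import Cfsg.Agent.Lib.CosetEnum.OrbitTables
import Cfsg.Agent.Lib.ONPres.DataA

/-!
Kernel check of consecutive blocks.
-/

set_option autoImplicit false
set_option Elab.async false
set_option linter.style.longLine false

namespace CfsgLib.ONPres
open CfsgLib.CosetEnum

theorem checkActA1b0 : allUp certA.actOK' 9 8192 = true := by decide +kernel

theorem checkActA1b1 : allUp certA.actOK' 9 8704 = true := by decide +kernel

theorem checkActA1b2 : allUp certA.actOK' 9 9216 = true := by decide +kernel

theorem checkActA1b3 : allUp certA.actOK' 9 9728 = true := by decide +kernel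

theorem checkActA1b4 : allUp certA.actOK' 9 10240 = true := by decide +kernel

theorem checkActA1b5 : allUp certA.actOK' 9 10752 = true := by decide +kernel

theorem checkActA1b6 : allUp certA.actOK' 9 11264 = true := by decide +kernel

theorem checkActA1b7 : allUp certA.actOK' 9 11776 = true := by decide +kernel

theorem checkActA1b8 : allUp certA.actOK' 9 12288 = true := by decide +kernel

theorem checkActA1b9 : allUp certA.actOK' 9 12800 = true := by decide +kernel

theorem checkActA1b10 : allUp certA.actOK' 9 13312 = true := by decide +kernel

theorem checkActA1b11 : allUp certA.actOK' 9 13824 = true := by decide +kernel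

theorem checkActA1b12 : allUp certA.actOK' 9 14336 = true := by decide +kernel

theorem checkActA1b13 : allUp certA.actOK' 9 14848 = true := by decide +kernel

theorem checkActA1b14 : allUp certA.actOK' 9 15360 = true := by decide +kernel

theorem checkActA1b15 : allUp certA.actOK' 9 15872 = true := by decide +kernel

theorem checkActA1j9n0 : allUp certA.actOK' (9 + 1) 8192 = true :=
  allUp_join (by decide +kernel) checkActA1b0 checkActA1b1

theorem checkActA1j9n2 : allUp certA.actOK' (9 + 1) 9216 = true :=
  allUp_join (by decide +kernel) checkActA1b2 checkActA1b3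

theorem checkActA1j9n4 : allUp certA.actOK' (9 + 1) 10240 = true :=
  allUp_join (by decide +kernel) checkActA1b4 checkActA1b5

theorem checkActA1j9n6 : allUp certA.actOK' (9 + 1) 11264 = true :=
  allUp_join (by decide +kernel) checkActA1b6 checkActA1b7

theorem checkActA1j9n8 : allUp certA.actOK' (9 + 1) 12288 = true :=
  allUp_join (by decide +kernel) checkActA1b8 checkActA1b9

theorem checkActA1j9n10 : allUp certA.actOK' (9 + 1) 13312 = true :=
  allUp_join (by decide +kernel) checkActA1b10 checkActA1b11

theorem checkActA1j9n12 : allUp certA.actOK' (9 + 1) 14336 = true :=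
  allUp_join (by decide +kernel) checkActA1b12 checkActA1b13

theorem checkActA1j9n14 : allUp certA.actOK' (9 + 1) 15360 = true :=
  allUp_join (by decide +kernel) checkActA1b14 checkActA1b15

theorem checkActA1j10n0 : allUp certA.actOK' (10 + 1) 8192 = true :=
  allUp_join (by decide +kernel) checkActA1j9n0 checkActA1j9n2

theorem checkActA1j10n2 : allUp certA.actOK' (10 + 1) 10240 = true :=
  allUp_join (by decide +kernel) checkActA1j9n4 checkActA1j9n6

theorem checkActA1j10n4 : allUp certA.actOK' (10 + 1) 12288 = true :=
  allUp_join (by decide +kernel) checkActA1j9n8 checkActA1j9n10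

theorem checkActA1j10n6 : allUp certA.actOK' (10 + 1) 14336 = true :=
  allUp_join (by decide +kernel) checkActA1j9n12 checkActA1j9n14

theorem checkActA1j11n0 : allUp certA.actOK' (11 + 1) 8192 = true :=
  allUp_join (by decide +kernel) checkActA1j10n0 checkActA1j10n2

theorem checkActA1j11n2 : allUp certA.actOK' (11 + 1) 12288 = true :=
  allUp_join (by decide +kernel) checkActA1j10n4 checkActA1j10n6

theorem checkActA1 : allUp certA.actOK' (12 + 1) 8192 = true :=
  allUp_join (by decide +kernel) checkActA1j11n0 checkActA1j11n2

end CfsgLib.ONPres
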