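import Cfsg.Agent.Lib.CosetEnum.OrbitTables
import Cfsg.Agent.Lib.ONPres.DataA

/-!
Kernel check of consecutive blocks.
-/

set_option autoImplicit false
set_option Elab.async false
set_option linter.style.longLine false

namespace CfsgLib.ONPres
open CfsgLib.CosetEnum

theorem checkActA10b0 : allUp certA.actOK' 9 81920 = true := by decide +kernel

theorem checkActA10b1 : allUp certA.actOK' 9 82432 = true := by decide +kernel

theorem checkActA10b2 : allUp certA.actOK' 9 82944 = true := by decide +kernel

theorem checkActA10b3 : allUp certA.actOK' 9 83456 = true := by decide +kernel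

theorem checkActA10b4 : allUp certA.actOK' 9 83968 = true := by decide +kernel

theorem checkActA10b5 : allUp certA.actOK' 9 84480 = true := by decide +kernel

theorem checkActA10b6 : allUp certA.actOK' 9 84992 = true := by decide +kernel

theorem checkActA10b7 : allUp certA.actOK' 9 85504 = true := by decide +kernel

theorem checkActA10b8 : allUp certA.actOK' 9 86016 = true := by decide +kernel

theorem checkActA10b9 : allUp certA.actOK' 9 86528 = true := by decide +kernel

theorem checkActA10b10 : allUp certA.actOK' 9 87040 = true := by decide +kernel

theorem checkActA10b11 : allUp certA.actOK' 9 87552 = true := by decide +kernel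

theorem checkActA10b12 : allUp certA.actOK' 9 88064 = true := by decide +kernel

theorem checkActA10b13 : allUp certA.actOK' 9 88576 = true := by decide +kernel

theorem checkActA10b14 : allUp certA.actOK' 9 89088 = true := by decide +kernel

theorem checkActA10b15 : allUp certA.actOK' 9 89600 = true := by decide +kernel

theorem checkActA10j9n0 : allUp certA.actOK' (9 + 1) 81920 = true :=
  allUp_join (by decide +kernel) checkActA10b0 checkActA10b1

theorem checkActA10j9n2 : allUp certA.actOK' (9 + 1) 82944 = true :=
  allUp_join (by decide +kernel) checkActA10b2 checkActA10b3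

theorem checkActA10j9n4 : allUp certA.actOK' (9 + 1) 83968 = true :=
  allUp_join (by decide +kernel) checkActA10b4 checkActA10b5

theorem checkActA10j9n6 : allUp certA.actOK' (9 + 1) 84992 = true :=
  allUp_join (by decide +kernel) checkActA10b6 checkActA10b7

theorem checkActA10j9n8 : allUp certA.actOK' (9 + 1) 86016 = true :=
  allUp_join (by decide +kernel) checkActA10b8 checkActA10b9

theorem checkActA10j9n10 : allUp certA.actOK' (9 + 1) 87040 = true :=
  allUp_join (by decide +kernel) checkActA10b10 checkActA10b11

theorem checkActA10j9n12 : allUp certA.actOK' (9 + 1) 88064 = true :=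
  allUp_join (by decide +kernel) checkActA10b12 checkActA10b13

theorem checkActA10j9n14 : allUp certA.actOK' (9 + 1) 89088 = true :=
  allUp_join (by decide +kernel) checkActA10b14 checkActA10b15

theorem checkActA10j10n0 : allUp certA.actOK' (10 + 1) 81920 = true :=
  allUp_join (by decide +kernel) checkActA10j9n0 checkActA10j9n2

theorem checkActA10j10n2 : allUp certA.actOK' (10 + 1) 83968 = true :=
  allUp_join (by decide +kernel) checkActA10j9n4 checkActA10j9n6

theorem checkActA10j10n4 : allUp certA.actOK' (10 + 1) 86016 = true :=
  allUp_join (by decide +kernel) checkActA10j9n8 checkActA10j9n10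

theorem checkActA10j10n6 : allUp certA.actOK' (10 + 1) 88064 = true :=
  allUp_join (by decide +kernel) checkActA10j9n12 checkActA10j9n14

theorem checkActA10j11n0 : allUp certA.actOK' (11 + 1) 81920 = true :=
  allUp_join (by decide +kernel) checkActA10j10n0 checkActA10j10n2

theorem checkActA10j11n2 : allUp certA.actOK' (11 + 1) 86016 = true :=
  allUp_join (by decide +kernel) checkActA10j10n4 checkActA10j10n6

theorem checkActA10 : allUp certA.actOK' (12 + 1) 81920 = true :=
  allUp_join (by decide +kernel) checkActA10j11n0 checkActA10j11n2

end CfsgLib.ONPres
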