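import Cfsg.Agent.Lib.CosetEnum.OrbitTables
import Cfsg.Agent.Lib.ONPres.DataA

/-!
Kernel check of consecutive blocks.
-/

set_option autoImplicit false
set_option Elab.async false
set_option linter.style.longLine false

namespace CfsgLib.ONPres
open CfsgLib.CosetEnum

theorem checkActA11b0 : allUp certA.actOK' 9 90112 = true := by decide +kernel

theorem checkActA11b1 : allUp certA.actOK' 9 90624 = true := by decide +kernel

theorem checkActA11b2 : allUp certA.actOK' 9 91136 = true := by decide +kernel

theorem checkActA11b3 : allUp certA.actOK' 9 91648 = true := by decide +kernel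

theorem checkActA11b4 : allUp certA.actOK' 9 92160 = true := by decide +kernel

theorem checkActA11b5 : allUp certA.actOK' 9 92672 = true := by decide +kernel

theorem checkActA11b6 : allUp certA.actOK' 9 93184 = true := by decide +kernel

theorem checkActA11b7 : allUp certA.actOK' 9 93696 = true := by decide +kernel

theorem checkActA11b8 : allUp certA.actOK' 9 94208 = true := by decide +kernel

theorem checkActA11b9 : allUp certA.actOK' 9 94720 = true := by decide +kernel

theorem checkActA11b10 : allUp certA.actOK' 9 95232 = true := by decide +kernel

theorem checkActA11b11 : allUp certA.actOK' 9 95744 = true := by decide +kernel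

theorem checkActA11b12 : allUp certA.actOK' 9 96256 = true := by decide +kernel

theorem checkActA11b13 : allUp certA.actOK' 9 96768 = true := by decide +kernel

theorem checkActA11b14 : allUp certA.actOK' 9 97280 = true := by decide +kernel

theorem checkActA11b15 : allUp certA.actOK' 9 97792 = true := by decide +kernel

theorem checkActA11j9n0 : allUp certA.actOK' (9 + 1) 90112 = true :=
  allUp_join (by decide +kernel) checkActA11b0 checkActA11b1

theorem checkActA11j9n2 : allUp certA.actOK' (9 + 1) 91136 = true :=
  allUp_join (by decide +kernel) checkActA11b2 checkActA11b3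

theorem checkActA11j9n4 : allUp certA.actOK' (9 + 1) 92160 = true :=
  allUp_join (by decide +kernel) checkActA11b4 checkActA11b5

theorem checkActA11j9n6 : allUp certA.actOK' (9 + 1) 93184 = true :=
  allUp_join (by decide +kernel) checkActA11b6 checkActA11b7

theorem checkActA11j9n8 : allUp certA.actOK' (9 + 1) 94208 = true :=
  allUp_join (by decide +kernel) checkActA11b8 checkActA11b9

theorem checkActA11j9n10 : allUp certA.actOK' (9 + 1) 95232 = true :=
  allUp_join (by decide +kernel) checkActA11b10 checkActA11b11

theorem checkActA11j9n12 : allUp certA.actOK' (9 + 1) 96256 = true :=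
  allUp_join (by decide +kernel) checkActA11b12 checkActA11b13

theorem checkActA11j9n14 : allUp certA.actOK' (9 + 1) 97280 = true :=
  allUp_join (by decide +kernel) checkActA11b14 checkActA11b15

theorem checkActA11j10n0 : allUp certA.actOK' (10 + 1) 90112 = true :=
  allUp_join (by decide +kernel) checkActA11j9n0 checkActA11j9n2

theorem checkActA11j10n2 : allUp certA.actOK' (10 + 1) 92160 = true :=
  allUp_join (by decide +kernel) checkActA11j9n4 checkActA11j9n6

theorem checkActA11j10n4 : allUp certA.actOK' (10 + 1) 94208 = true :=
  allUp_join (by decide +kernel) checkActA11j9n8 checkActA11j9n10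

theorem checkActA11j10n6 : allUp certA.actOK' (10 + 1) 96256 = true :=
  allUp_join (by decide +kernel) checkActA11j9n12 checkActA11j9n14

theorem checkActA11j11n0 : allUp certA.actOK' (11 + 1) 90112 = true :=
  allUp_join (by decide +kernel) checkActA11j10n0 checkActA11j10n2

theorem checkActA11j11n2 : allUp certA.actOK' (11 + 1) 94208 = true :=
  allUp_join (by decide +kernel) checkActA11j10n4 checkActA11j10n6

theorem checkActA11 : allUp certA.actOK' (12 + 1) 90112 = true :=
  allUp_join (by decide +kernel) checkActA11j11n0 checkActA11j11n2

end CfsgLib.ONPres
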