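import Cfsg.Agent.Lib.CosetEnum.OrbitTables
import Cfsg.Agent.Lib.ONPres.DataA

/-!
Kernel check of consecutive blocks.
-/

set_option autoImplicit false
set_option Elab.async false
set_option linter.style.longLine false

namespace CfsgLib.ONPres
open CfsgLib.CosetEnum

theorem checkActA12b0 : allUp certA.actOK' 9 98304 = true := by decide +kernel

theorem checkActA12b1 : allUp certA.actOK' 9 98816 = true := by decide +kernel

theorem checkActA12b2 : allUp certA.actOK' 9 99328 = true := by decide +kernel

theorem checkActA12b3 : allUp certA.actOK' 9 99840 = true := by decide +kernel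

theorem checkActA12b4 : allUp certA.actOK' 9 100352 = true := by decide +kernel

theorem checkActA12b5 : allUp certA.actOK' 9 100864 = true := by decide +kernel

theorem checkActA12b6 : allUp certA.actOK' 9 101376 = true := by decide +kernel

theorem checkActA12b7 : allUp certA.actOK' 9 101888 = true := by decide +kernel

theorem checkActA12b8 : allUp certA.actOK' 9 102400 = true := by decide +kernel

theorem checkActA12b9 : allUp certA.actOK' 9 102912 = true := by decide +kernel

theorem checkActA12b10 : allUp certA.actOK' 9 103424 = true := by decide +kernel

theorem checkActA12b11 : allUp certA.actOK' 9 103936 = true := by decide +kernel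

theorem checkActA12b12 : allUp certA.actOK' 9 104448 = true := by decide +kernel

theorem checkActA12b13 : allUp certA.actOK' 9 104960 = true := by decide +kernel

theorem checkActA12b14 : allUp certA.actOK' 9 105472 = true := by decide +kernel

theorem checkActA12b15 : allUp certA.actOK' 9 105984 = true := by decide +kernel

theorem checkActA12j9n0 : allUp certA.actOK' (9 + 1) 98304 = true :=
  allUp_join (by decide +kernel) checkActA12b0 checkActA12b1

theorem checkActA12j9n2 : allUp certA.actOK' (9 + 1) 99328 = true :=
  allUp_join (by decide +kernel) checkActA12b2 checkActA12b3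

theorem checkActA12j9n4 : allUp certA.actOK' (9 + 1) 100352 = true :=
  allUp_join (by decide +kernel) checkActA12b4 checkActA12b5

theorem checkActA12j9n6 : allUp certA.actOK' (9 + 1) 101376 = true :=
  allUp_join (by decide +kernel) checkActA12b6 checkActA12b7

theorem checkActA12j9n8 : allUp certA.actOK' (9 + 1) 102400 = true :=
  allUp_join (by decide +kernel) checkActA12b8 checkActA12b9

theorem checkActA12j9n10 : allUp certA.actOK' (9 + 1) 103424 = true :=
  allUp_join (by decide +kernel) checkActA12b10 checkActA12b11

theorem checkActA12j9n12 : allUp certA.actOK' (9 + 1) 104448 = true :=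
  allUp_join (by decide +kernel) checkActA12b12 checkActA12b13

theorem checkActA12j9n14 : allUp certA.actOK' (9 + 1) 105472 = true :=
  allUp_join (by decide +kernel) checkActA12b14 checkActA12b15

theorem checkActA12j10n0 : allUp certA.actOK' (10 + 1) 98304 = true :=
  allUp_join (by decide +kernel) checkActA12j9n0 checkActA12j9n2

theorem checkActA12j10n2 : allUp certA.actOK' (10 + 1) 100352 = true :=
  allUp_join (by decide +kernel) checkActA12j9n4 checkActA12j9n6

theorem checkActA12j10n4 : allUp certA.actOK' (10 + 1) 102400 = true :=
  allUp_join (by decide +kernel) checkActA12j9n8 checkActA12j9n10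

theorem checkActA12j10n6 : allUp certA.actOK' (10 + 1) 104448 = true :=
  allUp_join (by decide +kernel) checkActA12j9n12 checkActA12j9n14

theorem checkActA12j11n0 : allUp certA.actOK' (11 + 1) 98304 = true :=
  allUp_join (by decide +kernel) checkActA12j10n0 checkActA12j10n2

theorem checkActA12j11n2 : allUp certA.actOK' (11 + 1) 102400 = true :=
  allUp_join (by decide +kernel) checkActA12j10n4 checkActA12j10n6

theorem checkActA12 : allUp certA.actOK' (12 + 1) 98304 = true :=
  allUp_join (by decide +kernel) checkActA12j11n0 checkActA12j11n2

end CfsgLib.ONPres
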