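import Cfsg.Agent.Lib.CosetEnum.OrbitTables
import Cfsg.Agent.Lib.ONPres.DataA

/-!
Kernel check of consecutive blocks.
-/

set_option autoImplicit false
set_option Elab.async false
set_option linter.style.longLine false

namespace CfsgLib.ONPres
open CfsgLib.CosetEnum

theorem checkActA14b0 : allUp certA.actOK' 9 114688 = true := by decide +kernel

theorem checkActA14b1 : allUp certA.actOK' 9 115200 = true := by decide +kernel

theorem checkActA14b2 : allUp certA.actOK' 9 115712 = true := by decide +kernel

theorem checkActA14b3 : allUp certA.actOK' 9 116224 = true := by decide +kernel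

theorem checkActA14b4 : allUp certA.actOK' 9 116736 = true := by decide +kernel

theorem checkActA14b5 : allUp certA.actOK' 9 117248 = true := by decide +kernel

theorem checkActA14b6 : allUp certA.actOK' 9 117760 = true := by decide +kernel

theorem checkActA14b7 : allUp certA.actOK' 9 118272 = true := by decide +kernel

theorem checkActA14b8 : allUp certA.actOK' 9 118784 = true := by decide +kernel

theorem checkActA14b9 : allUp certA.actOK' 9 119296 = true := by decide +kernel

theorem checkActA14b10 : allUp certA.actOK' 9 119808 = true := by decide +kernel

theorem checkActA14b11 : allUp certA.actOK' 9 120320 = true := by decide +kernel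

theorem checkActA14b12 : allUp certA.actOK' 9 120832 = true := by decide +kernel

theorem checkActA14b13 : allUp certA.actOK' 9 121344 = true := by decide +kernel

theorem checkActA14b14 : allUp certA.actOK' 9 121856 = true := by decide +kernel

theorem checkActA14b15 : allUp certA.actOK' 9 122368 = true := by decide +kernel

theorem checkActA14j9n0 : allUp certA.actOK' (9 + 1) 114688 = true :=
  allUp_join (by decide +kernel) checkActA14b0 checkActA14b1

theorem checkActA14j9n2 : allUp certA.actOK' (9 + 1) 115712 = true :=
  allUp_join (by decide +kernel) checkActA14b2 checkActA14b3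

theorem checkActA14j9n4 : allUp certA.actOK' (9 + 1) 116736 = true :=
  allUp_join (by decide +kernel) checkActA14b4 checkActA14b5

theorem checkActA14j9n6 : allUp certA.actOK' (9 + 1) 117760 = true :=
  allUp_join (by decide +kernel) checkActA14b6 checkActA14b7

theorem checkActA14j9n8 : allUp certA.actOK' (9 + 1) 118784 = true :=
  allUp_join (by decide +kernel) checkActA14b8 checkActA14b9

theorem checkActA14j9n10 : allUp certA.actOK' (9 + 1) 119808 = true :=
  allUp_join (by decide +kernel) checkActA14b10 checkActA14b11

theorem checkActA14j9n12 : allUp certA.actOK' (9 + 1) 120832 = true :=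
  allUp_join (by decide +kernel) checkActA14b12 checkActA14b13

theorem checkActA14j9n14 : allUp certA.actOK' (9 + 1) 121856 = true :=
  allUp_join (by decide +kernel) checkActA14b14 checkActA14b15

theorem checkActA14j10n0 : allUp certA.actOK' (10 + 1) 114688 = true :=
  allUp_join (by decide +kernel) checkActA14j9n0 checkActA14j9n2

theorem checkActA14j10n2 : allUp certA.actOK' (10 + 1) 116736 = true :=
  allUp_join (by decide +kernel) checkActA14j9n4 checkActA14j9n6

theorem checkActA14j10n4 : allUp certA.actOK' (10 + 1) 118784 = true :=
  allUp_join (by decide +kernel) checkActA14j9n8 checkActA14j9n10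

theorem checkActA14j10n6 : allUp certA.actOK' (10 + 1) 120832 = true :=
  allUp_join (by decide +kernel) checkActA14j9n12 checkActA14j9n14

theorem checkActA14j11n0 : allUp certA.actOK' (11 + 1) 114688 = true :=
  allUp_join (by decide +kernel) checkActA14j10n0 checkActA14j10n2

theorem checkActA14j11n2 : allUp certA.actOK' (11 + 1) 118784 = true :=
  allUp_join (by decide +kernel) checkActA14j10n4 checkActA14j10n6

theorem checkActA14 : allUp certA.actOK' (12 + 1) 114688 = true :=
  allUp_join (by decide +kernel) checkActA14j11n0 checkActA14j11n2

end CfsgLib.ONPres
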