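import Cfsg.Agent.Lib.CosetEnum.OrbitTables
import Cfsg.Agent.Lib.ONPres.DataA

/-!
Kernel check of consecutive blocks.
-/

set_option autoImplicit false
set_option Elab.async false
set_option linter.style.longLine false

namespace CfsgLib.ONPres
open CfsgLib.CosetEnum

theorem checkActA2b0 : allUp certA.actOK' 9 16384 = true := by decide +kernel

theorem checkActA2b1 : allUp certA.actOK' 9 16896 = true := by decide +kernel

theorem checkActA2b2 : allUp certA.actOK' 9 17408 = true := by decide +kernel

theorem checkActA2b3 : allUp certA.actOK' 9 17920 = true := by decide +kernel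

theorem checkActA2b4 : allUp certA.actOK' 9 18432 = true := by decide +kernel

theorem checkActA2b5 : allUp certA.actOK' 9 18944 = true := by decide +kernel

theorem checkActA2b6 : allUp certA.actOK' 9 19456 = true := by decide +kernel

theorem checkActA2b7 : allUp certA.actOK' 9 19968 = true := by decide +kernel

theorem checkActA2b8 : allUp certA.actOK' 9 20480 = true := by decide +kernel

theorem checkActA2b9 : allUp certA.actOK' 9 20992 = true := by decide +kernel

theorem checkActA2b10 : allUp certA.actOK' 9 21504 = true := by decide +kernel

theorem checkActA2b11 : allUp certA.actOK' 9 22016 = true := by decide +kernel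

theorem checkActA2b12 : allUp certA.actOK' 9 22528 = true := by decide +kernel

theorem checkActA2b13 : allUp certA.actOK' 9 23040 = true := by decide +kernel

theorem checkActA2b14 : allUp certA.actOK' 9 23552 = true := by decide +kernel

theorem checkActA2b15 : allUp certA.actOK' 9 24064 = true := by decide +kernel

theorem checkActA2j9n0 : allUp certA.actOK' (9 + 1) 16384 = true :=
  allUp_join (by decide +kernel) checkActA2b0 checkActA2b1

theorem checkActA2j9n2 : allUp certA.actOK' (9 + 1) 17408 = true :=
  allUp_join (by decide +kernel) checkActA2b2 checkActA2b3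

theorem checkActA2j9n4 : allUp certA.actOK' (9 + 1) 18432 = true :=
  allUp_join (by decide +kernel) checkActA2b4 checkActA2b5

theorem checkActA2j9n6 : allUp certA.actOK' (9 + 1) 19456 = true :=
  allUp_join (by decide +kernel) checkActA2b6 checkActA2b7

theorem checkActA2j9n8 : allUp certA.actOK' (9 + 1) 20480 = true :=
  allUp_join (by decide +kernel) checkActA2b8 checkActA2b9

theorem checkActA2j9n10 : allUp certA.actOK' (9 + 1) 21504 = true :=
  allUp_join (by decide +kernel) checkActA2b10 checkActA2b11

theorem checkActA2j9n12 : allUp certA.actOK' (9 + 1) 22528 = true :=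
  allUp_join (by decide +kernel) checkActA2b12 checkActA2b13

theorem checkActA2j9n14 : allUp certA.actOK' (9 + 1) 23552 = true :=
  allUp_join (by decide +kernel) checkActA2b14 checkActA2b15

theorem checkActA2j10n0 : allUp certA.actOK' (10 + 1) 16384 = true :=
  allUp_join (by decide +kernel) checkActA2j9n0 checkActA2j9n2

theorem checkActA2j10n2 : allUp certA.actOK' (10 + 1) 18432 = true :=
  allUp_join (by decide +kernel) checkActA2j9n4 checkActA2j9n6

theorem checkActA2j10n4 : allUp certA.actOK' (10 + 1) 20480 = true :=
  allUp_join (by decide +kernel) checkActA2j9n8 checkActA2j9n10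

theorem checkActA2j10n6 : allUp certA.actOK' (10 + 1) 22528 = true :=
  allUp_join (by decide +kernel) checkActA2j9n12 checkActA2j9n14

theorem checkActA2j11n0 : allUp certA.actOK' (11 + 1) 16384 = true :=
  allUp_join (by decide +kernel) checkActA2j10n0 checkActA2j10n2

theorem checkActA2j11n2 : allUp certA.actOK' (11 + 1) 20480 = true :=
  allUp_join (by decide +kernel) checkActA2j10n4 checkActA2j10n6

theorem checkActA2 : allUp certA.actOK' (12 + 1) 16384 = true :=
  allUp_join (by decide +kernel) checkActA2j11n0 checkActA2j11n2

end CfsgLib.ONPres
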