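import Cfsg.Agent.Lib.CosetEnum.OrbitTables
import Cfsg.Agent.Lib.ONPres.DataA

/-!
Kernel check of consecutive blocks.
-/

set_option autoImplicit false
set_option Elab.async false
set_option linter.style.longLine false

namespace CfsgLib.ONPres
open CfsgLib.CosetEnum

theorem checkActA3b0 : allUp certA.actOK' 9 24576 = true := by decide +kernel

theorem checkActA3b1 : allUp certA.actOK' 9 25088 = true := by decide +kernel

theorem checkActA3b2 : allUp certA.actOK' 9 25600 = true := by decide +kernel

theorem checkActA3b3 : allUp certA.actOK' 9 26112 = true := by decide +kernel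

theorem checkActA3b4 : allUp certA.actOK' 9 26624 = true := by decide +kernel

theorem checkActA3b5 : allUp certA.actOK' 9 27136 = true := by decide +kernel

theorem checkActA3b6 : allUp certA.actOK' 9 27648 = true := by decide +kernel

theorem checkActA3b7 : allUp certA.actOK' 9 28160 = true := by decide +kernel

theorem checkActA3b8 : allUp certA.actOK' 9 28672 = true := by decide +kernel

theorem checkActA3b9 : allUp certA.actOK' 9 29184 = true := by decide +kernel

theorem checkActA3b10 : allUp certA.actOK' 9 29696 = true := by decide +kernel

theorem checkActA3b11 : allUp certA.actOK' 9 30208 = true := by decide +kernel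

theorem checkActA3b12 : allUp certA.actOK' 9 30720 = true := by decide +kernel

theorem checkActA3b13 : allUp certA.actOK' 9 31232 = true := by decide +kernel

theorem checkActA3b14 : allUp certA.actOK' 9 31744 = true := by decide +kernel

theorem checkActA3b15 : allUp certA.actOK' 9 32256 = true := by decide +kernel

theorem checkActA3j9n0 : allUp certA.actOK' (9 + 1) 24576 = true :=
  allUp_join (by decide +kernel) checkActA3b0 checkActA3b1

theorem checkActA3j9n2 : allUp certA.actOK' (9 + 1) 25600 = true :=
  allUp_join (by decide +kernel) checkActA3b2 checkActA3b3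

theorem checkActA3j9n4 : allUp certA.actOK' (9 + 1) 26624 = true :=
  allUp_join (by decide +kernel) checkActA3b4 checkActA3b5

theorem checkActA3j9n6 : allUp certA.actOK' (9 + 1) 27648 = true :=
  allUp_join (by decide +kernel) checkActA3b6 checkActA3b7

theorem checkActA3j9n8 : allUp certA.actOK' (9 + 1) 28672 = true :=
  allUp_join (by decide +kernel) checkActA3b8 checkActA3b9

theorem checkActA3j9n10 : allUp certA.actOK' (9 + 1) 29696 = true :=
  allUp_join (by decide +kernel) checkActA3b10 checkActA3b11

theorem checkActA3j9n12 : allUp certA.actOK' (9 + 1) 30720 = true :=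
  allUp_join (by decide +kernel) checkActA3b12 checkActA3b13

theorem checkActA3j9n14 : allUp certA.actOK' (9 + 1) 31744 = true :=
  allUp_join (by decide +kernel) checkActA3b14 checkActA3b15

theorem checkActA3j10n0 : allUp certA.actOK' (10 + 1) 24576 = true :=
  allUp_join (by decide +kernel) checkActA3j9n0 checkActA3j9n2

theorem checkActA3j10n2 : allUp certA.actOK' (10 + 1) 26624 = true :=
  allUp_join (by decide +kernel) checkActA3j9n4 checkActA3j9n6

theorem checkActA3j10n4 : allUp certA.actOK' (10 + 1) 28672 = true :=
  allUp_join (by decide +kernel) checkActA3j9n8 checkActA3j9n10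

theorem checkActA3j10n6 : allUp certA.actOK' (10 + 1) 30720 = true :=
  allUp_join (by decide +kernel) checkActA3j9n12 checkActA3j9n14

theorem checkActA3j11n0 : allUp certA.actOK' (11 + 1) 24576 = true :=
  allUp_join (by decide +kernel) checkActA3j10n0 checkActA3j10n2

theorem checkActA3j11n2 : allUp certA.actOK' (11 + 1) 28672 = true :=
  allUp_join (by decide +kernel) checkActA3j10n4 checkActA3j10n6

theorem checkActA3 : allUp certA.actOK' (12 + 1) 24576 = true :=
  allUp_join (by decide +kernel) checkActA3j11n0 checkActA3j11n2

end CfsgLib.ONPres
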