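import Cfsg.Agent.Lib.CosetEnum.OrbitTables
import Cfsg.Agent.Lib.ONPres.DataA

/-!
Kernel check of consecutive blocks.
-/

set_option autoImplicit false
set_option Elab.async false
set_option linter.style.longLine false

namespace CfsgLib.ONPres
open CfsgLib.CosetEnum

theorem checkActA4b0 : allUp certA.actOK' 9 32768 = true := by decide +kernel

theorem checkActA4b1 : allUp certA.actOK' 9 33280 = true := by decide +kernel

theorem checkActA4b2 : allUp certA.actOK' 9 33792 = true := by decide +kernel

theorem checkActA4b3 : allUp certA.actOK' 9 34304 = true := by decide +kernel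

theorem checkActA4b4 : allUp certA.actOK' 9 34816 = true := by decide +kernel

theorem checkActA4b5 : allUp certA.actOK' 9 35328 = true := by decide +kernel

theorem checkActA4b6 : allUp certA.actOK' 9 35840 = true := by decide +kernel

theorem checkActA4b7 : allUp certA.actOK' 9 36352 = true := by decide +kernel

theorem checkActA4b8 : allUp certA.actOK' 9 36864 = true := by decide +kernel

theorem checkActA4b9 : allUp certA.actOK' 9 37376 = true := by decide +kernel

theorem checkActA4b10 : allUp certA.actOK' 9 37888 = true := by decide +kernel

theorem checkActA4b11 : allUp certA.actOK' 9 38400 = true := by decide +kernel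

theorem checkActA4b12 : allUp certA.actOK' 9 38912 = true := by decide +kernel

theorem checkActA4b13 : allUp certA.actOK' 9 39424 = true := by decide +kernel

theorem checkActA4b14 : allUp certA.actOK' 9 39936 = true := by decide +kernel

theorem checkActA4b15 : allUp certA.actOK' 9 40448 = true := by decide +kernel

theorem checkActA4j9n0 : allUp certA.actOK' (9 + 1) 32768 = true :=
  allUp_join (by decide +kernel) checkActA4b0 checkActA4b1

theorem checkActA4j9n2 : allUp certA.actOK' (9 + 1) 33792 = true :=
  allUp_join (by decide +kernel) checkActA4b2 checkActA4b3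

theorem checkActA4j9n4 : allUp certA.actOK' (9 + 1) 34816 = true :=
  allUp_join (by decide +kernel) checkActA4b4 checkActA4b5

theorem checkActA4j9n6 : allUp certA.actOK' (9 + 1) 35840 = true :=
  allUp_join (by decide +kernel) checkActA4b6 checkActA4b7

theorem checkActA4j9n8 : allUp certA.actOK' (9 + 1) 36864 = true :=
  allUp_join (by decide +kernel) checkActA4b8 checkActA4b9

theorem checkActA4j9n10 : allUp certA.actOK' (9 + 1) 37888 = true :=
  allUp_join (by decide +kernel) checkActA4b10 checkActA4b11

theorem checkActA4j9n12 : allUp certA.actOK' (9 + 1) 38912 = true :=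
  allUp_join (by decide +kernel) checkActA4b12 checkActA4b13

theorem checkActA4j9n14 : allUp certA.actOK' (9 + 1) 39936 = true :=
  allUp_join (by decide +kernel) checkActA4b14 checkActA4b15

theorem checkActA4j10n0 : allUp certA.actOK' (10 + 1) 32768 = true :=
  allUp_join (by decide +kernel) checkActA4j9n0 checkActA4j9n2

theorem checkActA4j10n2 : allUp certA.actOK' (10 + 1) 34816 = true :=
  allUp_join (by decide +kernel) checkActA4j9n4 checkActA4j9n6

theorem checkActA4j10n4 : allUp certA.actOK' (10 + 1) 36864 = true :=
  allUp_join (by decide +kernel) checkActA4j9n8 checkActA4j9n10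

theorem checkActA4j10n6 : allUp certA.actOK' (10 + 1) 38912 = true :=
  allUp_join (by decide +kernel) checkActA4j9n12 checkActA4j9n14

theorem checkActA4j11n0 : allUp certA.actOK' (11 + 1) 32768 = true :=
  allUp_join (by decide +kernel) checkActA4j10n0 checkActA4j10n2

theorem checkActA4j11n2 : allUp certA.actOK' (11 + 1) 36864 = true :=
  allUp_join (by decide +kernel) checkActA4j10n4 checkActA4j10n6

theorem checkActA4 : allUp certA.actOK' (12 + 1) 32768 = true :=
  allUp_join (by decide +kernel) checkActA4j11n0 checkActA4j11n2

end CfsgLib.ONPres
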