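import Cfsg.Agent.Lib.CosetEnum.OrbitTables
import Cfsg.Agent.Lib.ONPres.DataA

/-!
Kernel check of consecutive blocks.
-/

set_option autoImplicit false
set_option Elab.async false
set_option linter.style.longLine false

namespace CfsgLib.ONPres
open CfsgLib.CosetEnum

theorem checkActA5b0 : allUp certA.actOK' 9 40960 = true := by decide +kernel

theorem checkActA5b1 : allUp certA.actOK' 9 41472 = true := by decide +kernel

theorem checkActA5b2 : allUp certA.actOK' 9 41984 = true := by decide +kernel

theorem checkActA5b3 : allUp certA.actOK' 9 42496 = true := by decide +kernel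

theorem checkActA5b4 : allUp certA.actOK' 9 43008 = true := by decide +kernel

theorem checkActA5b5 : allUp certA.actOK' 9 43520 = true := by decide +kernel

theorem checkActA5b6 : allUp certA.actOK' 9 44032 = true := by decide +kernel

theorem checkActA5b7 : allUp certA.actOK' 9 44544 = true := by decide +kernel

theorem checkActA5b8 : allUp certA.actOK' 9 45056 = true := by decide +kernel

theorem checkActA5b9 : allUp certA.actOK' 9 45568 = true := by decide +kernel

theorem checkActA5b10 : allUp certA.actOK' 9 46080 = true := by decide +kernel

theorem checkActA5b11 : allUp certA.actOK' 9 46592 = true := by decide +kernel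

theorem checkActA5b12 : allUp certA.actOK' 9 47104 = true := by decide +kernel

theorem checkActA5b13 : allUp certA.actOK' 9 47616 = true := by decide +kernel

theorem checkActA5b14 : allUp certA.actOK' 9 48128 = true := by decide +kernel

theorem checkActA5b15 : allUp certA.actOK' 9 48640 = true := by decide +kernel

theorem checkActA5j9n0 : allUp certA.actOK' (9 + 1) 40960 = true :=
  allUp_join (by decide +kernel) checkActA5b0 checkActA5b1

theorem checkActA5j9n2 : allUp certA.actOK' (9 + 1) 41984 = true :=
  allUp_join (by decide +kernel) checkActA5b2 checkActA5b3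

theorem checkActA5j9n4 : allUp certA.actOK' (9 + 1) 43008 = true :=
  allUp_join (by decide +kernel) checkActA5b4 checkActA5b5

theorem checkActA5j9n6 : allUp certA.actOK' (9 + 1) 44032 = true :=
  allUp_join (by decide +kernel) checkActA5b6 checkActA5b7

theorem checkActA5j9n8 : allUp certA.actOK' (9 + 1) 45056 = true :=
  allUp_join (by decide +kernel) checkActA5b8 checkActA5b9

theorem checkActA5j9n10 : allUp certA.actOK' (9 + 1) 46080 = true :=
  allUp_join (by decide +kernel) checkActA5b10 checkActA5b11

theorem checkActA5j9n12 : allUp certA.actOK' (9 + 1) 47104 = true :=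
  allUp_join (by decide +kernel) checkActA5b12 checkActA5b13

theorem checkActA5j9n14 : allUp certA.actOK' (9 + 1) 48128 = true :=
  allUp_join (by decide +kernel) checkActA5b14 checkActA5b15

theorem checkActA5j10n0 : allUp certA.actOK' (10 + 1) 40960 = true :=
  allUp_join (by decide +kernel) checkActA5j9n0 checkActA5j9n2

theorem checkActA5j10n2 : allUp certA.actOK' (10 + 1) 43008 = true :=
  allUp_join (by decide +kernel) checkActA5j9n4 checkActA5j9n6

theorem checkActA5j10n4 : allUp certA.actOK' (10 + 1) 45056 = true :=
  allUp_join (by decide +kernel) checkActA5j9n8 checkActA5j9n10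

theorem checkActA5j10n6 : allUp certA.actOK' (10 + 1) 47104 = true :=
  allUp_join (by decide +kernel) checkActA5j9n12 checkActA5j9n14

theorem checkActA5j11n0 : allUp certA.actOK' (11 + 1) 40960 = true :=
  allUp_join (by decide +kernel) checkActA5j10n0 checkActA5j10n2

theorem checkActA5j11n2 : allUp certA.actOK' (11 + 1) 45056 = true :=
  allUp_join (by decide +kernel) checkActA5j10n4 checkActA5j10n6

theorem checkActA5 : allUp certA.actOK' (12 + 1) 40960 = true :=
  allUp_join (by decide +kernel) checkActA5j11n0 checkActA5j11n2

end CfsgLib.ONPres
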