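import Cfsg.Agent.Lib.CosetEnum.OrbitTables
import Cfsg.Agent.Lib.ONPres.DataA

/-!
Kernel check of consecutive blocks.
-/

set_option autoImplicit false
set_option Elab.async false
set_option linter.style.longLine false

namespace CfsgLib.ONPres
open CfsgLib.CosetEnum

theorem checkActA6b0 : allUp certA.actOK' 9 49152 = true := by decide +kernel

theorem checkActA6b1 : allUp certA.actOK' 9 49664 = true := by decide +kernel

theorem checkActA6b2 : allUp certA.actOK' 9 50176 = true := by decide +kernel

theorem checkActA6b3 : allUp certA.actOK' 9 50688 = true := by decide +kernel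

theorem checkActA6b4 : allUp certA.actOK' 9 51200 = true := by decide +kernel

theorem checkActA6b5 : allUp certA.actOK' 9 51712 = true := by decide +kernel

theorem checkActA6b6 : allUp certA.actOK' 9 52224 = true := by decide +kernel

theorem checkActA6b7 : allUp certA.actOK' 9 52736 = true := by decide +kernel

theorem checkActA6b8 : allUp certA.actOK' 9 53248 = true := by decide +kernel

theorem checkActA6b9 : allUp certA.actOK' 9 53760 = true := by decide +kernel

theorem checkActA6b10 : allUp certA.actOK' 9 54272 = true := by decide +kernel

theorem checkActA6b11 : allUp certA.actOK' 9 54784 = true := by decide +kernel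

theorem checkActA6b12 : allUp certA.actOK' 9 55296 = true := by decide +kernel

theorem checkActA6b13 : allUp certA.actOK' 9 55808 = true := by decide +kernel

theorem checkActA6b14 : allUp certA.actOK' 9 56320 = true := by decide +kernel

theorem checkActA6b15 : allUp certA.actOK' 9 56832 = true := by decide +kernel

theorem checkActA6j9n0 : allUp certA.actOK' (9 + 1) 49152 = true :=
  allUp_join (by decide +kernel) checkActA6b0 checkActA6b1

theorem checkActA6j9n2 : allUp certA.actOK' (9 + 1) 50176 = true :=
  allUp_join (by decide +kernel) checkActA6b2 checkActA6b3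

theorem checkActA6j9n4 : allUp certA.actOK' (9 + 1) 51200 = true :=
  allUp_join (by decide +kernel) checkActA6b4 checkActA6b5

theorem checkActA6j9n6 : allUp certA.actOK' (9 + 1) 52224 = true :=
  allUp_join (by decide +kernel) checkActA6b6 checkActA6b7

theorem checkActA6j9n8 : allUp certA.actOK' (9 + 1) 53248 = true :=
  allUp_join (by decide +kernel) checkActA6b8 checkActA6b9

theorem checkActA6j9n10 : allUp certA.actOK' (9 + 1) 54272 = true :=
  allUp_join (by decide +kernel) checkActA6b10 checkActA6b11

theorem checkActA6j9n12 : allUp certA.actOK' (9 + 1) 55296 = true :=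
  allUp_join (by decide +kernel) checkActA6b12 checkActA6b13

theorem checkActA6j9n14 : allUp certA.actOK' (9 + 1) 56320 = true :=
  allUp_join (by decide +kernel) checkActA6b14 checkActA6b15

theorem checkActA6j10n0 : allUp certA.actOK' (10 + 1) 49152 = true :=
  allUp_join (by decide +kernel) checkActA6j9n0 checkActA6j9n2

theorem checkActA6j10n2 : allUp certA.actOK' (10 + 1) 51200 = true :=
  allUp_join (by decide +kernel) checkActA6j9n4 checkActA6j9n6

theorem checkActA6j10n4 : allUp certA.actOK' (10 + 1) 53248 = true :=
  allUp_join (by decide +kernel) checkActA6j9n8 checkActA6j9n10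

theorem checkActA6j10n6 : allUp certA.actOK' (10 + 1) 55296 = true :=
  allUp_join (by decide +kernel) checkActA6j9n12 checkActA6j9n14

theorem checkActA6j11n0 : allUp certA.actOK' (11 + 1) 49152 = true :=
  allUp_join (by decide +kernel) checkActA6j10n0 checkActA6j10n2

theorem checkActA6j11n2 : allUp certA.actOK' (11 + 1) 53248 = true :=
  allUp_join (by decide +kernel) checkActA6j10n4 checkActA6j10n6

theorem checkActA6 : allUp certA.actOK' (12 + 1) 49152 = true :=
  allUp_join (by decide +kernel) checkActA6j11n0 checkActA6j11n2

end CfsgLib.ONPres
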