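import Cfsg.Agent.Lib.CosetEnum.OrbitTables
import Cfsg.Agent.Lib.ONPres.DataA

/-!
Kernel check of consecutive blocks.
-/

set_option autoImplicit false
set_option Elab.async false
set_option linter.style.longLine false

namespace CfsgLib.ONPres
open CfsgLib.CosetEnum

theorem checkActA7b0 : allUp certA.actOK' 9 57344 = true := by decide +kernel

theorem checkActA7b1 : allUp certA.actOK' 9 57856 = true := by decide +kernel

theorem checkActA7b2 : allUp certA.actOK' 9 58368 = true := by decide +kernel

theorem checkActA7b3 : allUp certA.actOK' 9 58880 = true := by decide +kernel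

theorem checkActA7b4 : allUp certA.actOK' 9 59392 = true := by decide +kernel

theorem checkActA7b5 : allUp certA.actOK' 9 59904 = true := by decide +kernel

theorem checkActA7b6 : allUp certA.actOK' 9 60416 = true := by decide +kernel

theorem checkActA7b7 : allUp certA.actOK' 9 60928 = true := by decide +kernel

theorem checkActA7b8 : allUp certA.actOK' 9 61440 = true := by decide +kernel

theorem checkActA7b9 : allUp certA.actOK' 9 61952 = true := by decide +kernel

theorem checkActA7b10 : allUp certA.actOK' 9 62464 = true := by decide +kernel

theorem checkActA7b11 : allUp certA.actOK' 9 62976 = true := by decide +kernel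

theorem checkActA7b12 : allUp certA.actOK' 9 63488 = true := by decide +kernel

theorem checkActA7b13 : allUp certA.actOK' 9 64000 = true := by decide +kernel

theorem checkActA7b14 : allUp certA.actOK' 9 64512 = true := by decide +kernel

theorem checkActA7b15 : allUp certA.actOK' 9 65024 = true := by decide +kernel

theorem checkActA7j9n0 : allUp certA.actOK' (9 + 1) 57344 = true :=
  allUp_join (by decide +kernel) checkActA7b0 checkActA7b1

theorem checkActA7j9n2 : allUp certA.actOK' (9 + 1) 58368 = true :=
  allUp_join (by decide +kernel) checkActA7b2 checkActA7b3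

theorem checkActA7j9n4 : allUp certA.actOK' (9 + 1) 59392 = true :=
  allUp_join (by decide +kernel) checkActA7b4 checkActA7b5

theorem checkActA7j9n6 : allUp certA.actOK' (9 + 1) 60416 = true :=
  allUp_join (by decide +kernel) checkActA7b6 checkActA7b7

theorem checkActA7j9n8 : allUp certA.actOK' (9 + 1) 61440 = true :=
  allUp_join (by decide +kernel) checkActA7b8 checkActA7b9

theorem checkActA7j9n10 : allUp certA.actOK' (9 + 1) 62464 = true :=
  allUp_join (by decide +kernel) checkActA7b10 checkActA7b11

theorem checkActA7j9n12 : allUp certA.actOK' (9 + 1) 63488 = true :=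
  allUp_join (by decide +kernel) checkActA7b12 checkActA7b13

theorem checkActA7j9n14 : allUp certA.actOK' (9 + 1) 64512 = true :=
  allUp_join (by decide +kernel) checkActA7b14 checkActA7b15

theorem checkActA7j10n0 : allUp certA.actOK' (10 + 1) 57344 = true :=
  allUp_join (by decide +kernel) checkActA7j9n0 checkActA7j9n2

theorem checkActA7j10n2 : allUp certA.actOK' (10 + 1) 59392 = true :=
  allUp_join (by decide +kernel) checkActA7j9n4 checkActA7j9n6

theorem checkActA7j10n4 : allUp certA.actOK' (10 + 1) 61440 = true :=
  allUp_join (by decide +kernel) checkActA7j9n8 checkActA7j9n10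

theorem checkActA7j10n6 : allUp certA.actOK' (10 + 1) 63488 = true :=
  allUp_join (by decide +kernel) checkActA7j9n12 checkActA7j9n14

theorem checkActA7j11n0 : allUp certA.actOK' (11 + 1) 57344 = true :=
  allUp_join (by decide +kernel) checkActA7j10n0 checkActA7j10n2

theorem checkActA7j11n2 : allUp certA.actOK' (11 + 1) 61440 = true :=
  allUp_join (by decide +kernel) checkActA7j10n4 checkActA7j10n6

theorem checkActA7 : allUp certA.actOK' (12 + 1) 57344 = true :=
  allUp_join (by decide +kernel) checkActA7j11n0 checkActA7j11n2

end CfsgLib.ONPres
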