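import Cfsg.Agent.Lib.CosetEnum.OrbitTables
import Cfsg.Agent.Lib.ONPres.DataA

/-!
Kernel check of consecutive blocks.
-/

set_option autoImplicit false
set_option Elab.async false
set_option linter.style.longLine false

namespace CfsgLib.ONPres
open CfsgLib.CosetEnum

theorem checkActA8b0 : allUp certA.actOK' 9 65536 = true := by decide +kernel

theorem checkActA8b1 : allUp certA.actOK' 9 66048 = true := by decide +kernel

theorem checkActA8b2 : allUp certA.actOK' 9 66560 = true := by decide +kernel

theorem checkActA8b3 : allUp certA.actOK' 9 67072 = true := by decide +kernel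

theorem checkActA8b4 : allUp certA.actOK' 9 67584 = true := by decide +kernel

theorem checkActA8b5 : allUp certA.actOK' 9 68096 = true := by decide +kernel

theorem checkActA8b6 : allUp certA.actOK' 9 68608 = true := by decide +kernel

theorem checkActA8b7 : allUp certA.actOK' 9 69120 = true := by decide +kernel

theorem checkActA8b8 : allUp certA.actOK' 9 69632 = true := by decide +kernel

theorem checkActA8b9 : allUp certA.actOK' 9 70144 = true := by decide +kernel

theorem checkActA8b10 : allUp certA.actOK' 9 70656 = true := by decide +kernel

theorem checkActA8b11 : allUp certA.actOK' 9 71168 = true := by decide +kernel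

theorem checkActA8b12 : allUp certA.actOK' 9 71680 = true := by decide +kernel

theorem checkActA8b13 : allUp certA.actOK' 9 72192 = true := by decide +kernel

theorem checkActA8b14 : allUp certA.actOK' 9 72704 = true := by decide +kernel

theorem checkActA8b15 : allUp certA.actOK' 9 73216 = true := by decide +kernel

theorem checkActA8j9n0 : allUp certA.actOK' (9 + 1) 65536 = true :=
  allUp_join (by decide +kernel) checkActA8b0 checkActA8b1

theorem checkActA8j9n2 : allUp certA.actOK' (9 + 1) 66560 = true :=
  allUp_join (by decide +kernel) checkActA8b2 checkActA8b3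

theorem checkActA8j9n4 : allUp certA.actOK' (9 + 1) 67584 = true :=
  allUp_join (by decide +kernel) checkActA8b4 checkActA8b5

theorem checkActA8j9n6 : allUp certA.actOK' (9 + 1) 68608 = true :=
  allUp_join (by decide +kernel) checkActA8b6 checkActA8b7

theorem checkActA8j9n8 : allUp certA.actOK' (9 + 1) 69632 = true :=
  allUp_join (by decide +kernel) checkActA8b8 checkActA8b9

theorem checkActA8j9n10 : allUp certA.actOK' (9 + 1) 70656 = true :=
  allUp_join (by decide +kernel) checkActA8b10 checkActA8b11

theorem checkActA8j9n12 : allUp certA.actOK' (9 + 1) 71680 = true :=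
  allUp_join (by decide +kernel) checkActA8b12 checkActA8b13

theorem checkActA8j9n14 : allUp certA.actOK' (9 + 1) 72704 = true :=
  allUp_join (by decide +kernel) checkActA8b14 checkActA8b15

theorem checkActA8j10n0 : allUp certA.actOK' (10 + 1) 65536 = true :=
  allUp_join (by decide +kernel) checkActA8j9n0 checkActA8j9n2

theorem checkActA8j10n2 : allUp certA.actOK' (10 + 1) 67584 = true :=
  allUp_join (by decide +kernel) checkActA8j9n4 checkActA8j9n6

theorem checkActA8j10n4 : allUp certA.actOK' (10 + 1) 69632 = true :=
  allUp_join (by decide +kernel) checkActA8j9n8 checkActA8j9n10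

theorem checkActA8j10n6 : allUp certA.actOK' (10 + 1) 71680 = true :=
  allUp_join (by decide +kernel) checkActA8j9n12 checkActA8j9n14

theorem checkActA8j11n0 : allUp certA.actOK' (11 + 1) 65536 = true :=
  allUp_join (by decide +kernel) checkActA8j10n0 checkActA8j10n2

theorem checkActA8j11n2 : allUp certA.actOK' (11 + 1) 69632 = true :=
  allUp_join (by decide +kernel) checkActA8j10n4 checkActA8j10n6

theorem checkActA8 : allUp certA.actOK' (12 + 1) 65536 = true :=
  allUp_join (by decide +kernel) checkActA8j11n0 checkActA8j11n2

end CfsgLib.ONPres
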