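import Cfsg.Agent.Lib.CosetEnum.OrbitTables
import Cfsg.Agent.Lib.ONPres.DataA

/-!
Kernel check of consecutive blocks.
-/

set_option autoImplicit false
set_option Elab.async false
set_option linter.style.longLine false

namespace CfsgLib.ONPres
open CfsgLib.CosetEnum

theorem checkActA9b0 : allUp certA.actOK' 9 73728 = true := by decide +kernel

theorem checkActA9b1 : allUp certA.actOK' 9 74240 = true := by decide +kernel

theorem checkActA9b2 : allUp certA.actOK' 9 74752 = true := by decide +kernel

theorem checkActA9b3 : allUp certA.actOK' 9 75264 = true := by decide +kernel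

theorem checkActA9b4 : allUp certA.actOK' 9 75776 = true := by decide +kernel

theorem checkActA9b5 : allUp certA.actOK' 9 76288 = true := by decide +kernel

theorem checkActA9b6 : allUp certA.actOK' 9 76800 = true := by decide +kernel

theorem checkActA9b7 : allUp certA.actOK' 9 77312 = true := by decide +kernel

theorem checkActA9b8 : allUp certA.actOK' 9 77824 = true := by decide +kernel

theorem checkActA9b9 : allUp certA.actOK' 9 78336 = true := by decide +kernel

theorem checkActA9b10 : allUp certA.actOK' 9 78848 = true := by decide +kernel

theorem checkActA9b11 : allUp certA.actOK' 9 79360 = true := by decide +kernel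

theorem checkActA9b12 : allUp certA.actOK' 9 79872 = true := by decide +kernel

theorem checkActA9b13 : allUp certA.actOK' 9 80384 = true := by decide +kernel

theorem checkActA9b14 : allUp certA.actOK' 9 80896 = true := by decide +kernel

theorem checkActA9b15 : allUp certA.actOK' 9 81408 = true := by decide +kernel

theorem checkActA9j9n0 : allUp certA.actOK' (9 + 1) 73728 = true :=
  allUp_join (by decide +kernel) checkActA9b0 checkActA9b1

theorem checkActA9j9n2 : allUp certA.actOK' (9 + 1) 74752 = true :=
  allUp_join (by decide +kernel) checkActA9b2 checkActA9b3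

theorem checkActA9j9n4 : allUp certA.actOK' (9 + 1) 75776 = true :=
  allUp_join (by decide +kernel) checkActA9b4 checkActA9b5

theorem checkActA9j9n6 : allUp certA.actOK' (9 + 1) 76800 = true :=
  allUp_join (by decide +kernel) checkActA9b6 checkActA9b7

theorem checkActA9j9n8 : allUp certA.actOK' (9 + 1) 77824 = true :=
  allUp_join (by decide +kernel) checkActA9b8 checkActA9b9

theorem checkActA9j9n10 : allUp certA.actOK' (9 + 1) 78848 = true :=
  allUp_join (by decide +kernel) checkActA9b10 checkActA9b11

theorem checkActA9j9n12 : allUp certA.actOK' (9 + 1) 79872 = true :=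
  allUp_join (by decide +kernel) checkActA9b12 checkActA9b13

theorem checkActA9j9n14 : allUp certA.actOK' (9 + 1) 80896 = true :=
  allUp_join (by decide +kernel) checkActA9b14 checkActA9b15

theorem checkActA9j10n0 : allUp certA.actOK' (10 + 1) 73728 = true :=
  allUp_join (by decide +kernel) checkActA9j9n0 checkActA9j9n2

theorem checkActA9j10n2 : allUp certA.actOK' (10 + 1) 75776 = true :=
  allUp_join (by decide +kernel) checkActA9j9n4 checkActA9j9n6

theorem checkActA9j10n4 : allUp certA.actOK' (10 + 1) 77824 = true :=
  allUp_join (by decide +kernel) checkActA9j9n8 checkActA9j9n10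

theorem checkActA9j10n6 : allUp certA.actOK' (10 + 1) 79872 = true :=
  allUp_join (by decide +kernel) checkActA9j9n12 checkActA9j9n14

theorem checkActA9j11n0 : allUp certA.actOK' (11 + 1) 73728 = true :=
  allUp_join (by decide +kernel) checkActA9j10n0 checkActA9j10n2

theorem checkActA9j11n2 : allUp certA.actOK' (11 + 1) 77824 = true :=
  allUp_join (by decide +kernel) checkActA9j10n4 checkActA9j10n6

theorem checkActA9 : allUp certA.actOK' (12 + 1) 73728 = true :=
  allUp_join (by decide +kernel) checkActA9j11n0 checkActA9j11n2

end CfsgLib.ONPres
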