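import Cfsg.Agent.Lib.CosetEnum.OrbitTables
import Cfsg.Agent.Lib.ONPres.ActA0
import Cfsg.Agent.Lib.ONPres.ActA1
import Cfsg.Agent.Lib.ONPres.ActA2
import Cfsg.Agent.Lib.ONPres.ActA3
import Cfsg.Agent.Lib.ONPres.ActA4
import Cfsg.Agent.Lib.ONPres.ActA5
import Cfsg.Agent.Lib.ONPres.ActA6
import Cfsg.Agent.Lib.ONPres.ActA7
import Cfsg.Agent.Lib.ONPres.ActA8
import Cfsg.Agent.Lib.ONPres.ActA9
import Cfsg.Agent.Lib.ONPres.ActA10
import Cfsg.Agent.Lib.ONPres.ActA11
import Cfsg.Agent.Lib.ONPres.ActA12
import Cfsg.Agent.Lib.ONPres.ActA13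
import Cfsg.Agent.Lib.ONPres.ActA14

/-!
Blocks of a kernel check, together.
-/

set_option autoImplicit false
set_option linter.style.longLine false

namespace CfsgLib.ONPres
open CfsgLib.CosetEnum

theorem allActA : ∀ i < 15 * 2 ^ (9 + 4), certA.actOK' i = true :=
  allUp_blocks fun f hf => by
    match f, hf with
    | 0, _ => exact checkActA0
    | 1, _ => exact checkActA1
    | 2, _ => exact checkActA2
    | 3, _ => exact checkActA3
    | 4, _ => exact checkActA4
    | 5, _ => exact checkActA5
    | 6, _ => exact checkActA6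
    | 7, _ => exact checkActA7
    | 8, _ => exact checkActA8
    | 9, _ => exact checkActA9
    | 10, _ => exact checkActA10
    | 11, _ => exact checkActA11
    | 12, _ => exact checkActA12
    | 13, _ => exact checkActA13
    | 14, _ => exact checkActA14
    | n + 15, h => exact absurd h (by omega)

end CfsgLib.ONPres
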