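import Cfsg.Agent.Lib.CosetEnum.OrbitTables
import Cfsg.Agent.Lib.ONPres.DataA

/-!
Kernel check of consecutive blocks.
-/

set_option autoImplicit false
set_option Elab.async false
set_option linter.style.longLine false

namespace CfsgLib.ONPres
open CfsgLib.CosetEnum

theorem checkActA13b0 : allUp certA.actOK' 9 106496 = true := by decide +kernel

theorem checkActA13b1 : allUp certA.actOK' 9 107008 = true := by decide +kernel

theorem checkActA13b2 : allUp certA.actOK' 9 107520 = true := by decide +kernel

theorem checkActA13b3 : allUp certA.actOK' 9 108032 = true := by decide +kernel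

theorem checkActA13b4 : allUp certA.actOK' 9 108544 = true := by decide +kernel

theorem checkActA13b5 : allUp certA.actOK' 9 109056 = true := by decide +kernel

theorem checkActA13b6 : allUp certA.actOK' 9 109568 = true := by decide +kernel

theorem checkActA13b7 : allUp certA.actOK' 9 110080 = true := by decide +kernel

theorem checkActA13b8 : allUp certA.actOK' 9 110592 = true := by decide +kernel

theorem checkActA13b9 : allUp certA.actOK' 9 111104 = true := by decide +kernel

theorem checkActA13b10 : allUp certA.actOK' 9 111616 = true := by decide +kernel

theorem checkActA13b11 : allUp certA.actOK' 9 112128 = true := by decide +kernel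

theorem checkActA13b12 : allUp certA.actOK' 9 112640 = true := by decide +kernel

theorem checkActA13b13 : allUp certA.actOK' 9 113152 = true := by decide +kernel

theorem checkActA13b14 : allUp certA.actOK' 9 113664 = true := by decide +kernel

theorem checkActA13b15 : allUp certA.actOK' 9 114176 = true := by decide +kernel

theorem checkActA13j9n0 : allUp certA.actOK' (9 + 1) 106496 = true :=
  allUp_join (by decide +kernel) checkActA13b0 checkActA13b1

theorem checkActA13j9n2 : allUp certA.actOK' (9 + 1) 107520 = true :=
  allUp_join (by decide +kernel) checkActA13b2 checkActA13b3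

theorem checkActA13j9n4 : allUp certA.actOK' (9 + 1) 108544 = true :=
  allUp_join (by decide +kernel) checkActA13b4 checkActA13b5

theorem checkActA13j9n6 : allUp certA.actOK' (9 + 1) 109568 = true :=
  allUp_join (by decide +kernel) checkActA13b6 checkActA13b7

theorem checkActA13j9n8 : allUp certA.actOK' (9 + 1) 110592 = true :=
  allUp_join (by decide +kernel) checkActA13b8 checkActA13b9

theorem checkActA13j9n10 : allUp certA.actOK' (9 + 1) 111616 = true :=
  allUp_join (by decide +kernel) checkActA13b10 checkActA13b11

theorem checkActA13j9n12 : allUp certA.actOK' (9 + 1) 112640 = true :=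
  allUp_join (by decide +kernel) checkActA13b12 checkActA13b13

theorem checkActA13j9n14 : allUp certA.actOK' (9 + 1) 113664 = true :=
  allUp_join (by decide +kernel) checkActA13b14 checkActA13b15

theorem checkActA13j10n0 : allUp certA.actOK' (10 + 1) 106496 = true :=
  allUp_join (by decide +kernel) checkActA13j9n0 checkActA13j9n2

theorem checkActA13j10n2 : allUp certA.actOK' (10 + 1) 108544 = true :=
  allUp_join (by decide +kernel) checkActA13j9n4 checkActA13j9n6

theorem checkActA13j10n4 : allUp certA.actOK' (10 + 1) 110592 = true :=
  allUp_join (by decide +kernel) checkActA13j9n8 checkActA13j9n10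

theorem checkActA13j10n6 : allUp certA.actOK' (10 + 1) 112640 = true :=
  allUp_join (by decide +kernel) checkActA13j9n12 checkActA13j9n14

theorem checkActA13j11n0 : allUp certA.actOK' (11 + 1) 106496 = true :=
  allUp_join (by decide +kernel) checkActA13j10n0 checkActA13j10n2

theorem checkActA13j11n2 : allUp certA.actOK' (11 + 1) 110592 = true :=
  allUp_join (by decide +kernel) checkActA13j10n4 checkActA13j10n6

theorem checkActA13 : allUp certA.actOK' (12 + 1) 106496 = true :=
  allUp_join (by decide +kernel) checkActA13j11n0 checkActA13j11n2

end CfsgLib.ONPres
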