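import Cfsg.Agent.Lib.ONPres.AutDefs

/-!
Kernel checks of the candidates for the image of the second generator.
-/

set_option autoImplicit false
set_option Elab.async false

namespace CfsgLib.ONPres

open CfsgLib.CosetEnum

theorem autScan0 : ((List.range 9).all fun j => scanPair (9 * 0 + j)) = true := by decide +kernel

theorem autScan1 : ((List.range 9).all fun j => scanPair (9 * 1 + j)) = true := by decide +kernel

theorem autScan2 : ((List.range 9).all fun j => scanPair (9 * 2 + j)) = true := by decide +kernel

theorem autScan3 : ((List.range 9).all fun j => scanPair (9 * 3 + j)) = true := by decide +kernel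

theorem autScan4 : ((List.range 9).all fun j => scanPair (9 * 4 + j)) = true := by decide +kernel

theorem autScan5 : ((List.range 9).all fun j => scanPair (9 * 5 + j)) = true := by decide +kernel

theorem autScan6 : ((List.range 9).all fun j => scanPair (9 * 6 + j)) = true := by decide +kernel

theorem autScan7 : ((List.range 9).all fun j => scanPair (9 * 7 + j)) = true := by decide +kernel

theorem autScan8 : ((List.range 9).all fun j => scanPair (9 * 8 + j)) = true := by decide +kernel

theorem autScanAll (i : ℕ) (hi : i < 81) : scanPair i = true := by
  have key : ((List.range 9).all fun j => scanPair (9 * (i / 9) + j)) = true := by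
    have h9 : i / 9 < 9 := by omega
    rcases (show i / 9 = 0 ∨ i / 9 = 1 ∨ i / 9 = 2 ∨ i / 9 = 3 ∨ i / 9 = 4 ∨ i / 9 = 5 ∨ i / 9 = 6 ∨
        i / 9 = 7 ∨ i / 9 = 8 by omega) with e | e | e | e | e | e | e | e | e <;> rw [e]
    · exact autScan0
    · exact autScan1
    · exact autScan2
    · exact autScan3
    · exact autScan4
    · exact autScan5
    · exact autScan6
    · exact autScan7
    · exact autScan8
  simp only [List.all_eq_true, List.mem_range] at key
  have := key (i % 9) (Nat.mod_lt _ (by norm_num))
  rwa [Nat.div_add_mod] at this

end CfsgLib.ONPres
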