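import Cfsg.Agent.Lib.ONPres.AutElems
import Cfsg.Agent.Lib.ONPres.AutScan
import Cfsg.Agent.Lib.ONPres.HomOn
import Cfsg.Prelude.Def_KGroupFacts

/-!
The outer automorphism group of the presented O'Nan group has order two.
-/

set_option autoImplicit false

namespace CfsgLib.ONPres

open CfsgLib.CosetEnum Cfsg.Spor

/-- two elements and their inverses -/
def grp4 {G : Type*} [Group G] (a c : G) (i : ℕ) : G := [a, c, a⁻¹, c⁻¹].getD i 1

theorem map_grp4 {G G' : Type*} [Group G] [Group G'] (f : G →* G') (a c : G) {i : ℕ} (hi : i < 4) :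
    f (grp4 a c i) = grp4 (f a) (f c) i := by
  interval_cases i <;> simp [grp4]

theorem prodW_let4 (a c : List ℕ) {i : ℕ} (hi : i < 4) :
    prodW gen (let4 a c i) = grp4 (prodW gen a) (prodW gen c) i := by
  interval_cases i <;> simp [let4, grp4, modelA.revInv_eq]

theorem lettersOK_let4 {a c : List ℕ} (ha : lettersOK a = true) (hc : lettersOK c = true) {i : ℕ}
    (hi : i < 4) : lettersOK (let4 a c i) = true := by
  interval_cases i <;> simp [let4, ha, hc, lettersOK_revInv]

theorem prodW_grp4 (a c : List ℕ) {t : List ℕ} (ht : ∀ i ∈ t, i < 4) :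
    prodW gen (substW (let4 a c) t) = prodW (grp4 (prodW gen a) (prodW gen c)) t := by
  rw [prodW_substW]
  exact prodW_congr fun i hi => prodW_let4 a c (ht i hi)

/-- the known image of the second generator -/
def y2El : ON := prodW gen autY2

/-! ### Generation -/

theorem closure_xy : Subgroup.closure ({xEl, yEl} : Set ON) = ⊤ := by
  set K := Subgroup.closure ({xEl, yEl} : Set ON)
  have hx : xEl ∈ K := Subgroup.subset_closure (Or.inl rfl)
  have hy : yEl ∈ K := Subgroup.subset_closure (Or.inr rfl)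
  have hg4 : ∀ {a c : ON}, a ∈ K → c ∈ K → ∀ {i : ℕ}, i < 4 → grp4 a c i ∈ K := by
    intro a c ha hc i hi
    interval_cases i <;> simp [grp4, ha, hc]
  have hidx := autGIndices
  simp only [Bool.and_eq_true, List.all_eq_true, Nat.blt_eq] at hidx
  obtain ⟨⟨⟨hloop, hH⟩, hG⟩, -⟩ := hidx
  have hs : prodW gen autS ∈ K := by
    rw [eq_of_check lS (lettersOK_substW fun i hi => lettersOK_let4 lX lY (hloop i hi)) autLoopS,
      prodW_grp4 _ _ hloop]
    exact prodW_mem fun i hi => hg4 hx hy (hloop i hi)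
  have h6 : ∀ i < 6, gen i ∈ K := by
    intro i hi
    have hlen : autH.length = 6 := by decide +kernel
    have hm : autH.getD i [] ∈ autH := by
      rw [List.getD_eq_getElem _ _ (by omega)]
      exact List.getElem_mem _
    have hl1 : lettersOK [i] = true := by simp [lettersOK]; omega
    have e := eq_of_check (lettersOK_substW fun j hj => lettersOK_let4 lX lS (hH _ hm j hj)) hl1
      (List.all_eq_true.mp autGenH i (List.mem_range.mpr hi))
    rw [prodW_grp4 _ _ (hH _ hm)] at e
    rw [show gen i = prodW gen [i] by simp, ← e]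
    exact prodW_mem fun j hj => hg4 hx hs (hH _ hm j hj)
  rw [eq_top_iff, ← setupA.gen_top, Subgroup.closure_le]
  rintro _ ⟨i, hi, rfl⟩
  have hi8 : i < 8 := hi
  by_cases h : i < 6
  · exact h6 i h
  have hlen : autG.length = 2 := by decide +kernel
  have hm : autG.getD (i - 6) ([], []) ∈ autG := by
    rw [List.getD_eq_getElem _ _ (by omega)]
    exact List.getElem_mem _
  have hl1 : lettersOK [i - 6 + 6] = true := by simp [lettersOK]; omega
  have e := eq_of_check (lettersOK_append
    (lettersOK_substW fun j hj => lettersOK_let4 lX lY ((hG _ hm).1 j hj))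
    (letters_elems.2.2.2.2.2.2.2.2 _ hm)) hl1
    (List.all_eq_true.mp autGenG (i - 6) (List.mem_range.mpr (by omega)))
  rw [prodW_append, prodW_grp4 _ _ (hG _ hm).1, Nat.sub_add_cancel (by omega)] at e
  change gen i ∈ K
  rw [show gen i = prodW gen [i] by simp, ← e]
  exact mul_mem (prodW_mem fun j hj => hg4 hx hy ((hG _ hm).1 j hj))
    (prodW_mem fun j hj => h6 j ((hG _ hm).2 j hj))

theorem hom_ext {P : Type*} [Group P] {f g : ON →* P} (hx : f xEl = g xEl) (hy : f yEl = g yEl) :
    f = g := by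
  refine MonoidHom.eq_of_eqOn_dense closure_xy ?_
  rintro a (rfl | rfl)
  exacts [hx, hy]

/-! ### The elements commuting with `wEl` -/

/-- the elements fixing 0 and `ptB` -/
noncomputable def stab2 : Subgroup ON :=
  subA ⊓ (MulAction.stabilizer (Equiv.Perm (Fin certA.N)) ptB).comap rho

theorem mem_stab2 {g : ON} :
    g ∈ stab2 ↔ rho g setupA.base = setupA.base ∧ rho g ptB = ptB := by
  rw [stab2, Subgroup.mem_inf, setupA.mem_iff]
  rfl

theorem stab2_card : Nat.card stab2 ≤ 72 := by
  classical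
  have hfin := subA_card.1
  let T : Finset (Fin certA.N) := Finset.univ.filter fun p : Fin certA.N => orbTab.cls (p : ℕ) = 3
  have hT : T.card = 52136 := by
    have h := orbValid.size 2 (show 2 < 4 by norm_num)
    rw [countUp_eq] at h
    refine Eq.trans ?_ h
    rw [← Finset.card_map Fin.valEmbedding]
    refine congrArg Finset.card ?_
    ext q
    simp only [T, Finset.mem_map, Finset.mem_filter, Finset.mem_univ, true_and, Finset.mem_Ico,
      Fin.valEmbedding_apply, OrbTab.inCls, strict_eq, band_eq_true, ltB_iff]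
    constructor
    · rintro ⟨p, hp, rfl⟩
      exact ⟨⟨Nat.zero_le _, by have := pt_lt p; norm_num; omega⟩, p.2, by rw [hp]; rfl⟩
    · rintro ⟨-, hq, hc⟩
      exact ⟨⟨q, hq⟩, Nat.eq_of_beq_eq_true hc, rfl⟩
  have ht : ∀ p : T, ∃ h ∈ subA, rho h ptB = (p : Fin certA.N) := fun p =>
    (orbValid.orbit_iff setupA ptB p).mpr
      (autClsB.trans (Finset.mem_filter.mp p.2).2.symm)
  choose t ht1 ht2 using ht
  let f : T × stab2 → subA := fun q =>
    ⟨t q.1 * q.2, mul_mem (ht1 q.1) (Subgroup.mem_inf.mp q.2.2).1⟩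
  have hf : Function.Injective f := by
    rintro ⟨p, s⟩ ⟨p', s'⟩ e
    have e' : t p * (s : ON) = t p' * s' := congrArg Subtype.val e
    have hp := congrArg (fun g => rho g ptB) e'
    simp only [map_mul, Equiv.Perm.mul_apply, (mem_stab2.mp s.2).2, (mem_stab2.mp s'.2).2, ht2]
      at hp
    obtain rfl : p = p' := Subtype.ext hp
    exact Prod.ext rfl (Subtype.ext (mul_left_cancel e'))
  have := (Nat.card_le_card_of_injective f hf).trans subA_card.2
  rw [Nat.card_prod, Nat.card_eq_fintype_card, Fintype.card_coe, hT] at this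
  omega

theorem exists_stab {g : ON} (h0 : rho g setupA.base = setupA.base) (hB : rho g ptB = ptB) :
    ∃ s ∈ autStab, prodW gen s = g := by
  classical
  have hfin := subA_card.1
  haveI : Finite stab2 := Finite.of_injective (fun q : stab2 => (⟨q, (Subgroup.mem_inf.mp q.2).1⟩ : subA))
    fun a b e => Subtype.ext (congrArg (fun x : subA => (x : ON)) e)
  have hmem : ∀ i : Fin 72, autStab.getD i [] ∈ autStab := fun i => by
    rw [List.getD_eq_getElem _ _ (by rw [autStabLen]; exact i.2)]
    exact List.getElem_mem _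
  have hl : ∀ i : Fin 72, lettersOK (autStab.getD i []) = true := fun i =>
    letters_elems.2.2.2.2.2.2.1 _ (hmem i)
  let f : Fin 72 → stab2 := fun i => ⟨prodW gen (autStab.getD i []), by
    have h := List.all_eq_true.mp autStabFix _ (hmem i)
    rw [Bool.and_eq_true] at h
    exact mem_stab2.mpr
      ⟨Fin.ext (by rw [rho_act (hl i)]; exact Nat.eq_of_beq_eq_true h.1),
        Fin.ext (by rw [rho_act (hl i)]; exact Nat.eq_of_beq_eq_true h.2)⟩⟩
  have hlt : ∀ b, ∀ a < b, b < 72 → keyW (autStab.getD a []) < keyW (autStab.getD b []) := by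
    intro b
    induction b with
    | zero => intro a ha; omega
    | succ b ih =>
      intro a ha hb
      have hs := Nat.blt_eq.mp
        (List.all_eq_true.mp autStabKeys b (List.mem_range.mpr (by omega)))
      rcases Nat.lt_succ_iff_lt_or_eq.mp ha with h' | rfl
      · exact (ih a h' (by omega)).trans hs
      · exact hs
  have hf : Function.Injective f := by
    intro i k e
    have e' : prodW gen (autStab.getD i []) = prodW gen (autStab.getD k []) :=
      congrArg Subtype.val e
    have hpt : ∀ b, b < certA.N → act (autStab.getD i []) b = act (autStab.getD k []) b :=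
      fun b hb => by
        have h := rho_act (hl i) ⟨b, hb⟩
        rw [e', rho_act (hl k)] at h
        exact h.symm
    have hb : ([12, 4820, 46398].all fun b => Nat.blt b certA.N) = true := by decide +kernel
    simp only [List.all_cons, List.all_nil, Bool.and_true, Bool.and_eq_true, Nat.blt_eq] at hb
    have hk : keyW (autStab.getD i []) = keyW (autStab.getD k []) := by
      simp only [keyW, hpt _ hb.1, hpt _ hb.2.1, hpt _ hb.2.2]
    rcases lt_trichotomy (i : ℕ) k with h' | h' | h'
    · have := hlt _ _ h' k.2; omega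
    · exact Fin.ext h'
    · have := hlt _ _ h' i.2; omega
  haveI := Fintype.ofFinite stab2
  have hbij : Function.Bijective f := by
    rw [Fintype.bijective_iff_injective_and_card]
    refine ⟨hf, le_antisymm (Fintype.card_le_of_injective f hf) ?_⟩
    rw [← Nat.card_eq_fintype_card, Fintype.card_fin]
    exact stab2_card
  obtain ⟨i, hi⟩ := hbij.2 ⟨g, mem_stab2.mpr ⟨h0, hB⟩⟩
  exact ⟨_, hmem i, congrArg Subtype.val hi⟩

theorem commute_w {g : ON} (hg : g * wEl = wEl * g) :
    ∃ v, lettersOK v = true ∧ prodW gen v = g ∧ candOK v = true := by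
  have hfix : ∀ p, rho wEl p = p → rho wEl (rho g p) = rho g p := fun p hp => by
    rw [← Equiv.Perm.mul_apply, ← map_mul, ← hg, map_mul, Equiv.Perm.mul_apply, hp]
  obtain ⟨a, ha, hpa⟩ := w_fix (hfix _ w_fix_base)
  obtain ⟨c, hc, hqc⟩ := w_fix (hfix _ w_fix_B)
  have hd1 : (9 * a + c) / 9 = a := by omega
  have hd2 : (9 * a + c) % 9 = c := by omega
  have hi : 9 * a + c < 81 := by omega
  have hp := List.all_eq_true.mp autPairsOK _ (List.mem_range.mpr hi)
  have hs := autScanAll _ hi
  unfold pairOK at hp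
  unfold scanPair at hs
  rw [hd1, hd2] at hp
  cases hcase : autPairs.getD (9 * a + c) none with
  | none =>
    exfalso
    rw [hcase] at hp
    have hu : autU.getD a [] ∈ autU := by
      rw [List.getD_eq_getElem _ _ (show a < autU.length from ha)]
      exact List.getElem_mem _
    have hlu := letters_elems.2.2.2.2.2.1 _ hu
    have hu0 := Nat.eq_of_beq_eq_true (List.all_eq_true.mp autFixU a (List.mem_range.mpr ha))
    set h := (prodW gen (autU.getD a []))⁻¹ * g
    have hh : h ∈ subA := by
      rw [setupA.mem_iff, map_mul, map_inv, Equiv.Perm.mul_apply, Equiv.Perm.inv_eq_iff_eq]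
      exact Fin.ext (by rw [rho_act hlu]; exact hpa.trans hu0.symm)
    have hcls := orbValid.cls_rho setupA hh ptB
    rw [show (rho h ptB : ℕ) = act (certA.revInv (autU.getD a [])) (autFix.getD c 0) by
      rw [← hqc, ← rho_act (lettersOK_revInv hlu), modelA.revInv_eq, map_mul,
        Equiv.Perm.mul_apply]] at hcls
    rw [show orbTab.cls (ptB : ℕ) = orbTab.cls autB from rfl] at hcls
    simp only [hcls, Nat.beq_refl, Bool.not_true] at hp
    cases hp
  | some g0 =>
    rw [hcase] at hp hs
    simp only [Bool.and_eq_true] at hp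
    simp only [List.all_eq_true] at hs
    have h0 : rho ((prodW gen g0)⁻¹ * g) setupA.base = setupA.base := by
      rw [map_mul, map_inv, Equiv.Perm.mul_apply, Equiv.Perm.inv_eq_iff_eq]
      exact Fin.ext (by rw [rho_act hp.1.1]; exact hpa.trans (Nat.eq_of_beq_eq_true hp.1.2).symm)
    have hB : rho ((prodW gen g0)⁻¹ * g) ptB = ptB := by
      rw [map_mul, map_inv, Equiv.Perm.mul_apply, Equiv.Perm.inv_eq_iff_eq]
      exact Fin.ext (by rw [rho_act hp.1.1]; exact hqc.trans (Nat.eq_of_beq_eq_true hp.2).symm)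
    obtain ⟨s, hsm, hse⟩ := exists_stab h0 hB
    exact ⟨g0 ++ s, lettersOK_append hp.1.1 (letters_elems.2.2.2.2.2.2.1 _ hsm),
      by rw [prodW_append, hse, mul_inv_cancel_left], hs s hsm⟩

/-- the relations between two elements -/
def RelsHold (a c : ON) : Prop :=
  ∀ r ∈ autRels, prodW (grp4 a c) r.1 ^ r.2 = 1

theorem rel_lt {r : List ℕ × ℕ} (hr : r ∈ autRels) : ∀ i ∈ r.1, i < 4 := by
  have h := autGIndices
  simp only [Bool.and_eq_true, List.all_eq_true, Nat.blt_eq] at h
  exact fun i hi => lt_trans (h.2 r hr i hi) (by norm_num)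

theorem rels_xy : RelsHold xEl yEl := by
  intro r hr
  have hlt := rel_lt hr
  have hl := lettersOK_substW fun i hi => lettersOK_let4 (lettersOK_powW lX 1) lY (hlt i hi)
  have e : prodW gen (substW (let4 (powW autX 1) autY) r.1) = prodW (grp4 xEl yEl) r.1 := by
    rw [prodW_grp4 _ _ hlt, prodW_powW, pow_one]
    rfl
  rw [← e]
  refine eq_of_bases fun p hp => Fin.ext ?_
  rw [rho_iter hl, map_one, Equiv.Perm.one_apply]
  exact Nat.eq_of_beq_eq_true
    (List.all_eq_true.mp (List.all_eq_true.mp autRelsHold r hr) _ hp)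

theorem cand_unique {k : ℕ} (hk : k = 1 ∨ k = 2 ∨ k = 4) {g : ON} (hg : g * wEl = wEl * g)
    (hr : RelsHold (xEl ^ k) g) : k = 1 ∧ (g = yEl ∨ g = y2El) := by
  obtain ⟨v, hv, rfl, hc⟩ := commute_w hg
  simp only [candOK, Bool.or_eq_true, Bool.not_eq_true', List.all_eq_true, Bool.and_eq_true] at hc
  rcases hc with h | h
  · have := (eqW_iff (lettersOK_append hv lW) (lettersOK_append lW hv)).mpr
      (by rw [prodW_append, prodW_append]; exact hg)
    rw [h] at this
    cases this
  rcases h k (by rcases hk with rfl | rfl | rfl <;> simp) with h' | ⟨h1, h2⟩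
  · exfalso
    simp only [relFails, List.any_eq_true, Bool.not_eq_true'] at h'
    obtain ⟨r, hrm, b, hb, hne⟩ := h'
    have hlt := rel_lt hrm
    have hl := lettersOK_substW fun i hi => lettersOK_let4 (lettersOK_powW lX k) hv (hlt i hi)
    have hb' : b < certA.N := by
      have : (autBases.all fun b => Nat.blt b certA.N) = true := by decide +kernel
      exact Nat.blt_eq.mp (List.all_eq_true.mp this b hb)
    have e := rho_iter hl r.2 ⟨b, hb'⟩
    rw [prodW_grp4 _ _ hlt, prodW_powW] at e
    rw [show prodW gen autX = xEl from rfl, hr r hrm, map_one, Equiv.Perm.one_apply] at e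
    simp only at e
    rw [← e, Nat.beq_refl] at hne
    cases hne
  · exact ⟨Nat.eq_of_beq_eq_true h1, h2.imp (eq_of_check hv lY) (eq_of_check hv lY2)⟩

/-! ### Automorphisms -/

theorem conj_to_zpowers (g : ON) (hg : orderOf g = 19) :
    ∃ c : ON, ∃ k, 0 < k ∧ k < 19 ∧ c * g * c⁻¹ = xEl ^ k := by
  have hX : ¬ 19 ∣ (Subgroup.zpowers xEl).index := by
    have h := (Subgroup.zpowers xEl).card_mul_index
    rw [Nat.card_zpowers, x_order, card_faithful.1] at h
    have e : (Subgroup.zpowers xEl).index = 24253447680 :=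
      Nat.eq_of_mul_eq_mul_left (by norm_num : 0 < 19) (h.trans (by norm_num))
    rw [e]
    norm_num
  have hp : IsPGroup 19 (Subgroup.zpowers xEl) :=
    IsPGroup.of_card (n := 1) (by rw [Nat.card_zpowers, x_order, pow_one])
  have hgp : IsPGroup 19 (Subgroup.zpowers g) :=
    IsPGroup.of_card (n := 1) (by rw [Nat.card_zpowers, hg, pow_one])
  obtain ⟨P, hP⟩ := hgp.exists_le_sylow
  obtain ⟨c, hc⟩ := MulAction.exists_smul_eq ON P (hp.toSylow hX)
  have hmem : MulAut.conj c g ∈ ((c • P : Sylow 19 ON) : Subgroup ON) := by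
    rw [Sylow.coe_subgroup_smul]
    exact Subgroup.smul_mem_pointwise_smul _ (MulAut.conj c) _ (hP (Subgroup.mem_zpowers _))
  rw [hc] at hmem
  obtain ⟨k, hk, hke⟩ := exists_pow_eq hmem
  refine ⟨c, k, Nat.pos_of_ne_zero ?_, hk, hke⟩
  rintro rfl
  rw [pow_zero, MulAut.conj_apply, conj_eq_one_iff] at hke
  rw [hke, orderOf_one] at hg
  norm_num at hg

theorem exists_rep (k : Fin 19) : (k : ℕ) = 0 ∨ ∃ i : Fin 6,
    8 ^ (i : ℕ) * (k : ℕ) % 19 = 1 ∨ 8 ^ (i : ℕ) * (k : ℕ) % 19 = 2 ∨
      8 ^ (i : ℕ) * (k : ℕ) % 19 = 4 := by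
  revert k
  decide

theorem normal_form (α : MulAut ON) : ∃ d : ON,
    (MulAut.conj d * α) xEl = xEl ∧
      ((MulAut.conj d * α) yEl = yEl ∨ (MulAut.conj d * α) yEl = y2El) := by
  obtain ⟨c, k', hk0, hk19, hc⟩ := conj_to_zpowers (α xEl)
    ((MulEquiv.orderOf_eq α xEl).trans x_order)
  obtain ⟨i, hi⟩ := (exists_rep ⟨k', hk19⟩).resolve_left hk0.ne'
  simp only at hi
  generalize hk : 8 ^ (i : ℕ) * k' % 19 = k at hi
  set β : MulAut ON := MulAut.conj (wEl ^ (i : ℕ) * c) * α with hβ
  have hβx : β xEl = xEl ^ k := by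
    rw [hβ, MulAut.mul_apply, MulAut.conj_apply, ← hk, ← x_pow_mod,
      pow_mul, ← w_pow_x, conj_pow, ← hc]
    group
  obtain ⟨k2, hk2⟩ : ∃ k2, (xEl ^ k) ^ k2 = xEl := by
    rcases hi with rfl | rfl | rfl
    · exact ⟨1, by simp⟩
    · exact ⟨10, by rw [← pow_mul, x_pow_mod]; norm_num⟩
    · exact ⟨5, by rw [← pow_mul, x_pow_mod]; norm_num⟩
  have h1 : ∀ n, β wEl * xEl ^ (k * n) * (β wEl)⁻¹ = xEl ^ (8 * (k * n)) := fun n => by
    have e : β (wEl * xEl ^ n) = β (xEl ^ (8 * n) * wEl) := by
      congr 1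
      rw [← mul_inv_eq_iff_eq_mul, ← conj_pow, w_x, mul_inv_cancel_right, ← pow_mul]
    rw [map_mul, map_mul, map_pow, map_pow, hβx, ← pow_mul, ← pow_mul] at e
    rw [e, mul_inv_cancel_right, mul_left_comm]
  have h2 : β wEl * xEl * (β wEl)⁻¹ = xEl ^ 8 := by
    have := h1 k2
    rw [pow_mul, hk2, mul_comm 8, pow_mul, pow_mul, hk2] at this
    exact this
  have hcomm : (wEl⁻¹ * β wEl) * xEl = xEl * (wEl⁻¹ * β wEl) := by
    calc (wEl⁻¹ * β wEl) * xEl = wEl⁻¹ * (β wEl * xEl * (β wEl)⁻¹) * β wEl := by group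
      _ = wEl⁻¹ * (xEl ^ 8 * wEl) * (wEl⁻¹ * β wEl) := by rw [h2]; group
      _ = xEl * (wEl⁻¹ * β wEl) := by rw [← w_x, inv_mul_cancel_left]
  obtain ⟨j, -, hj⟩ := commute_x hcomm
  have hβw : β wEl = wEl * xEl ^ j := by rw [← hj, mul_inv_cancel_left]
  set m := 12 * j % 19
  set γ : MulAut ON := MulAut.conj (xEl ^ m) * β with hγ
  have hγx : γ xEl = xEl ^ k := by
    rw [hγ, MulAut.mul_apply, MulAut.conj_apply, hβx, ← pow_add, add_comm, pow_add,
      mul_inv_cancel_right]
  have hmw : xEl ^ m * wEl = wEl * xEl ^ (12 * m) := by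
    have e : wEl * xEl ^ (12 * m) * wEl⁻¹ = xEl ^ m := by
      rw [← conj_pow, w_x, mul_inv_cancel_right, ← pow_mul, x_pow_mod (8 * _), x_pow_mod m]
      congr 1
      omega
    rw [← e, inv_mul_cancel_right]
  have hγw : γ wEl = wEl := by
    rw [hγ, MulAut.mul_apply, MulAut.conj_apply, hβw, ← mul_assoc, hmw, mul_assoc wEl,
      ← pow_add, mul_assoc wEl, mul_eq_left, mul_inv_eq_one, x_pow_mod,
      x_pow_mod m]
    congr 1
    omega
  have hγy : γ yEl * wEl = wEl * γ yEl := by
    conv_lhs => rw [← hγw, ← map_mul, y_w, map_mul, hγw]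
  have hr : RelsHold (xEl ^ k) (γ yEl) := by
    intro r hr
    have h := congrArg γ (rels_xy r hr)
    rw [map_pow, map_one] at h
    rw [← h]
    congr 1
    change _ = γ.toMonoidHom _
    rw [map_prodW]
    exact prodW_congr fun n hn => by
      rw [map_grp4 _ _ _ (rel_lt hr n hn)]
      change _ = grp4 (γ xEl) (γ yEl) n
      rw [hγx]
  obtain ⟨hk1, hy⟩ := cand_unique hi hγy hr
  refine ⟨xEl ^ m * (wEl ^ (i : ℕ) * c), ?_⟩
  rw [map_mul, mul_assoc, ← hβ, ← hγ, hγx, hk1, pow_one]
  exact ⟨rfl, hy⟩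

/-- the image of a letter -/
def img (i : ℕ) : ON := prodW gen (autImgs.getD i [])

theorem lettersOK_img (i : ℕ) : lettersOK (autImgs.getD i []) = true := by
  by_cases h : i < autImgs.length
  · rw [List.getD_eq_getElem _ _ h]
    exact letters_elems.2.2.2.2.2.2.2.1 _ (List.getElem_mem _)
  · rw [List.getD_eq_default _ _ (by omega)]
    rfl

theorem img_word {t : List ℕ} : prodW gen (substImg t) = prodW img t := prodW_substW _ _ t

theorem img_checks : (∀ r ∈ certA.rels, prodW img r = 1) ∧ img 7 = (img 6)⁻¹ ∧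
    prodW img autX = xEl ∧ prodW img autW = wEl ∧ prodW img autY = y2El := by
  have hl : ∀ t, lettersOK (substImg t) = true := fun t =>
    lettersOK_substW fun i _ => lettersOK_img i
  have h := autImgRels
  simp only [Bool.and_eq_true, List.all_eq_true] at h
  obtain ⟨⟨⟨⟨h1, h2⟩, h3⟩, h4⟩, h5⟩ := h
  refine ⟨fun r hr => ?_, ?_, ?_, ?_, ?_⟩
  · rw [← img_word]
    exact (eq_of_check (hl r) (w := []) rfl (h1 r hr)).trans (prodW_nil _)
  · refine eq_inv_of_mul_eq_one_right ?_
    have := (eq_of_check (lettersOK_append (lettersOK_img 6) (lettersOK_img 7)) (w := []) rfl h2)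
    rwa [prodW_append, prodW_nil] at this
  · rw [← img_word]; exact eq_of_check (hl _) lX h3
  · rw [← img_word]; exact eq_of_check (hl _) lW h4
  · rw [← img_word]; exact eq_of_check (hl _) lY2 h5

theorem exists_tauHom : ∃ τ : ON →* ON, ∀ g < certA.K, τ (gen g) = img g :=
  exists_hom img img_checks.2.1 img_checks.1

/-- the homomorphism on the letters -/
noncomputable def tauHom : ON →* ON := exists_tauHom.choose

theorem tau_word {w : List ℕ} (hw : lettersOK w = true) :
    tauHom (prodW gen w) = prodW img w := by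
  rw [map_prodW]
  exact prodW_congr fun g hg => exists_tauHom.choose_spec g (lettersOK_iff.mp hw g hg)

theorem tau_xwy : tauHom xEl = xEl ∧ tauHom wEl = wEl ∧ tauHom yEl = y2El :=
  ⟨(tau_word lX).trans img_checks.2.2.1, (tau_word lW).trans img_checks.2.2.2.1,
    (tau_word lY).trans img_checks.2.2.2.2⟩

theorem tau_bijective : Function.Bijective tauHom := by
  haveI : IsSimpleGroup ON := isON.1
  rw [← Finite.injective_iff_bijective]
  rcases (tauHom.normal_ker).eq_bot_or_eq_top with h | h
  · exact (MonoidHom.ker_eq_bot_iff _).mp h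
  · exfalso
    have : xEl ∈ tauHom.ker := h ▸ Subgroup.mem_top _
    rw [MonoidHom.mem_ker, tau_xwy.1] at this
    exact x_ne_one this

/-- the outer automorphism -/
noncomputable def tauAut : MulAut ON := MulEquiv.ofBijective tauHom tau_bijective

theorem tau_not_inner : tauAut ∉ Cfsg.Inn ON := by
  rintro ⟨c, hc⟩
  have happ : ∀ g, c * g * c⁻¹ = tauHom g := fun g => by
    rw [← MulAut.conj_apply, hc]
    rfl
  have hx := happ xEl
  have hw := happ wEl
  rw [tau_xwy.1, mul_inv_eq_iff_eq_mul] at hx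
  rw [tau_xwy.2.1, mul_inv_eq_iff_eq_mul] at hw
  obtain ⟨j, hj, rfl⟩ := commute_x hx
  have e : xEl ^ (8 * j) = xEl ^ j := by
    have e2 : wEl * xEl ^ j * wEl⁻¹ = xEl ^ (8 * j) := by
      rw [← conj_pow, w_x, mul_inv_cancel_right, ← pow_mul]
    rw [← e2, ← hw, mul_inv_cancel_right]
  have h0 : j = 0 := by
    rw [x_pow_mod (8 * j)] at e
    have := x_pow_inj (Nat.mod_lt _ (by norm_num)) hj e
    omega
  subst h0
  have hy := happ yEl
  rw [pow_zero, one_mul, inv_one, mul_one, tau_xwy.2.2] at hy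
  exact y_ne hy.symm

theorem card_out : Nat.card (Cfsg.Out ON) = 2 := by
  rw [Nat.card_eq_two_iff]
  refine ⟨1, (tauAut : Cfsg.Out ON), fun h => tau_not_inner ?_, ?_⟩
  · exact (QuotientGroup.eq_one_iff _).mp h.symm
  refine Set.eq_univ_of_forall fun a => ?_
  induction a using QuotientGroup.induction_on with
  | _ α =>
    obtain ⟨d, hx, hy⟩ := normal_form α
    have h1 : ((MulAut.conj d : MulAut ON) : Cfsg.Out ON) = 1 :=
      (QuotientGroup.eq_one_iff _).mpr ⟨d, rfl⟩
    rcases hy with hy | hy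
    · have e : MulAut.conj d * α = 1 :=
        MulEquiv.toMonoidHom_injective (hom_ext hx hy)
      refine Or.inl ?_
      have := congrArg (fun a : MulAut ON => (a : Cfsg.Out ON)) e
      simpa [h1] using this
    · have e : MulAut.conj d * α = tauAut :=
        MulEquiv.toMonoidHom_injective (hom_ext (hx.trans tau_xwy.1.symm) (hy.trans tau_xwy.2.2.symm))
      refine Or.inr ?_
      rw [Set.mem_singleton_iff]
      have := congrArg (fun a : MulAut ON => (a : Cfsg.Out ON)) e
      simpa [h1] using this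

end CfsgLib.ONPres
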