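import Cfsg.Agent.Lib.CosetEnum.OrbitTables

/-!
An orbit of length 168.
-/

set_option autoImplicit false
set_option linter.style.longLine false

namespace CfsgLib.ONPres
open CfsgLib.CosetEnum


/-- entries -/
def level2Ent : PTab := (.leaf 0x10009a1b84800000009b1b16100000009d1b15f0008000721b1580008000851a79b00080007f1a7920001000a61a78b0000000a219af600000008b18e9900030008818e9100050002f1793600080007c1793500050003d16d7e00000008116d7d0003000a216d7c00080005b16cd700000007f1412f0005000711412c0001000811412b00080008d1325600050009f1325500080008a132500003000a41324f000800066121c2000800065121b500000008a121af000100072121aa00010009b121a90008000571212400050004b121220005000a610f220008000711017f0005000591017300030006d1016f00000006d1016a0008000590e8bc00050001b0e8b60008000960e8b50005000340de6d0004000710dddb0005000560ddd90008000a60bc5d0000000960bc5b0003000620bc590003000850af4b0008000700aed30003000940aed10005000a10aed000080007d0aecb0008000860aeca00010006f0a18b00030005a0a1870001000590a1850003000580a1830003000560a1310003000550a13000050003f08c7900010008608c7500080009b08c7300000005208c7100080008107c6400080003907c3700080004407c360008000a707c3400000008207c33000100071075ca00010007f075c900000004a062b4000300048062b3000400034062b200050004705a3700010007b05a3600030007a059ef000000043059ee00000006b059eb000500063059ea000300040051b7000000055051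b500030003f051b400040003d051b300030003e0518b00010003d0518a0004000560518900010005b0474400050005a0474200080008c0474100080001e0474000080009503e5200030004703e3800000006903e3700080009a03e3600010005703aba00010003403ab900040004b03ab8000800034030de000000062030dd00000003002c4b00080001002c4a00000004d02c4900030004902c2800050004802c2700080008902c2600030002b027c100080003d027bf000000058027be000100028027ae000000028027ad00080006f0230e00080002f0230c0003000520230b0003000300208f00030005001e7300050008501e6700080000c01e6600010002101c9000030003d01c8f0000000490178200080004b017810003000330170a000800035016fa00000001c0151600080000a015150005000970150700050006401506000000040012dc000800056012db000400028012d5000000000012d4000800033010cd00030002a010cc00050001000f7600030003200e7800000001300e7400040002100d7d00030002800d7c00080006400ad800000003200ad700000002200acf00000002d00a9e00080002100a9700030002f009b200050007d009ae00080005a008ac00000002a008ab00040003e008a9000800053007c2000300018007c100080000e0070a000500004007070005000570061c000800048004cb000000012004c5000800013004af00030001c004ac0005000310044c00050001e0044b00000000c004480003000020044500080003f003d4000300017003d30005000410037600050003e002b60008000040022300000000600220000500033001ea000800008001e7000300009001b200050002b00193)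

/-- ranks -/
def level2Rnk : PTab := (.leaf 0x50000300005000040000500004000040000500004000050000400005000020000400005000040000400004000040000500005000050000500005000050000500004000030000300004000040000400005000040000400005000050000500003000040000300004000050000400005000050000600005000060000500005000050000500003000030000400004000050000300005000040000500005000060000600004000040000500005000030000500006000060000600005000060000300004000040000200002000020000300004000050000400004000050000500006000050000300003000040000300004000040000500006000040000500005000040000200003000010000100005000040000500004000060000500005000020000200004000040000500003000030000600005000060000300003000010000000005000040000500005000050000200001000060000500003000060000200004000060000500004000020000600005000040000400003000050000400005000030000600004000050000500004000030000500002000040000300005000040000500004)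
/-- level 2 -/
def level2 : TLevel where
  base := 4820
  ws := [[4, 3, 4, 3, 4],
    [4, 1, 4],
    [4, 3, 0, 2, 1, 5, 2, 5, 1, 2, 0, 3, 4],
    [4, 3, 2, 3, 4],
    [4, 3, 0, 2, 3, 0, 5, 2, 0, 3, 2, 0, 3, 4]]
  size := 168
  root := 40
  ent := level2Ent
  rnk := level2Rnk

end CfsgLib.ONPres
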