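import Cfsg.Agent.Lib.CosetEnum.OrbitTables

/-!
An orbit of length 4.
-/

set_option autoImplicit false
set_option linter.style.longLine false

namespace CfsgLib.ONPres
open CfsgLib.CosetEnum


/-- entries -/
def level3Ent : PTab := (.leaf 0x300001118cb000300000102d90000000000b53e00000000105ba4)

/-- ranks -/
def level3Rnk : PTab := (.leaf 0x1000020000000001)
/-- level 3 -/
def level3 : TLevel where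
  base := 46398
  ws := [[4, 1, 3, 2, 3, 1, 3, 0, 2, 3, 0, 5, 2, 0, 3, 2, 0, 2, 3, 1, 4],
    [4, 1, 3, 0, 2, 3, 0, 2, 5, 0, 3, 2, 0, 2, 0, 2, 3, 0, 2, 5, 0, 3, 1, 5, 2, 5, 1, 3, 0, 5, 2, 0, 3, 2, 0, 2, 0, 2, 3, 0, 5, 2, 0, 3, 2, 0, 3, 1, 4],
    [4, 1, 3, 0, 2, 3, 0, 2, 5, 0, 3, 2, 0, 2, 0, 2, 1, 5, 2, 5, 1, 2, 0, 2, 0, 2, 3, 0, 5, 2, 0, 3, 2, 0, 3, 1, 4],
    [4, 1, 3, 0, 2, 3, 0, 2, 5, 0, 3, 2, 0, 4, 0, 2, 3, 0, 5, 2, 0, 3, 2, 0, 3, 1, 4],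
    [4, 3, 0, 2, 3, 0, 2, 5, 0, 3, 2, 0, 2, 0, 2, 3, 0, 5, 2, 0, 3, 2, 0, 3, 4]]
  size := 4
  root := 1
  ent := level3Ent
  rnk := level3Rnk

end CfsgLib.ONPres
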