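import Cfsg.Agent.Lib.CosetEnum.OrbitTables
import Cfsg.Agent.Lib.ONPres.DataA
import Cfsg.Agent.Lib.ONPres.DataLevel0
import Cfsg.Agent.Lib.ONPres.DataLevel1
import Cfsg.Agent.Lib.ONPres.DataLevel2
import Cfsg.Agent.Lib.ONPres.DataLevel3

/-!
The base chain.
-/

set_option autoImplicit false
set_option linter.style.longLine false

namespace CfsgLib.ONPres
open CfsgLib.CosetEnum

/-- the chain -/
def levels : List TLevel := [level0, level1, level2, level3]

/-- the words at a level -/
def levelWords0 : List (List ℕ) := tWords levels

end CfsgLib.ONPres
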