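import Cfsg.Agent.Lib.ONPres.CheckBStep0
import Cfsg.Agent.Lib.ONPres.CheckBStep1
import Cfsg.Agent.Lib.ONPres.CheckBStep2
import Cfsg.Agent.Lib.ONPres.CheckBStep3
import Cfsg.Agent.Lib.ONPres.CheckBStep4
import Cfsg.Agent.Lib.ONPres.CheckBStep5
import Cfsg.Agent.Lib.ONPres.CheckBStep6
import Cfsg.Agent.Lib.ONPres.CheckBStep7
import Cfsg.Agent.Lib.ONPres.CheckBStep8
import Cfsg.Agent.Lib.ONPres.CheckBStep9
import Cfsg.Agent.Lib.ONPres.CheckBStep10
import Cfsg.Agent.Lib.ONPres.CheckBStep11
import Cfsg.Agent.Lib.ONPres.CheckBStep12
import Cfsg.Agent.Lib.ONPres.CheckBStep13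
import Cfsg.Agent.Lib.ONPres.CheckBStep14
import Cfsg.Agent.Lib.ONPres.CheckBStep15
import Cfsg.Agent.Lib.ONPres.CheckBStep16
import Cfsg.Agent.Lib.ONPres.CheckBStep17
import Cfsg.Agent.Lib.ONPres.CheckBStep18
import Cfsg.Agent.Lib.ONPres.CheckBStep19
import Cfsg.Agent.Lib.CosetEnum.Blocks
import Cfsg.Agent.Lib.ONPres.DataB

/-!
Kernel checks of coset enumeration data.
-/

set_option autoImplicit false
set_option Elab.async false

namespace CfsgLib.ONPres
open CfsgLib.CosetEnum

theorem certB_entry0 : allUp certB.entryOK' 13 (0 * 2 ^ 13) = true := by decide +kernel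

theorem certB_entry1 : allUp certB.entryOK' 13 (1 * 2 ^ 13) = true := by decide +kernel

theorem certB_entry2 : allUp certB.entryOK' 13 (2 * 2 ^ 13) = true := by decide +kernel

theorem certB_entry3 : allUp certB.entryOK' 13 (3 * 2 ^ 13) = true := by decide +kernel

theorem certB_complete : certB.Complete :=
  Cert.complete_of_blocks₂ _ (k := 12) (n := 20) (k₂ := 13) (n₂ := 4) (by decide +kernel)
    (fun j hj => by
      match j, hj with
      | 0, _ => exact certB_step0
      | 1, _ => exact certB_step1
      | 2, _ => exact certB_step2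
      | 3, _ => exact certB_step3
      | 4, _ => exact certB_step4
      | 5, _ => exact certB_step5
      | 6, _ => exact certB_step6
      | 7, _ => exact certB_step7
      | 8, _ => exact certB_step8
      | 9, _ => exact certB_step9
      | 10, _ => exact certB_step10
      | 11, _ => exact certB_step11
      | 12, _ => exact certB_step12
      | 13, _ => exact certB_step13
      | 14, _ => exact certB_step14
      | 15, _ => exact certB_step15
      | 16, _ => exact certB_step16
      | 17, _ => exact certB_step17
      | 18, _ => exact certB_step18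
      | 19, _ => exact certB_step19
      | n + 20, h => omega)
    (by decide +kernel)
    (fun j hj => by
      match j, hj with
      | 0, _ => exact certB_entry0
      | 1, _ => exact certB_entry1
      | 2, _ => exact certB_entry2
      | 3, _ => exact certB_entry3
      | n + 4, h => omega)
    (by decide +kernel)

end CfsgLib.ONPres
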