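import Cfsg.Agent.Lib.CosetEnum.OrbitTables
import Cfsg.Agent.Lib.ONPres.DataA

/-!
Kernel check of consecutive blocks.
-/

set_option autoImplicit false
set_option Elab.async false
set_option linter.style.longLine false

namespace CfsgLib.ONPres
open CfsgLib.CosetEnum

theorem checkEntryA0b0 : allUp certA.entryOK' 10 0 = true := by decide +kernel

theorem checkEntryA0b1 : allUp certA.entryOK' 10 1024 = true := by decide +kernel

theorem checkEntryA0b2 : allUp certA.entryOK' 10 2048 = true := by decide +kernel

theorem checkEntryA0b3 : allUp certA.entryOK' 10 3072 = true := by decide +kernel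

theorem checkEntryA0b4 : allUp certA.entryOK' 10 4096 = true := by decide +kernel

theorem checkEntryA0b5 : allUp certA.entryOK' 10 5120 = true := by decide +kernel

theorem checkEntryA0b6 : allUp certA.entryOK' 10 6144 = true := by decide +kernel

theorem checkEntryA0b7 : allUp certA.entryOK' 10 7168 = true := by decide +kernel

theorem checkEntryA0j10n0 : allUp certA.entryOK' (10 + 1) 0 = true :=
  allUp_join (by decide +kernel) checkEntryA0b0 checkEntryA0b1

theorem checkEntryA0j10n2 : allUp certA.entryOK' (10 + 1) 2048 = true :=
  allUp_join (by decide +kernel) checkEntryA0b2 checkEntryA0b3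

theorem checkEntryA0j10n4 : allUp certA.entryOK' (10 + 1) 4096 = true :=
  allUp_join (by decide +kernel) checkEntryA0b4 checkEntryA0b5

theorem checkEntryA0j10n6 : allUp certA.entryOK' (10 + 1) 6144 = true :=
  allUp_join (by decide +kernel) checkEntryA0b6 checkEntryA0b7

theorem checkEntryA0j11n0 : allUp certA.entryOK' (11 + 1) 0 = true :=
  allUp_join (by decide +kernel) checkEntryA0j10n0 checkEntryA0j10n2

theorem checkEntryA0j11n2 : allUp certA.entryOK' (11 + 1) 4096 = true :=
  allUp_join (by decide +kernel) checkEntryA0j10n4 checkEntryA0j10n6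

theorem checkEntryA0 : allUp certA.entryOK' (12 + 1) 0 = true :=
  allUp_join (by decide +kernel) checkEntryA0j11n0 checkEntryA0j11n2

end CfsgLib.ONPres
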