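import Cfsg.Agent.Lib.CosetEnum.OrbitTables
import Cfsg.Agent.Lib.ONPres.DataA

/-!
Kernel check of consecutive blocks.
-/

set_option autoImplicit false
set_option Elab.async false
set_option linter.style.longLine false

namespace CfsgLib.ONPres
open CfsgLib.CosetEnum

theorem checkEntryA1b0 : allUp certA.entryOK' 10 8192 = true := by decide +kernel

theorem checkEntryA1b1 : allUp certA.entryOK' 10 9216 = true := by decide +kernel

theorem checkEntryA1b2 : allUp certA.entryOK' 10 10240 = true := by decide +kernel

theorem checkEntryA1b3 : allUp certA.entryOK' 10 11264 = true := by decide +kernel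

theorem checkEntryA1b4 : allUp certA.entryOK' 10 12288 = true := by decide +kernel

theorem checkEntryA1b5 : allUp certA.entryOK' 10 13312 = true := by decide +kernel

theorem checkEntryA1b6 : allUp certA.entryOK' 10 14336 = true := by decide +kernel

theorem checkEntryA1b7 : allUp certA.entryOK' 10 15360 = true := by decide +kernel

theorem checkEntryA1j10n0 : allUp certA.entryOK' (10 + 1) 8192 = true :=
  allUp_join (by decide +kernel) checkEntryA1b0 checkEntryA1b1

theorem checkEntryA1j10n2 : allUp certA.entryOK' (10 + 1) 10240 = true :=
  allUp_join (by decide +kernel) checkEntryA1b2 checkEntryA1b3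

theorem checkEntryA1j10n4 : allUp certA.entryOK' (10 + 1) 12288 = true :=
  allUp_join (by decide +kernel) checkEntryA1b4 checkEntryA1b5

theorem checkEntryA1j10n6 : allUp certA.entryOK' (10 + 1) 14336 = true :=
  allUp_join (by decide +kernel) checkEntryA1b6 checkEntryA1b7

theorem checkEntryA1j11n0 : allUp certA.entryOK' (11 + 1) 8192 = true :=
  allUp_join (by decide +kernel) checkEntryA1j10n0 checkEntryA1j10n2

theorem checkEntryA1j11n2 : allUp certA.entryOK' (11 + 1) 12288 = true :=
  allUp_join (by decide +kernel) checkEntryA1j10n4 checkEntryA1j10n6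

theorem checkEntryA1 : allUp certA.entryOK' (12 + 1) 8192 = true :=
  allUp_join (by decide +kernel) checkEntryA1j11n0 checkEntryA1j11n2

end CfsgLib.ONPres
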