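import Cfsg.Agent.Lib.CosetEnum.OrbitTables
import Cfsg.Agent.Lib.ONPres.DataA

/-!
Kernel check of consecutive blocks.
-/

set_option autoImplicit false
set_option Elab.async false
set_option linter.style.longLine false

namespace CfsgLib.ONPres
open CfsgLib.CosetEnum

theorem checkEntryA10b0 : allUp certA.entryOK' 10 81920 = true := by decide +kernel

theorem checkEntryA10b1 : allUp certA.entryOK' 10 82944 = true := by decide +kernel

theorem checkEntryA10b2 : allUp certA.entryOK' 10 83968 = true := by decide +kernel

theorem checkEntryA10b3 : allUp certA.entryOK' 10 84992 = true := by decide +kernel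

theorem checkEntryA10b4 : allUp certA.entryOK' 10 86016 = true := by decide +kernel

theorem checkEntryA10b5 : allUp certA.entryOK' 10 87040 = true := by decide +kernel

theorem checkEntryA10b6 : allUp certA.entryOK' 10 88064 = true := by decide +kernel

theorem checkEntryA10b7 : allUp certA.entryOK' 10 89088 = true := by decide +kernel

theorem checkEntryA10j10n0 : allUp certA.entryOK' (10 + 1) 81920 = true :=
  allUp_join (by decide +kernel) checkEntryA10b0 checkEntryA10b1

theorem checkEntryA10j10n2 : allUp certA.entryOK' (10 + 1) 83968 = true :=
  allUp_join (by decide +kernel) checkEntryA10b2 checkEntryA10b3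

theorem checkEntryA10j10n4 : allUp certA.entryOK' (10 + 1) 86016 = true :=
  allUp_join (by decide +kernel) checkEntryA10b4 checkEntryA10b5

theorem checkEntryA10j10n6 : allUp certA.entryOK' (10 + 1) 88064 = true :=
  allUp_join (by decide +kernel) checkEntryA10b6 checkEntryA10b7

theorem checkEntryA10j11n0 : allUp certA.entryOK' (11 + 1) 81920 = true :=
  allUp_join (by decide +kernel) checkEntryA10j10n0 checkEntryA10j10n2

theorem checkEntryA10j11n2 : allUp certA.entryOK' (11 + 1) 86016 = true :=
  allUp_join (by decide +kernel) checkEntryA10j10n4 checkEntryA10j10n6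

theorem checkEntryA10 : allUp certA.entryOK' (12 + 1) 81920 = true :=
  allUp_join (by decide +kernel) checkEntryA10j11n0 checkEntryA10j11n2

end CfsgLib.ONPres
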