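import Cfsg.Agent.Lib.CosetEnum.OrbitTables
import Cfsg.Agent.Lib.ONPres.DataA

/-!
Kernel check of consecutive blocks.
-/

set_option autoImplicit false
set_option Elab.async false
set_option linter.style.longLine false

namespace CfsgLib.ONPres
open CfsgLib.CosetEnum

theorem checkEntryA11b0 : allUp certA.entryOK' 10 90112 = true := by decide +kernel

theorem checkEntryA11b1 : allUp certA.entryOK' 10 91136 = true := by decide +kernel

theorem checkEntryA11b2 : allUp certA.entryOK' 10 92160 = true := by decide +kernel

theorem checkEntryA11b3 : allUp certA.entryOK' 10 93184 = true := by decide +kernel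

theorem checkEntryA11b4 : allUp certA.entryOK' 10 94208 = true := by decide +kernel

theorem checkEntryA11b5 : allUp certA.entryOK' 10 95232 = true := by decide +kernel

theorem checkEntryA11b6 : allUp certA.entryOK' 10 96256 = true := by decide +kernel

theorem checkEntryA11b7 : allUp certA.entryOK' 10 97280 = true := by decide +kernel

theorem checkEntryA11j10n0 : allUp certA.entryOK' (10 + 1) 90112 = true :=
  allUp_join (by decide +kernel) checkEntryA11b0 checkEntryA11b1

theorem checkEntryA11j10n2 : allUp certA.entryOK' (10 + 1) 92160 = true :=
  allUp_join (by decide +kernel) checkEntryA11b2 checkEntryA11b3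

theorem checkEntryA11j10n4 : allUp certA.entryOK' (10 + 1) 94208 = true :=
  allUp_join (by decide +kernel) checkEntryA11b4 checkEntryA11b5

theorem checkEntryA11j10n6 : allUp certA.entryOK' (10 + 1) 96256 = true :=
  allUp_join (by decide +kernel) checkEntryA11b6 checkEntryA11b7

theorem checkEntryA11j11n0 : allUp certA.entryOK' (11 + 1) 90112 = true :=
  allUp_join (by decide +kernel) checkEntryA11j10n0 checkEntryA11j10n2

theorem checkEntryA11j11n2 : allUp certA.entryOK' (11 + 1) 94208 = true :=
  allUp_join (by decide +kernel) checkEntryA11j10n4 checkEntryA11j10n6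

theorem checkEntryA11 : allUp certA.entryOK' (12 + 1) 90112 = true :=
  allUp_join (by decide +kernel) checkEntryA11j11n0 checkEntryA11j11n2

end CfsgLib.ONPres
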