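import Cfsg.Agent.Lib.CosetEnum.OrbitTables
import Cfsg.Agent.Lib.ONPres.DataA

/-!
Kernel check of consecutive blocks.
-/

set_option autoImplicit false
set_option Elab.async false
set_option linter.style.longLine false

namespace CfsgLib.ONPres
open CfsgLib.CosetEnum

theorem checkEntryA13b0 : allUp certA.entryOK' 10 106496 = true := by decide +kernel

theorem checkEntryA13b1 : allUp certA.entryOK' 10 107520 = true := by decide +kernel

theorem checkEntryA13b2 : allUp certA.entryOK' 10 108544 = true := by decide +kernel

theorem checkEntryA13b3 : allUp certA.entryOK' 10 109568 = true := by decide +kernel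

theorem checkEntryA13b4 : allUp certA.entryOK' 10 110592 = true := by decide +kernel

theorem checkEntryA13b5 : allUp certA.entryOK' 10 111616 = true := by decide +kernel

theorem checkEntryA13b6 : allUp certA.entryOK' 10 112640 = true := by decide +kernel

theorem checkEntryA13b7 : allUp certA.entryOK' 10 113664 = true := by decide +kernel

theorem checkEntryA13j10n0 : allUp certA.entryOK' (10 + 1) 106496 = true :=
  allUp_join (by decide +kernel) checkEntryA13b0 checkEntryA13b1

theorem checkEntryA13j10n2 : allUp certA.entryOK' (10 + 1) 108544 = true :=
  allUp_join (by decide +kernel) checkEntryA13b2 checkEntryA13b3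

theorem checkEntryA13j10n4 : allUp certA.entryOK' (10 + 1) 110592 = true :=
  allUp_join (by decide +kernel) checkEntryA13b4 checkEntryA13b5

theorem checkEntryA13j10n6 : allUp certA.entryOK' (10 + 1) 112640 = true :=
  allUp_join (by decide +kernel) checkEntryA13b6 checkEntryA13b7

theorem checkEntryA13j11n0 : allUp certA.entryOK' (11 + 1) 106496 = true :=
  allUp_join (by decide +kernel) checkEntryA13j10n0 checkEntryA13j10n2

theorem checkEntryA13j11n2 : allUp certA.entryOK' (11 + 1) 110592 = true :=
  allUp_join (by decide +kernel) checkEntryA13j10n4 checkEntryA13j10n6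

theorem checkEntryA13 : allUp certA.entryOK' (12 + 1) 106496 = true :=
  allUp_join (by decide +kernel) checkEntryA13j11n0 checkEntryA13j11n2

end CfsgLib.ONPres
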