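import Cfsg.Agent.Lib.CosetEnum.OrbitTables
import Cfsg.Agent.Lib.ONPres.DataA

/-!
Kernel check of consecutive blocks.
-/

set_option autoImplicit false
set_option Elab.async false
set_option linter.style.longLine false

namespace CfsgLib.ONPres
open CfsgLib.CosetEnum

theorem checkEntryA14b0 : allUp certA.entryOK' 10 114688 = true := by decide +kernel

theorem checkEntryA14b1 : allUp certA.entryOK' 10 115712 = true := by decide +kernel

theorem checkEntryA14b2 : allUp certA.entryOK' 10 116736 = true := by decide +kernel

theorem checkEntryA14b3 : allUp certA.entryOK' 10 117760 = true := by decide +kernel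

theorem checkEntryA14b4 : allUp certA.entryOK' 10 118784 = true := by decide +kernel

theorem checkEntryA14b5 : allUp certA.entryOK' 10 119808 = true := by decide +kernel

theorem checkEntryA14b6 : allUp certA.entryOK' 10 120832 = true := by decide +kernel

theorem checkEntryA14b7 : allUp certA.entryOK' 10 121856 = true := by decide +kernel

theorem checkEntryA14j10n0 : allUp certA.entryOK' (10 + 1) 114688 = true :=
  allUp_join (by decide +kernel) checkEntryA14b0 checkEntryA14b1

theorem checkEntryA14j10n2 : allUp certA.entryOK' (10 + 1) 116736 = true :=
  allUp_join (by decide +kernel) checkEntryA14b2 checkEntryA14b3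

theorem checkEntryA14j10n4 : allUp certA.entryOK' (10 + 1) 118784 = true :=
  allUp_join (by decide +kernel) checkEntryA14b4 checkEntryA14b5

theorem checkEntryA14j10n6 : allUp certA.entryOK' (10 + 1) 120832 = true :=
  allUp_join (by decide +kernel) checkEntryA14b6 checkEntryA14b7

theorem checkEntryA14j11n0 : allUp certA.entryOK' (11 + 1) 114688 = true :=
  allUp_join (by decide +kernel) checkEntryA14j10n0 checkEntryA14j10n2

theorem checkEntryA14j11n2 : allUp certA.entryOK' (11 + 1) 118784 = true :=
  allUp_join (by decide +kernel) checkEntryA14j10n4 checkEntryA14j10n6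

theorem checkEntryA14 : allUp certA.entryOK' (12 + 1) 114688 = true :=
  allUp_join (by decide +kernel) checkEntryA14j11n0 checkEntryA14j11n2

end CfsgLib.ONPres
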