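import Cfsg.Agent.Lib.CosetEnum.OrbitTables
import Cfsg.Agent.Lib.ONPres.DataA

/-!
Kernel check of consecutive blocks.
-/

set_option autoImplicit false
set_option Elab.async false
set_option linter.style.longLine false

namespace CfsgLib.ONPres
open CfsgLib.CosetEnum

theorem checkEntryA2b0 : allUp certA.entryOK' 10 16384 = true := by decide +kernel

theorem checkEntryA2b1 : allUp certA.entryOK' 10 17408 = true := by decide +kernel

theorem checkEntryA2b2 : allUp certA.entryOK' 10 18432 = true := by decide +kernel

theorem checkEntryA2b3 : allUp certA.entryOK' 10 19456 = true := by decide +kernel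

theorem checkEntryA2b4 : allUp certA.entryOK' 10 20480 = true := by decide +kernel

theorem checkEntryA2b5 : allUp certA.entryOK' 10 21504 = true := by decide +kernel

theorem checkEntryA2b6 : allUp certA.entryOK' 10 22528 = true := by decide +kernel

theorem checkEntryA2b7 : allUp certA.entryOK' 10 23552 = true := by decide +kernel

theorem checkEntryA2j10n0 : allUp certA.entryOK' (10 + 1) 16384 = true :=
  allUp_join (by decide +kernel) checkEntryA2b0 checkEntryA2b1

theorem checkEntryA2j10n2 : allUp certA.entryOK' (10 + 1) 18432 = true :=
  allUp_join (by decide +kernel) checkEntryA2b2 checkEntryA2b3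

theorem checkEntryA2j10n4 : allUp certA.entryOK' (10 + 1) 20480 = true :=
  allUp_join (by decide +kernel) checkEntryA2b4 checkEntryA2b5

theorem checkEntryA2j10n6 : allUp certA.entryOK' (10 + 1) 22528 = true :=
  allUp_join (by decide +kernel) checkEntryA2b6 checkEntryA2b7

theorem checkEntryA2j11n0 : allUp certA.entryOK' (11 + 1) 16384 = true :=
  allUp_join (by decide +kernel) checkEntryA2j10n0 checkEntryA2j10n2

theorem checkEntryA2j11n2 : allUp certA.entryOK' (11 + 1) 20480 = true :=
  allUp_join (by decide +kernel) checkEntryA2j10n4 checkEntryA2j10n6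

theorem checkEntryA2 : allUp certA.entryOK' (12 + 1) 16384 = true :=
  allUp_join (by decide +kernel) checkEntryA2j11n0 checkEntryA2j11n2

end CfsgLib.ONPres
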