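import Cfsg.Agent.Lib.CosetEnum.OrbitTables
import Cfsg.Agent.Lib.ONPres.DataA

/-!
Kernel check of consecutive blocks.
-/

set_option autoImplicit false
set_option Elab.async false
set_option linter.style.longLine false

namespace CfsgLib.ONPres
open CfsgLib.CosetEnum

theorem checkEntryA3b0 : allUp certA.entryOK' 10 24576 = true := by decide +kernel

theorem checkEntryA3b1 : allUp certA.entryOK' 10 25600 = true := by decide +kernel

theorem checkEntryA3b2 : allUp certA.entryOK' 10 26624 = true := by decide +kernel

theorem checkEntryA3b3 : allUp certA.entryOK' 10 27648 = true := by decide +kernel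

theorem checkEntryA3b4 : allUp certA.entryOK' 10 28672 = true := by decide +kernel

theorem checkEntryA3b5 : allUp certA.entryOK' 10 29696 = true := by decide +kernel

theorem checkEntryA3b6 : allUp certA.entryOK' 10 30720 = true := by decide +kernel

theorem checkEntryA3b7 : allUp certA.entryOK' 10 31744 = true := by decide +kernel

theorem checkEntryA3j10n0 : allUp certA.entryOK' (10 + 1) 24576 = true :=
  allUp_join (by decide +kernel) checkEntryA3b0 checkEntryA3b1

theorem checkEntryA3j10n2 : allUp certA.entryOK' (10 + 1) 26624 = true :=
  allUp_join (by decide +kernel) checkEntryA3b2 checkEntryA3b3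

theorem checkEntryA3j10n4 : allUp certA.entryOK' (10 + 1) 28672 = true :=
  allUp_join (by decide +kernel) checkEntryA3b4 checkEntryA3b5

theorem checkEntryA3j10n6 : allUp certA.entryOK' (10 + 1) 30720 = true :=
  allUp_join (by decide +kernel) checkEntryA3b6 checkEntryA3b7

theorem checkEntryA3j11n0 : allUp certA.entryOK' (11 + 1) 24576 = true :=
  allUp_join (by decide +kernel) checkEntryA3j10n0 checkEntryA3j10n2

theorem checkEntryA3j11n2 : allUp certA.entryOK' (11 + 1) 28672 = true :=
  allUp_join (by decide +kernel) checkEntryA3j10n4 checkEntryA3j10n6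

theorem checkEntryA3 : allUp certA.entryOK' (12 + 1) 24576 = true :=
  allUp_join (by decide +kernel) checkEntryA3j11n0 checkEntryA3j11n2

end CfsgLib.ONPres
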