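import Cfsg.Agent.Lib.CosetEnum.OrbitTables
import Cfsg.Agent.Lib.ONPres.DataA

/-!
Kernel check of consecutive blocks.
-/

set_option autoImplicit false
set_option Elab.async false
set_option linter.style.longLine false

namespace CfsgLib.ONPres
open CfsgLib.CosetEnum

theorem checkEntryA4b0 : allUp certA.entryOK' 10 32768 = true := by decide +kernel

theorem checkEntryA4b1 : allUp certA.entryOK' 10 33792 = true := by decide +kernel

theorem checkEntryA4b2 : allUp certA.entryOK' 10 34816 = true := by decide +kernel

theorem checkEntryA4b3 : allUp certA.entryOK' 10 35840 = true := by decide +kernel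

theorem checkEntryA4b4 : allUp certA.entryOK' 10 36864 = true := by decide +kernel

theorem checkEntryA4b5 : allUp certA.entryOK' 10 37888 = true := by decide +kernel

theorem checkEntryA4b6 : allUp certA.entryOK' 10 38912 = true := by decide +kernel

theorem checkEntryA4b7 : allUp certA.entryOK' 10 39936 = true := by decide +kernel

theorem checkEntryA4j10n0 : allUp certA.entryOK' (10 + 1) 32768 = true :=
  allUp_join (by decide +kernel) checkEntryA4b0 checkEntryA4b1

theorem checkEntryA4j10n2 : allUp certA.entryOK' (10 + 1) 34816 = true :=
  allUp_join (by decide +kernel) checkEntryA4b2 checkEntryA4b3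

theorem checkEntryA4j10n4 : allUp certA.entryOK' (10 + 1) 36864 = true :=
  allUp_join (by decide +kernel) checkEntryA4b4 checkEntryA4b5

theorem checkEntryA4j10n6 : allUp certA.entryOK' (10 + 1) 38912 = true :=
  allUp_join (by decide +kernel) checkEntryA4b6 checkEntryA4b7

theorem checkEntryA4j11n0 : allUp certA.entryOK' (11 + 1) 32768 = true :=
  allUp_join (by decide +kernel) checkEntryA4j10n0 checkEntryA4j10n2

theorem checkEntryA4j11n2 : allUp certA.entryOK' (11 + 1) 36864 = true :=
  allUp_join (by decide +kernel) checkEntryA4j10n4 checkEntryA4j10n6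

theorem checkEntryA4 : allUp certA.entryOK' (12 + 1) 32768 = true :=
  allUp_join (by decide +kernel) checkEntryA4j11n0 checkEntryA4j11n2

end CfsgLib.ONPres
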