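import Cfsg.Agent.Lib.CosetEnum.OrbitTables
import Cfsg.Agent.Lib.ONPres.DataA

/-!
Kernel check of consecutive blocks.
-/

set_option autoImplicit false
set_option Elab.async false
set_option linter.style.longLine false

namespace CfsgLib.ONPres
open CfsgLib.CosetEnum

theorem checkEntryA5b0 : allUp certA.entryOK' 10 40960 = true := by decide +kernel

theorem checkEntryA5b1 : allUp certA.entryOK' 10 41984 = true := by decide +kernel

theorem checkEntryA5b2 : allUp certA.entryOK' 10 43008 = true := by decide +kernel

theorem checkEntryA5b3 : allUp certA.entryOK' 10 44032 = true := by decide +kernel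

theorem checkEntryA5b4 : allUp certA.entryOK' 10 45056 = true := by decide +kernel

theorem checkEntryA5b5 : allUp certA.entryOK' 10 46080 = true := by decide +kernel

theorem checkEntryA5b6 : allUp certA.entryOK' 10 47104 = true := by decide +kernel

theorem checkEntryA5b7 : allUp certA.entryOK' 10 48128 = true := by decide +kernel

theorem checkEntryA5j10n0 : allUp certA.entryOK' (10 + 1) 40960 = true :=
  allUp_join (by decide +kernel) checkEntryA5b0 checkEntryA5b1

theorem checkEntryA5j10n2 : allUp certA.entryOK' (10 + 1) 43008 = true :=
  allUp_join (by decide +kernel) checkEntryA5b2 checkEntryA5b3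

theorem checkEntryA5j10n4 : allUp certA.entryOK' (10 + 1) 45056 = true :=
  allUp_join (by decide +kernel) checkEntryA5b4 checkEntryA5b5

theorem checkEntryA5j10n6 : allUp certA.entryOK' (10 + 1) 47104 = true :=
  allUp_join (by decide +kernel) checkEntryA5b6 checkEntryA5b7

theorem checkEntryA5j11n0 : allUp certA.entryOK' (11 + 1) 40960 = true :=
  allUp_join (by decide +kernel) checkEntryA5j10n0 checkEntryA5j10n2

theorem checkEntryA5j11n2 : allUp certA.entryOK' (11 + 1) 45056 = true :=
  allUp_join (by decide +kernel) checkEntryA5j10n4 checkEntryA5j10n6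

theorem checkEntryA5 : allUp certA.entryOK' (12 + 1) 40960 = true :=
  allUp_join (by decide +kernel) checkEntryA5j11n0 checkEntryA5j11n2

end CfsgLib.ONPres
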