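import Cfsg.Agent.Lib.CosetEnum.OrbitTables
import Cfsg.Agent.Lib.ONPres.DataA

/-!
Kernel check of consecutive blocks.
-/

set_option autoImplicit false
set_option Elab.async false
set_option linter.style.longLine false

namespace CfsgLib.ONPres
open CfsgLib.CosetEnum

theorem checkEntryA6b0 : allUp certA.entryOK' 10 49152 = true := by decide +kernel

theorem checkEntryA6b1 : allUp certA.entryOK' 10 50176 = true := by decide +kernel

theorem checkEntryA6b2 : allUp certA.entryOK' 10 51200 = true := by decide +kernel

theorem checkEntryA6b3 : allUp certA.entryOK' 10 52224 = true := by decide +kernel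

theorem checkEntryA6b4 : allUp certA.entryOK' 10 53248 = true := by decide +kernel

theorem checkEntryA6b5 : allUp certA.entryOK' 10 54272 = true := by decide +kernel

theorem checkEntryA6b6 : allUp certA.entryOK' 10 55296 = true := by decide +kernel

theorem checkEntryA6b7 : allUp certA.entryOK' 10 56320 = true := by decide +kernel

theorem checkEntryA6j10n0 : allUp certA.entryOK' (10 + 1) 49152 = true :=
  allUp_join (by decide +kernel) checkEntryA6b0 checkEntryA6b1

theorem checkEntryA6j10n2 : allUp certA.entryOK' (10 + 1) 51200 = true :=
  allUp_join (by decide +kernel) checkEntryA6b2 checkEntryA6b3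

theorem checkEntryA6j10n4 : allUp certA.entryOK' (10 + 1) 53248 = true :=
  allUp_join (by decide +kernel) checkEntryA6b4 checkEntryA6b5

theorem checkEntryA6j10n6 : allUp certA.entryOK' (10 + 1) 55296 = true :=
  allUp_join (by decide +kernel) checkEntryA6b6 checkEntryA6b7

theorem checkEntryA6j11n0 : allUp certA.entryOK' (11 + 1) 49152 = true :=
  allUp_join (by decide +kernel) checkEntryA6j10n0 checkEntryA6j10n2

theorem checkEntryA6j11n2 : allUp certA.entryOK' (11 + 1) 53248 = true :=
  allUp_join (by decide +kernel) checkEntryA6j10n4 checkEntryA6j10n6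

theorem checkEntryA6 : allUp certA.entryOK' (12 + 1) 49152 = true :=
  allUp_join (by decide +kernel) checkEntryA6j11n0 checkEntryA6j11n2

end CfsgLib.ONPres
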