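import Cfsg.Agent.Lib.CosetEnum.OrbitTables
import Cfsg.Agent.Lib.ONPres.DataA

/-!
Kernel check of consecutive blocks.
-/

set_option autoImplicit false
set_option Elab.async false
set_option linter.style.longLine false

namespace CfsgLib.ONPres
open CfsgLib.CosetEnum

theorem checkEntryA7b0 : allUp certA.entryOK' 10 57344 = true := by decide +kernel

theorem checkEntryA7b1 : allUp certA.entryOK' 10 58368 = true := by decide +kernel

theorem checkEntryA7b2 : allUp certA.entryOK' 10 59392 = true := by decide +kernel

theorem checkEntryA7b3 : allUp certA.entryOK' 10 60416 = true := by decide +kernel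

theorem checkEntryA7b4 : allUp certA.entryOK' 10 61440 = true := by decide +kernel

theorem checkEntryA7b5 : allUp certA.entryOK' 10 62464 = true := by decide +kernel

theorem checkEntryA7b6 : allUp certA.entryOK' 10 63488 = true := by decide +kernel

theorem checkEntryA7b7 : allUp certA.entryOK' 10 64512 = true := by decide +kernel

theorem checkEntryA7j10n0 : allUp certA.entryOK' (10 + 1) 57344 = true :=
  allUp_join (by decide +kernel) checkEntryA7b0 checkEntryA7b1

theorem checkEntryA7j10n2 : allUp certA.entryOK' (10 + 1) 59392 = true :=
  allUp_join (by decide +kernel) checkEntryA7b2 checkEntryA7b3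

theorem checkEntryA7j10n4 : allUp certA.entryOK' (10 + 1) 61440 = true :=
  allUp_join (by decide +kernel) checkEntryA7b4 checkEntryA7b5

theorem checkEntryA7j10n6 : allUp certA.entryOK' (10 + 1) 63488 = true :=
  allUp_join (by decide +kernel) checkEntryA7b6 checkEntryA7b7

theorem checkEntryA7j11n0 : allUp certA.entryOK' (11 + 1) 57344 = true :=
  allUp_join (by decide +kernel) checkEntryA7j10n0 checkEntryA7j10n2

theorem checkEntryA7j11n2 : allUp certA.entryOK' (11 + 1) 61440 = true :=
  allUp_join (by decide +kernel) checkEntryA7j10n4 checkEntryA7j10n6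

theorem checkEntryA7 : allUp certA.entryOK' (12 + 1) 57344 = true :=
  allUp_join (by decide +kernel) checkEntryA7j11n0 checkEntryA7j11n2

end CfsgLib.ONPres
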