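import Cfsg.Agent.Lib.CosetEnum.OrbitTables
import Cfsg.Agent.Lib.ONPres.DataA

/-!
Kernel check of consecutive blocks.
-/

set_option autoImplicit false
set_option Elab.async false
set_option linter.style.longLine false

namespace CfsgLib.ONPres
open CfsgLib.CosetEnum

theorem checkEntryA8b0 : allUp certA.entryOK' 10 65536 = true := by decide +kernel

theorem checkEntryA8b1 : allUp certA.entryOK' 10 66560 = true := by decide +kernel

theorem checkEntryA8b2 : allUp certA.entryOK' 10 67584 = true := by decide +kernel

theorem checkEntryA8b3 : allUp certA.entryOK' 10 68608 = true := by decide +kernel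

theorem checkEntryA8b4 : allUp certA.entryOK' 10 69632 = true := by decide +kernel

theorem checkEntryA8b5 : allUp certA.entryOK' 10 70656 = true := by decide +kernel

theorem checkEntryA8b6 : allUp certA.entryOK' 10 71680 = true := by decide +kernel

theorem checkEntryA8b7 : allUp certA.entryOK' 10 72704 = true := by decide +kernel

theorem checkEntryA8j10n0 : allUp certA.entryOK' (10 + 1) 65536 = true :=
  allUp_join (by decide +kernel) checkEntryA8b0 checkEntryA8b1

theorem checkEntryA8j10n2 : allUp certA.entryOK' (10 + 1) 67584 = true :=
  allUp_join (by decide +kernel) checkEntryA8b2 checkEntryA8b3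

theorem checkEntryA8j10n4 : allUp certA.entryOK' (10 + 1) 69632 = true :=
  allUp_join (by decide +kernel) checkEntryA8b4 checkEntryA8b5

theorem checkEntryA8j10n6 : allUp certA.entryOK' (10 + 1) 71680 = true :=
  allUp_join (by decide +kernel) checkEntryA8b6 checkEntryA8b7

theorem checkEntryA8j11n0 : allUp certA.entryOK' (11 + 1) 65536 = true :=
  allUp_join (by decide +kernel) checkEntryA8j10n0 checkEntryA8j10n2

theorem checkEntryA8j11n2 : allUp certA.entryOK' (11 + 1) 69632 = true :=
  allUp_join (by decide +kernel) checkEntryA8j10n4 checkEntryA8j10n6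

theorem checkEntryA8 : allUp certA.entryOK' (12 + 1) 65536 = true :=
  allUp_join (by decide +kernel) checkEntryA8j11n0 checkEntryA8j11n2

end CfsgLib.ONPres
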