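import Cfsg.Agent.Lib.CosetEnum.OrbitTables
import Cfsg.Agent.Lib.ONPres.DataA

/-!
Kernel check of consecutive blocks.
-/

set_option autoImplicit false
set_option Elab.async false
set_option linter.style.longLine false

namespace CfsgLib.ONPres
open CfsgLib.CosetEnum

theorem checkEntryA9b0 : allUp certA.entryOK' 10 73728 = true := by decide +kernel

theorem checkEntryA9b1 : allUp certA.entryOK' 10 74752 = true := by decide +kernel

theorem checkEntryA9b2 : allUp certA.entryOK' 10 75776 = true := by decide +kernel

theorem checkEntryA9b3 : allUp certA.entryOK' 10 76800 = true := by decide +kernel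

theorem checkEntryA9b4 : allUp certA.entryOK' 10 77824 = true := by decide +kernel

theorem checkEntryA9b5 : allUp certA.entryOK' 10 78848 = true := by decide +kernel

theorem checkEntryA9b6 : allUp certA.entryOK' 10 79872 = true := by decide +kernel

theorem checkEntryA9b7 : allUp certA.entryOK' 10 80896 = true := by decide +kernel

theorem checkEntryA9j10n0 : allUp certA.entryOK' (10 + 1) 73728 = true :=
  allUp_join (by decide +kernel) checkEntryA9b0 checkEntryA9b1

theorem checkEntryA9j10n2 : allUp certA.entryOK' (10 + 1) 75776 = true :=
  allUp_join (by decide +kernel) checkEntryA9b2 checkEntryA9b3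

theorem checkEntryA9j10n4 : allUp certA.entryOK' (10 + 1) 77824 = true :=
  allUp_join (by decide +kernel) checkEntryA9b4 checkEntryA9b5

theorem checkEntryA9j10n6 : allUp certA.entryOK' (10 + 1) 79872 = true :=
  allUp_join (by decide +kernel) checkEntryA9b6 checkEntryA9b7

theorem checkEntryA9j11n0 : allUp certA.entryOK' (11 + 1) 73728 = true :=
  allUp_join (by decide +kernel) checkEntryA9j10n0 checkEntryA9j10n2

theorem checkEntryA9j11n2 : allUp certA.entryOK' (11 + 1) 77824 = true :=
  allUp_join (by decide +kernel) checkEntryA9j10n4 checkEntryA9j10n6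

theorem checkEntryA9 : allUp certA.entryOK' (12 + 1) 73728 = true :=
  allUp_join (by decide +kernel) checkEntryA9j11n0 checkEntryA9j11n2

end CfsgLib.ONPres
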