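import Cfsg.Agent.Lib.CosetEnum.OrbitTables
import Cfsg.Agent.Lib.ONPres.EntryA0
import Cfsg.Agent.Lib.ONPres.EntryA1
import Cfsg.Agent.Lib.ONPres.EntryA2
import Cfsg.Agent.Lib.ONPres.EntryA3
import Cfsg.Agent.Lib.ONPres.EntryA4
import Cfsg.Agent.Lib.ONPres.EntryA5
import Cfsg.Agent.Lib.ONPres.EntryA6
import Cfsg.Agent.Lib.ONPres.EntryA7
import Cfsg.Agent.Lib.ONPres.EntryA8
import Cfsg.Agent.Lib.ONPres.EntryA9
import Cfsg.Agent.Lib.ONPres.EntryA10
import Cfsg.Agent.Lib.ONPres.EntryA11
import Cfsg.Agent.Lib.ONPres.EntryA12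
import Cfsg.Agent.Lib.ONPres.EntryA13
import Cfsg.Agent.Lib.ONPres.EntryA14

/-!
Blocks of a kernel check, together.
-/

set_option autoImplicit false
set_option linter.style.longLine false

namespace CfsgLib.ONPres
open CfsgLib.CosetEnum

theorem allEntryA : ∀ i < 15 * 2 ^ (10 + 3), certA.entryOK' i = true :=
  allUp_blocks fun f hf => by
    match f, hf with
    | 0, _ => exact checkEntryA0
    | 1, _ => exact checkEntryA1
    | 2, _ => exact checkEntryA2
    | 3, _ => exact checkEntryA3
    | 4, _ => exact checkEntryA4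
    | 5, _ => exact checkEntryA5
    | 6, _ => exact checkEntryA6
    | 7, _ => exact checkEntryA7
    | 8, _ => exact checkEntryA8
    | 9, _ => exact checkEntryA9
    | 10, _ => exact checkEntryA10
    | 11, _ => exact checkEntryA11
    | 12, _ => exact checkEntryA12
    | 13, _ => exact checkEntryA13
    | 14, _ => exact checkEntryA14
    | n + 15, h => exact absurd h (by omega)

end CfsgLib.ONPres
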