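import Cfsg.Agent.Lib.CosetEnum.OrbitTables
import Cfsg.Agent.Lib.ONPres.DataA

/-!
Kernel check of consecutive blocks.
-/

set_option autoImplicit false
set_option Elab.async false
set_option linter.style.longLine false

namespace CfsgLib.ONPres
open CfsgLib.CosetEnum

theorem checkEntryA12b0 : allUp certA.entryOK' 10 98304 = true := by decide +kernel

theorem checkEntryA12b1 : allUp certA.entryOK' 10 99328 = true := by decide +kernel

theorem checkEntryA12b2 : allUp certA.entryOK' 10 100352 = true := by decide +kernel

theorem checkEntryA12b3 : allUp certA.entryOK' 10 101376 = true := by decide +kernel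

theorem checkEntryA12b4 : allUp certA.entryOK' 10 102400 = true := by decide +kernel

theorem checkEntryA12b5 : allUp certA.entryOK' 10 103424 = true := by decide +kernel

theorem checkEntryA12b6 : allUp certA.entryOK' 10 104448 = true := by decide +kernel

theorem checkEntryA12b7 : allUp certA.entryOK' 10 105472 = true := by decide +kernel

theorem checkEntryA12j10n0 : allUp certA.entryOK' (10 + 1) 98304 = true :=
  allUp_join (by decide +kernel) checkEntryA12b0 checkEntryA12b1

theorem checkEntryA12j10n2 : allUp certA.entryOK' (10 + 1) 100352 = true :=
  allUp_join (by decide +kernel) checkEntryA12b2 checkEntryA12b3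

theorem checkEntryA12j10n4 : allUp certA.entryOK' (10 + 1) 102400 = true :=
  allUp_join (by decide +kernel) checkEntryA12b4 checkEntryA12b5

theorem checkEntryA12j10n6 : allUp certA.entryOK' (10 + 1) 104448 = true :=
  allUp_join (by decide +kernel) checkEntryA12b6 checkEntryA12b7

theorem checkEntryA12j11n0 : allUp certA.entryOK' (11 + 1) 98304 = true :=
  allUp_join (by decide +kernel) checkEntryA12j10n0 checkEntryA12j10n2

theorem checkEntryA12j11n2 : allUp certA.entryOK' (11 + 1) 102400 = true :=
  allUp_join (by decide +kernel) checkEntryA12j10n4 checkEntryA12j10n6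

theorem checkEntryA12 : allUp certA.entryOK' (12 + 1) 98304 = true :=
  allUp_join (by decide +kernel) checkEntryA12j11n0 checkEntryA12j11n2

end CfsgLib.ONPres
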