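import Cfsg.Agent.Lib.CosetEnum.OrbitTables
import Cfsg.Agent.Lib.ONPres.DataA

/-!
Kernel check of consecutive blocks.
-/

set_option autoImplicit false
set_option Elab.async false
set_option linter.style.longLine false

namespace CfsgLib.ONPres
open CfsgLib.CosetEnum

theorem checkImgA1b0 : allUp certA.imgOK' 13 32768 = true := by decide +kernel

theorem checkImgA1b1 : allUp certA.imgOK' 13 40960 = true := by decide +kernel

theorem checkImgA1b2 : allUp certA.imgOK' 13 49152 = true := by decide +kernel

theorem checkImgA1b3 : allUp certA.imgOK' 13 57344 = true := by decide +kernel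

theorem checkImgA1j13n0 : allUp certA.imgOK' (13 + 1) 32768 = true :=
  allUp_join (by decide +kernel) checkImgA1b0 checkImgA1b1

theorem checkImgA1j13n2 : allUp certA.imgOK' (13 + 1) 49152 = true :=
  allUp_join (by decide +kernel) checkImgA1b2 checkImgA1b3

theorem checkImgA1 : allUp certA.imgOK' (14 + 1) 32768 = true :=
  allUp_join (by decide +kernel) checkImgA1j13n0 checkImgA1j13n2

end CfsgLib.ONPres
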