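import Cfsg.Agent.Lib.CosetEnum.OrbitTables
import Cfsg.Agent.Lib.ONPres.DataA

/-!
Kernel check of consecutive blocks.
-/

set_option autoImplicit false
set_option Elab.async false
set_option linter.style.longLine false

namespace CfsgLib.ONPres
open CfsgLib.CosetEnum

theorem checkImgA2b0 : allUp certA.imgOK' 13 65536 = true := by decide +kernel

theorem checkImgA2b1 : allUp certA.imgOK' 13 73728 = true := by decide +kernel

theorem checkImgA2b2 : allUp certA.imgOK' 13 81920 = true := by decide +kernel

theorem checkImgA2b3 : allUp certA.imgOK' 13 90112 = true := by decide +kernel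

theorem checkImgA2j13n0 : allUp certA.imgOK' (13 + 1) 65536 = true :=
  allUp_join (by decide +kernel) checkImgA2b0 checkImgA2b1

theorem checkImgA2j13n2 : allUp certA.imgOK' (13 + 1) 81920 = true :=
  allUp_join (by decide +kernel) checkImgA2b2 checkImgA2b3

theorem checkImgA2 : allUp certA.imgOK' (14 + 1) 65536 = true :=
  allUp_join (by decide +kernel) checkImgA2j13n0 checkImgA2j13n2

end CfsgLib.ONPres
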