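import Cfsg.Agent.Lib.CosetEnum.OrbitTables
import Cfsg.Agent.Lib.ONPres.DataA

/-!
Kernel check of consecutive blocks.
-/

set_option autoImplicit false
set_option Elab.async false
set_option linter.style.longLine false

namespace CfsgLib.ONPres
open CfsgLib.CosetEnum

theorem checkImgA3b0 : allUp certA.imgOK' 13 98304 = true := by decide +kernel

theorem checkImgA3b1 : allUp certA.imgOK' 13 106496 = true := by decide +kernel

theorem checkImgA3b2 : allUp certA.imgOK' 13 114688 = true := by decide +kernel

theorem checkImgA3b3 : allUp certA.imgOK' 13 122880 = true := by decide +kernel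

theorem checkImgA3j13n0 : allUp certA.imgOK' (13 + 1) 98304 = true :=
  allUp_join (by decide +kernel) checkImgA3b0 checkImgA3b1

theorem checkImgA3j13n2 : allUp certA.imgOK' (13 + 1) 114688 = true :=
  allUp_join (by decide +kernel) checkImgA3b2 checkImgA3b3

theorem checkImgA3 : allUp certA.imgOK' (14 + 1) 98304 = true :=
  allUp_join (by decide +kernel) checkImgA3j13n0 checkImgA3j13n2

end CfsgLib.ONPres
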