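import Cfsg.Agent.Lib.CosetEnum.OrbitTables
import Cfsg.Agent.Lib.ONPres.DataA

/-!
Kernel check of consecutive blocks.
-/

set_option autoImplicit false
set_option Elab.async false
set_option linter.style.longLine false

namespace CfsgLib.ONPres
open CfsgLib.CosetEnum

theorem checkImgA4b0 : allUp certA.imgOK' 13 131072 = true := by decide +kernel

theorem checkImgA4b1 : allUp certA.imgOK' 13 139264 = true := by decide +kernel

theorem checkImgA4b2 : allUp certA.imgOK' 13 147456 = true := by decide +kernel

theorem checkImgA4b3 : allUp certA.imgOK' 13 155648 = true := by decide +kernel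

theorem checkImgA4j13n0 : allUp certA.imgOK' (13 + 1) 131072 = true :=
  allUp_join (by decide +kernel) checkImgA4b0 checkImgA4b1

theorem checkImgA4j13n2 : allUp certA.imgOK' (13 + 1) 147456 = true :=
  allUp_join (by decide +kernel) checkImgA4b2 checkImgA4b3

theorem checkImgA4 : allUp certA.imgOK' (14 + 1) 131072 = true :=
  allUp_join (by decide +kernel) checkImgA4j13n0 checkImgA4j13n2

end CfsgLib.ONPres
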