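import Cfsg.Agent.Lib.CosetEnum.OrbitTables
import Cfsg.Agent.Lib.ONPres.ImgA0
import Cfsg.Agent.Lib.ONPres.ImgA1
import Cfsg.Agent.Lib.ONPres.ImgA2
import Cfsg.Agent.Lib.ONPres.ImgA3
import Cfsg.Agent.Lib.ONPres.ImgA4
import Cfsg.Agent.Lib.ONPres.ImgA5

/-!
Blocks of a kernel check, together.
-/

set_option autoImplicit false
set_option linter.style.longLine false

namespace CfsgLib.ONPres
open CfsgLib.CosetEnum

theorem allImgA : ∀ i < 6 * 2 ^ (13 + 2), certA.imgOK' i = true :=
  allUp_blocks fun f hf => by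
    match f, hf with
    | 0, _ => exact checkImgA0
    | 1, _ => exact checkImgA1
    | 2, _ => exact checkImgA2
    | 3, _ => exact checkImgA3
    | 4, _ => exact checkImgA4
    | 5, _ => exact checkImgA5
    | n + 6, h => exact absurd h (by omega)

end CfsgLib.ONPres
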