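import Cfsg.Agent.Lib.CosetEnum.OrbitTables
import Cfsg.Agent.Lib.ONPres.Chain

/-!
Kernel check of consecutive blocks.
-/

set_option autoImplicit false
set_option Elab.async false
set_option linter.style.longLine false

namespace CfsgLib.ONPres
open CfsgLib.CosetEnum

theorem checkLevelA0b0 : allUp (level0.ok certA (tWords levels)) 11 0 = true := by decide +kernel

theorem checkLevelA0b1 : allUp (level0.ok certA (tWords levels)) 11 2048 = true := by decide +kernel

theorem checkLevelA0b2 : allUp (level0.ok certA (tWords levels)) 11 4096 = true := by decide +kernel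

theorem checkLevelA0b3 : allUp (level0.ok certA (tWords levels)) 11 6144 = true := by decide +kernel

theorem checkLevelA0b4 : allUp (level0.ok certA (tWords levels)) 11 8192 = true := by decide +kernel

theorem checkLevelA0b5 : allUp (level0.ok certA (tWords levels)) 11 10240 = true := by decide +kernel

theorem checkLevelA0b6 : allUp (level0.ok certA (tWords levels)) 11 12288 = true := by decide +kernel

theorem checkLevelA0b7 : allUp (level0.ok certA (tWords levels)) 11 14336 = true := by decide +kernel

theorem checkLevelA0j11n0 : allUp (level0.ok certA (tWords levels)) (11 + 1) 0 = true :=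
  allUp_join (by decide +kernel) checkLevelA0b0 checkLevelA0b1

theorem checkLevelA0j11n2 : allUp (level0.ok certA (tWords levels)) (11 + 1) 4096 = true :=
  allUp_join (by decide +kernel) checkLevelA0b2 checkLevelA0b3

theorem checkLevelA0j11n4 : allUp (level0.ok certA (tWords levels)) (11 + 1) 8192 = true :=
  allUp_join (by decide +kernel) checkLevelA0b4 checkLevelA0b5

theorem checkLevelA0j11n6 : allUp (level0.ok certA (tWords levels)) (11 + 1) 12288 = true :=
  allUp_join (by decide +kernel) checkLevelA0b6 checkLevelA0b7

theorem checkLevelA0j12n0 : allUp (level0.ok certA (tWords levels)) (12 + 1) 0 = true :=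
  allUp_join (by decide +kernel) checkLevelA0j11n0 checkLevelA0j11n2

theorem checkLevelA0j12n2 : allUp (level0.ok certA (tWords levels)) (12 + 1) 8192 = true :=
  allUp_join (by decide +kernel) checkLevelA0j11n4 checkLevelA0j11n6

theorem checkLevelA0 : allUp (level0.ok certA (tWords levels)) (13 + 1) 0 = true :=
  allUp_join (by decide +kernel) checkLevelA0j12n0 checkLevelA0j12n2

end CfsgLib.ONPres
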