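import Cfsg.Agent.Lib.CosetEnum.OrbitTables
import Cfsg.Agent.Lib.ONPres.Chain

/-!
Kernel check of consecutive blocks.
-/

set_option autoImplicit false
set_option Elab.async false
set_option linter.style.longLine false

namespace CfsgLib.ONPres
open CfsgLib.CosetEnum

theorem checkLevelA1b0 : allUp (level0.ok certA (tWords levels)) 11 16384 = true := by decide +kernel

theorem checkLevelA1b1 : allUp (level0.ok certA (tWords levels)) 11 18432 = true := by decide +kernel

theorem checkLevelA1b2 : allUp (level0.ok certA (tWords levels)) 11 20480 = true := by decide +kernel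

theorem checkLevelA1b3 : allUp (level0.ok certA (tWords levels)) 11 22528 = true := by decide +kernel

theorem checkLevelA1b4 : allUp (level0.ok certA (tWords levels)) 11 24576 = true := by decide +kernel

theorem checkLevelA1b5 : allUp (level0.ok certA (tWords levels)) 11 26624 = true := by decide +kernel

theorem checkLevelA1b6 : allUp (level0.ok certA (tWords levels)) 11 28672 = true := by decide +kernel

theorem checkLevelA1b7 : allUp (level0.ok certA (tWords levels)) 11 30720 = true := by decide +kernel

theorem checkLevelA1j11n0 : allUp (level0.ok certA (tWords levels)) (11 + 1) 16384 = true :=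
  allUp_join (by decide +kernel) checkLevelA1b0 checkLevelA1b1

theorem checkLevelA1j11n2 : allUp (level0.ok certA (tWords levels)) (11 + 1) 20480 = true :=
  allUp_join (by decide +kernel) checkLevelA1b2 checkLevelA1b3

theorem checkLevelA1j11n4 : allUp (level0.ok certA (tWords levels)) (11 + 1) 24576 = true :=
  allUp_join (by decide +kernel) checkLevelA1b4 checkLevelA1b5

theorem checkLevelA1j11n6 : allUp (level0.ok certA (tWords levels)) (11 + 1) 28672 = true :=
  allUp_join (by decide +kernel) checkLevelA1b6 checkLevelA1b7

theorem checkLevelA1j12n0 : allUp (level0.ok certA (tWords levels)) (12 + 1) 16384 = true :=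
  allUp_join (by decide +kernel) checkLevelA1j11n0 checkLevelA1j11n2

theorem checkLevelA1j12n2 : allUp (level0.ok certA (tWords levels)) (12 + 1) 24576 = true :=
  allUp_join (by decide +kernel) checkLevelA1j11n4 checkLevelA1j11n6

theorem checkLevelA1 : allUp (level0.ok certA (tWords levels)) (13 + 1) 16384 = true :=
  allUp_join (by decide +kernel) checkLevelA1j12n0 checkLevelA1j12n2

end CfsgLib.ONPres
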