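import Cfsg.Agent.Lib.CosetEnum.OrbitTables
import Cfsg.Agent.Lib.ONPres.Chain

/-!
Kernel check of consecutive blocks.
-/

set_option autoImplicit false
set_option Elab.async false
set_option linter.style.longLine false

namespace CfsgLib.ONPres
open CfsgLib.CosetEnum

theorem checkLevelA3b0 : allUp (level0.ok certA (tWords levels)) 11 49152 = true := by decide +kernel

theorem checkLevelA3b1 : allUp (level0.ok certA (tWords levels)) 11 51200 = true := by decide +kernel

theorem checkLevelA3b2 : allUp (level0.ok certA (tWords levels)) 11 53248 = true := by decide +kernel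

theorem checkLevelA3b3 : allUp (level0.ok certA (tWords levels)) 11 55296 = true := by decide +kernel

theorem checkLevelA3b4 : allUp (level0.ok certA (tWords levels)) 11 57344 = true := by decide +kernel

theorem checkLevelA3b5 : allUp (level0.ok certA (tWords levels)) 11 59392 = true := by decide +kernel

theorem checkLevelA3b6 : allUp (level0.ok certA (tWords levels)) 11 61440 = true := by decide +kernel

theorem checkLevelA3b7 : allUp (level0.ok certA (tWords levels)) 11 63488 = true := by decide +kernel

theorem checkLevelA3j11n0 : allUp (level0.ok certA (tWords levels)) (11 + 1) 49152 = true :=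
  allUp_join (by decide +kernel) checkLevelA3b0 checkLevelA3b1

theorem checkLevelA3j11n2 : allUp (level0.ok certA (tWords levels)) (11 + 1) 53248 = true :=
  allUp_join (by decide +kernel) checkLevelA3b2 checkLevelA3b3

theorem checkLevelA3j11n4 : allUp (level0.ok certA (tWords levels)) (11 + 1) 57344 = true :=
  allUp_join (by decide +kernel) checkLevelA3b4 checkLevelA3b5

theorem checkLevelA3j11n6 : allUp (level0.ok certA (tWords levels)) (11 + 1) 61440 = true :=
  allUp_join (by decide +kernel) checkLevelA3b6 checkLevelA3b7

theorem checkLevelA3j12n0 : allUp (level0.ok certA (tWords levels)) (12 + 1) 49152 = true :=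
  allUp_join (by decide +kernel) checkLevelA3j11n0 checkLevelA3j11n2

theorem checkLevelA3j12n2 : allUp (level0.ok certA (tWords levels)) (12 + 1) 57344 = true :=
  allUp_join (by decide +kernel) checkLevelA3j11n4 checkLevelA3j11n6

theorem checkLevelA3 : allUp (level0.ok certA (tWords levels)) (13 + 1) 49152 = true :=
  allUp_join (by decide +kernel) checkLevelA3j12n0 checkLevelA3j12n2

end CfsgLib.ONPres
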