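import Cfsg.Agent.Lib.CosetEnum.OrbitTables
import Cfsg.Agent.Lib.ONPres.Chain

/-!
Kernel check of consecutive blocks.
-/

set_option autoImplicit false
set_option Elab.async false
set_option linter.style.longLine false

namespace CfsgLib.ONPres
open CfsgLib.CosetEnum

theorem checkLevelA4b0 : allUp (level0.ok certA (tWords levels)) 11 65536 = true := by decide +kernel

theorem checkLevelA4b1 : allUp (level0.ok certA (tWords levels)) 11 67584 = true := by decide +kernel

theorem checkLevelA4b2 : allUp (level0.ok certA (tWords levels)) 11 69632 = true := by decide +kernel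

theorem checkLevelA4b3 : allUp (level0.ok certA (tWords levels)) 11 71680 = true := by decide +kernel

theorem checkLevelA4b4 : allUp (level0.ok certA (tWords levels)) 11 73728 = true := by decide +kernel

theorem checkLevelA4b5 : allUp (level0.ok certA (tWords levels)) 11 75776 = true := by decide +kernel

theorem checkLevelA4b6 : allUp (level0.ok certA (tWords levels)) 11 77824 = true := by decide +kernel

theorem checkLevelA4b7 : allUp (level0.ok certA (tWords levels)) 11 79872 = true := by decide +kernel

theorem checkLevelA4j11n0 : allUp (level0.ok certA (tWords levels)) (11 + 1) 65536 = true :=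
  allUp_join (by decide +kernel) checkLevelA4b0 checkLevelA4b1

theorem checkLevelA4j11n2 : allUp (level0.ok certA (tWords levels)) (11 + 1) 69632 = true :=
  allUp_join (by decide +kernel) checkLevelA4b2 checkLevelA4b3

theorem checkLevelA4j11n4 : allUp (level0.ok certA (tWords levels)) (11 + 1) 73728 = true :=
  allUp_join (by decide +kernel) checkLevelA4b4 checkLevelA4b5

theorem checkLevelA4j11n6 : allUp (level0.ok certA (tWords levels)) (11 + 1) 77824 = true :=
  allUp_join (by decide +kernel) checkLevelA4b6 checkLevelA4b7

theorem checkLevelA4j12n0 : allUp (level0.ok certA (tWords levels)) (12 + 1) 65536 = true :=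
  allUp_join (by decide +kernel) checkLevelA4j11n0 checkLevelA4j11n2

theorem checkLevelA4j12n2 : allUp (level0.ok certA (tWords levels)) (12 + 1) 73728 = true :=
  allUp_join (by decide +kernel) checkLevelA4j11n4 checkLevelA4j11n6

theorem checkLevelA4 : allUp (level0.ok certA (tWords levels)) (13 + 1) 65536 = true :=
  allUp_join (by decide +kernel) checkLevelA4j12n0 checkLevelA4j12n2

end CfsgLib.ONPres
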