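import Cfsg.Agent.Lib.CosetEnum.OrbitTables
import Cfsg.Agent.Lib.ONPres.Chain

/-!
Kernel check of consecutive blocks.
-/

set_option autoImplicit false
set_option Elab.async false
set_option linter.style.longLine false

namespace CfsgLib.ONPres
open CfsgLib.CosetEnum

theorem checkLevelA5b0 : allUp (level0.ok certA (tWords levels)) 11 81920 = true := by decide +kernel

theorem checkLevelA5b1 : allUp (level0.ok certA (tWords levels)) 11 83968 = true := by decide +kernel

theorem checkLevelA5b2 : allUp (level0.ok certA (tWords levels)) 11 86016 = true := by decide +kernel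

theorem checkLevelA5b3 : allUp (level0.ok certA (tWords levels)) 11 88064 = true := by decide +kernel

theorem checkLevelA5b4 : allUp (level0.ok certA (tWords levels)) 11 90112 = true := by decide +kernel

theorem checkLevelA5b5 : allUp (level0.ok certA (tWords levels)) 11 92160 = true := by decide +kernel

theorem checkLevelA5b6 : allUp (level0.ok certA (tWords levels)) 11 94208 = true := by decide +kernel

theorem checkLevelA5b7 : allUp (level0.ok certA (tWords levels)) 11 96256 = true := by decide +kernel

theorem checkLevelA5j11n0 : allUp (level0.ok certA (tWords levels)) (11 + 1) 81920 = true :=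
  allUp_join (by decide +kernel) checkLevelA5b0 checkLevelA5b1

theorem checkLevelA5j11n2 : allUp (level0.ok certA (tWords levels)) (11 + 1) 86016 = true :=
  allUp_join (by decide +kernel) checkLevelA5b2 checkLevelA5b3

theorem checkLevelA5j11n4 : allUp (level0.ok certA (tWords levels)) (11 + 1) 90112 = true :=
  allUp_join (by decide +kernel) checkLevelA5b4 checkLevelA5b5

theorem checkLevelA5j11n6 : allUp (level0.ok certA (tWords levels)) (11 + 1) 94208 = true :=
  allUp_join (by decide +kernel) checkLevelA5b6 checkLevelA5b7

theorem checkLevelA5j12n0 : allUp (level0.ok certA (tWords levels)) (12 + 1) 81920 = true :=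
  allUp_join (by decide +kernel) checkLevelA5j11n0 checkLevelA5j11n2

theorem checkLevelA5j12n2 : allUp (level0.ok certA (tWords levels)) (12 + 1) 90112 = true :=
  allUp_join (by decide +kernel) checkLevelA5j11n4 checkLevelA5j11n6

theorem checkLevelA5 : allUp (level0.ok certA (tWords levels)) (13 + 1) 81920 = true :=
  allUp_join (by decide +kernel) checkLevelA5j12n0 checkLevelA5j12n2

end CfsgLib.ONPres
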