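import Cfsg.Agent.Lib.CosetEnum.OrbitTables
import Cfsg.Agent.Lib.ONPres.Chain

/-!
Kernel check of consecutive blocks.
-/

set_option autoImplicit false
set_option Elab.async false
set_option linter.style.longLine false

namespace CfsgLib.ONPres
open CfsgLib.CosetEnum

theorem checkLevelA6b0 : allUp (level0.ok certA (tWords levels)) 11 98304 = true := by decide +kernel

theorem checkLevelA6b1 : allUp (level0.ok certA (tWords levels)) 11 100352 = true := by decide +kernel

theorem checkLevelA6b2 : allUp (level0.ok certA (tWords levels)) 11 102400 = true := by decide +kernel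

theorem checkLevelA6b3 : allUp (level0.ok certA (tWords levels)) 11 104448 = true := by decide +kernel

theorem checkLevelA6b4 : allUp (level0.ok certA (tWords levels)) 11 106496 = true := by decide +kernel

theorem checkLevelA6b5 : allUp (level0.ok certA (tWords levels)) 11 108544 = true := by decide +kernel

theorem checkLevelA6b6 : allUp (level0.ok certA (tWords levels)) 11 110592 = true := by decide +kernel

theorem checkLevelA6b7 : allUp (level0.ok certA (tWords levels)) 11 112640 = true := by decide +kernel

theorem checkLevelA6j11n0 : allUp (level0.ok certA (tWords levels)) (11 + 1) 98304 = true :=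
  allUp_join (by decide +kernel) checkLevelA6b0 checkLevelA6b1

theorem checkLevelA6j11n2 : allUp (level0.ok certA (tWords levels)) (11 + 1) 102400 = true :=
  allUp_join (by decide +kernel) checkLevelA6b2 checkLevelA6b3

theorem checkLevelA6j11n4 : allUp (level0.ok certA (tWords levels)) (11 + 1) 106496 = true :=
  allUp_join (by decide +kernel) checkLevelA6b4 checkLevelA6b5

theorem checkLevelA6j11n6 : allUp (level0.ok certA (tWords levels)) (11 + 1) 110592 = true :=
  allUp_join (by decide +kernel) checkLevelA6b6 checkLevelA6b7

theorem checkLevelA6j12n0 : allUp (level0.ok certA (tWords levels)) (12 + 1) 98304 = true :=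
  allUp_join (by decide +kernel) checkLevelA6j11n0 checkLevelA6j11n2

theorem checkLevelA6j12n2 : allUp (level0.ok certA (tWords levels)) (12 + 1) 106496 = true :=
  allUp_join (by decide +kernel) checkLevelA6j11n4 checkLevelA6j11n6

theorem checkLevelA6 : allUp (level0.ok certA (tWords levels)) (13 + 1) 98304 = true :=
  allUp_join (by decide +kernel) checkLevelA6j12n0 checkLevelA6j12n2

end CfsgLib.ONPres
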