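import Cfsg.Agent.Lib.CosetEnum.OrbitTables
import Cfsg.Agent.Lib.ONPres.Chain

/-!
Kernel check of consecutive blocks.
-/

set_option autoImplicit false
set_option Elab.async false
set_option linter.style.longLine false

namespace CfsgLib.ONPres
open CfsgLib.CosetEnum

theorem checkLevelA7b0 : allUp (level0.ok certA (tWords levels)) 11 114688 = true := by decide +kernel

theorem checkLevelA7b1 : allUp (level0.ok certA (tWords levels)) 11 116736 = true := by decide +kernel

theorem checkLevelA7b2 : allUp (level0.ok certA (tWords levels)) 11 118784 = true := by decide +kernel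

theorem checkLevelA7b3 : allUp (level0.ok certA (tWords levels)) 11 120832 = true := by decide +kernel

theorem checkLevelA7b4 : allUp (level0.ok certA (tWords levels)) 11 122880 = true := by decide +kernel

theorem checkLevelA7b5 : allUp (level0.ok certA (tWords levels)) 11 124928 = true := by decide +kernel

theorem checkLevelA7b6 : allUp (level0.ok certA (tWords levels)) 11 126976 = true := by decide +kernel

theorem checkLevelA7b7 : allUp (level0.ok certA (tWords levels)) 11 129024 = true := by decide +kernel

theorem checkLevelA7j11n0 : allUp (level0.ok certA (tWords levels)) (11 + 1) 114688 = true :=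
  allUp_join (by decide +kernel) checkLevelA7b0 checkLevelA7b1

theorem checkLevelA7j11n2 : allUp (level0.ok certA (tWords levels)) (11 + 1) 118784 = true :=
  allUp_join (by decide +kernel) checkLevelA7b2 checkLevelA7b3

theorem checkLevelA7j11n4 : allUp (level0.ok certA (tWords levels)) (11 + 1) 122880 = true :=
  allUp_join (by decide +kernel) checkLevelA7b4 checkLevelA7b5

theorem checkLevelA7j11n6 : allUp (level0.ok certA (tWords levels)) (11 + 1) 126976 = true :=
  allUp_join (by decide +kernel) checkLevelA7b6 checkLevelA7b7

theorem checkLevelA7j12n0 : allUp (level0.ok certA (tWords levels)) (12 + 1) 114688 = true :=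
  allUp_join (by decide +kernel) checkLevelA7j11n0 checkLevelA7j11n2

theorem checkLevelA7j12n2 : allUp (level0.ok certA (tWords levels)) (12 + 1) 122880 = true :=
  allUp_join (by decide +kernel) checkLevelA7j11n4 checkLevelA7j11n6

theorem checkLevelA7 : allUp (level0.ok certA (tWords levels)) (13 + 1) 114688 = true :=
  allUp_join (by decide +kernel) checkLevelA7j12n0 checkLevelA7j12n2

end CfsgLib.ONPres
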