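import Cfsg.Agent.Lib.CosetEnum.OrbitTables
import Cfsg.Agent.Lib.ONPres.LevelA0
import Cfsg.Agent.Lib.ONPres.LevelA1
import Cfsg.Agent.Lib.ONPres.LevelA2
import Cfsg.Agent.Lib.ONPres.LevelA3
import Cfsg.Agent.Lib.ONPres.LevelA4
import Cfsg.Agent.Lib.ONPres.LevelA5
import Cfsg.Agent.Lib.ONPres.LevelA6
import Cfsg.Agent.Lib.ONPres.LevelA7

/-!
Blocks of a kernel check, together.
-/

set_option autoImplicit false
set_option linter.style.longLine false

namespace CfsgLib.ONPres
open CfsgLib.CosetEnum

theorem allLevelA : ∀ i < 8 * 2 ^ (11 + 3), (level0.ok certA (tWords levels)) i = true :=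
  allUp_blocks fun f hf => by
    match f, hf with
    | 0, _ => exact checkLevelA0
    | 1, _ => exact checkLevelA1
    | 2, _ => exact checkLevelA2
    | 3, _ => exact checkLevelA3
    | 4, _ => exact checkLevelA4
    | 5, _ => exact checkLevelA5
    | 6, _ => exact checkLevelA6
    | 7, _ => exact checkLevelA7
    | n + 8, h => exact absurd h (by omega)

end CfsgLib.ONPres
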