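import Cfsg.Agent.Lib.CosetEnum.OrbitTables
import Cfsg.Agent.Lib.ONPres.DataA

/-!
Kernel check of consecutive blocks.
-/

set_option autoImplicit false
set_option Elab.async false
set_option linter.style.longLine false

namespace CfsgLib.ONPres
open CfsgLib.CosetEnum

theorem checkNdImgA2b0 : allUp certA.ndImgOK' 14 65536 = true := by decide +kernel

theorem checkNdImgA2b1 : allUp certA.ndImgOK' 14 81920 = true := by decide +kernel

theorem checkNdImgA2 : allUp certA.ndImgOK' (14 + 1) 65536 = true :=
  allUp_join (by decide +kernel) checkNdImgA2b0 checkNdImgA2b1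

end CfsgLib.ONPres
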