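import Cfsg.Agent.Lib.CosetEnum.OrbitTables
import Cfsg.Agent.Lib.ONPres.NdImgA0
import Cfsg.Agent.Lib.ONPres.NdImgA1
import Cfsg.Agent.Lib.ONPres.NdImgA2
import Cfsg.Agent.Lib.ONPres.NdImgA3

/-!
Blocks of a kernel check, together.
-/

set_option autoImplicit false
set_option linter.style.longLine false

namespace CfsgLib.ONPres
open CfsgLib.CosetEnum

theorem allNdImgA : ∀ i < 4 * 2 ^ (14 + 1), certA.ndImgOK' i = true :=
  allUp_blocks fun f hf => by
    match f, hf with
    | 0, _ => exact checkNdImgA0
    | 1, _ => exact checkNdImgA1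
    | 2, _ => exact checkNdImgA2
    | 3, _ => exact checkNdImgA3
    | n + 4, h => exact absurd h (by omega)

end CfsgLib.ONPres
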