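import Cfsg.Agent.Lib.CosetEnum.OrbitTables
import Cfsg.Agent.Lib.ONPres.DataA
import Cfsg.Agent.Lib.ONPres.DataOrb

/-!
Kernel check of consecutive blocks.
-/

set_option autoImplicit false
set_option Elab.async false
set_option linter.style.longLine false

namespace CfsgLib.ONPres
open CfsgLib.CosetEnum

theorem checkOrbA0b0 : allUp (orbTab.ok certA) 11 0 = true := by decide +kernel

theorem checkOrbA0b1 : allUp (orbTab.ok certA) 11 2048 = true := by decide +kernel

theorem checkOrbA0b2 : allUp (orbTab.ok certA) 11 4096 = true := by decide +kernel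

theorem checkOrbA0b3 : allUp (orbTab.ok certA) 11 6144 = true := by decide +kernel

theorem checkOrbA0b4 : allUp (orbTab.ok certA) 11 8192 = true := by decide +kernel

theorem checkOrbA0b5 : allUp (orbTab.ok certA) 11 10240 = true := by decide +kernel

theorem checkOrbA0b6 : allUp (orbTab.ok certA) 11 12288 = true := by decide +kernel

theorem checkOrbA0b7 : allUp (orbTab.ok certA) 11 14336 = true := by decide +kernel

theorem checkOrbA0j11n0 : allUp (orbTab.ok certA) (11 + 1) 0 = true :=
  allUp_join (by decide +kernel) checkOrbA0b0 checkOrbA0b1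

theorem checkOrbA0j11n2 : allUp (orbTab.ok certA) (11 + 1) 4096 = true :=
  allUp_join (by decide +kernel) checkOrbA0b2 checkOrbA0b3

theorem checkOrbA0j11n4 : allUp (orbTab.ok certA) (11 + 1) 8192 = true :=
  allUp_join (by decide +kernel) checkOrbA0b4 checkOrbA0b5

theorem checkOrbA0j11n6 : allUp (orbTab.ok certA) (11 + 1) 12288 = true :=
  allUp_join (by decide +kernel) checkOrbA0b6 checkOrbA0b7

theorem checkOrbA0j12n0 : allUp (orbTab.ok certA) (12 + 1) 0 = true :=
  allUp_join (by decide +kernel) checkOrbA0j11n0 checkOrbA0j11n2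

theorem checkOrbA0j12n2 : allUp (orbTab.ok certA) (12 + 1) 8192 = true :=
  allUp_join (by decide +kernel) checkOrbA0j11n4 checkOrbA0j11n6

theorem checkOrbA0 : allUp (orbTab.ok certA) (13 + 1) 0 = true :=
  allUp_join (by decide +kernel) checkOrbA0j12n0 checkOrbA0j12n2

end CfsgLib.ONPres
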