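import Cfsg.Agent.Lib.CosetEnum.OrbitTables
import Cfsg.Agent.Lib.ONPres.DataA
import Cfsg.Agent.Lib.ONPres.DataOrb

/-!
Kernel check of consecutive blocks.
-/

set_option autoImplicit false
set_option Elab.async false
set_option linter.style.longLine false

namespace CfsgLib.ONPres
open CfsgLib.CosetEnum

theorem checkOrbA1b0 : allUp (orbTab.ok certA) 11 16384 = true := by decide +kernel

theorem checkOrbA1b1 : allUp (orbTab.ok certA) 11 18432 = true := by decide +kernel

theorem checkOrbA1b2 : allUp (orbTab.ok certA) 11 20480 = true := by decide +kernel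

theorem checkOrbA1b3 : allUp (orbTab.ok certA) 11 22528 = true := by decide +kernel

theorem checkOrbA1b4 : allUp (orbTab.ok certA) 11 24576 = true := by decide +kernel

theorem checkOrbA1b5 : allUp (orbTab.ok certA) 11 26624 = true := by decide +kernel

theorem checkOrbA1b6 : allUp (orbTab.ok certA) 11 28672 = true := by decide +kernel

theorem checkOrbA1b7 : allUp (orbTab.ok certA) 11 30720 = true := by decide +kernel

theorem checkOrbA1j11n0 : allUp (orbTab.ok certA) (11 + 1) 16384 = true :=
  allUp_join (by decide +kernel) checkOrbA1b0 checkOrbA1b1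

theorem checkOrbA1j11n2 : allUp (orbTab.ok certA) (11 + 1) 20480 = true :=
  allUp_join (by decide +kernel) checkOrbA1b2 checkOrbA1b3

theorem checkOrbA1j11n4 : allUp (orbTab.ok certA) (11 + 1) 24576 = true :=
  allUp_join (by decide +kernel) checkOrbA1b4 checkOrbA1b5

theorem checkOrbA1j11n6 : allUp (orbTab.ok certA) (11 + 1) 28672 = true :=
  allUp_join (by decide +kernel) checkOrbA1b6 checkOrbA1b7

theorem checkOrbA1j12n0 : allUp (orbTab.ok certA) (12 + 1) 16384 = true :=
  allUp_join (by decide +kernel) checkOrbA1j11n0 checkOrbA1j11n2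

theorem checkOrbA1j12n2 : allUp (orbTab.ok certA) (12 + 1) 24576 = true :=
  allUp_join (by decide +kernel) checkOrbA1j11n4 checkOrbA1j11n6

theorem checkOrbA1 : allUp (orbTab.ok certA) (13 + 1) 16384 = true :=
  allUp_join (by decide +kernel) checkOrbA1j12n0 checkOrbA1j12n2

end CfsgLib.ONPres
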