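import Cfsg.Agent.Lib.CosetEnum.OrbitTables
import Cfsg.Agent.Lib.ONPres.DataA
import Cfsg.Agent.Lib.ONPres.DataOrb

/-!
Kernel check of consecutive blocks.
-/

set_option autoImplicit false
set_option Elab.async false
set_option linter.style.longLine false

namespace CfsgLib.ONPres
open CfsgLib.CosetEnum

theorem checkOrbA2b0 : allUp (orbTab.ok certA) 11 32768 = true := by decide +kernel

theorem checkOrbA2b1 : allUp (orbTab.ok certA) 11 34816 = true := by decide +kernel

theorem checkOrbA2b2 : allUp (orbTab.ok certA) 11 36864 = true := by decide +kernel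

theorem checkOrbA2b3 : allUp (orbTab.ok certA) 11 38912 = true := by decide +kernel

theorem checkOrbA2b4 : allUp (orbTab.ok certA) 11 40960 = true := by decide +kernel

theorem checkOrbA2b5 : allUp (orbTab.ok certA) 11 43008 = true := by decide +kernel

theorem checkOrbA2b6 : allUp (orbTab.ok certA) 11 45056 = true := by decide +kernel

theorem checkOrbA2b7 : allUp (orbTab.ok certA) 11 47104 = true := by decide +kernel

theorem checkOrbA2j11n0 : allUp (orbTab.ok certA) (11 + 1) 32768 = true :=
  allUp_join (by decide +kernel) checkOrbA2b0 checkOrbA2b1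

theorem checkOrbA2j11n2 : allUp (orbTab.ok certA) (11 + 1) 36864 = true :=
  allUp_join (by decide +kernel) checkOrbA2b2 checkOrbA2b3

theorem checkOrbA2j11n4 : allUp (orbTab.ok certA) (11 + 1) 40960 = true :=
  allUp_join (by decide +kernel) checkOrbA2b4 checkOrbA2b5

theorem checkOrbA2j11n6 : allUp (orbTab.ok certA) (11 + 1) 45056 = true :=
  allUp_join (by decide +kernel) checkOrbA2b6 checkOrbA2b7

theorem checkOrbA2j12n0 : allUp (orbTab.ok certA) (12 + 1) 32768 = true :=
  allUp_join (by decide +kernel) checkOrbA2j11n0 checkOrbA2j11n2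

theorem checkOrbA2j12n2 : allUp (orbTab.ok certA) (12 + 1) 40960 = true :=
  allUp_join (by decide +kernel) checkOrbA2j11n4 checkOrbA2j11n6

theorem checkOrbA2 : allUp (orbTab.ok certA) (13 + 1) 32768 = true :=
  allUp_join (by decide +kernel) checkOrbA2j12n0 checkOrbA2j12n2

end CfsgLib.ONPres
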