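import Cfsg.Agent.Lib.CosetEnum.OrbitTables
import Cfsg.Agent.Lib.ONPres.DataA
import Cfsg.Agent.Lib.ONPres.DataOrb

/-!
Kernel check of consecutive blocks.
-/

set_option autoImplicit false
set_option Elab.async false
set_option linter.style.longLine false

namespace CfsgLib.ONPres
open CfsgLib.CosetEnum

theorem checkOrbA3b0 : allUp (orbTab.ok certA) 11 49152 = true := by decide +kernel

theorem checkOrbA3b1 : allUp (orbTab.ok certA) 11 51200 = true := by decide +kernel

theorem checkOrbA3b2 : allUp (orbTab.ok certA) 11 53248 = true := by decide +kernel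

theorem checkOrbA3b3 : allUp (orbTab.ok certA) 11 55296 = true := by decide +kernel

theorem checkOrbA3b4 : allUp (orbTab.ok certA) 11 57344 = true := by decide +kernel

theorem checkOrbA3b5 : allUp (orbTab.ok certA) 11 59392 = true := by decide +kernel

theorem checkOrbA3b6 : allUp (orbTab.ok certA) 11 61440 = true := by decide +kernel

theorem checkOrbA3b7 : allUp (orbTab.ok certA) 11 63488 = true := by decide +kernel

theorem checkOrbA3j11n0 : allUp (orbTab.ok certA) (11 + 1) 49152 = true :=
  allUp_join (by decide +kernel) checkOrbA3b0 checkOrbA3b1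

theorem checkOrbA3j11n2 : allUp (orbTab.ok certA) (11 + 1) 53248 = true :=
  allUp_join (by decide +kernel) checkOrbA3b2 checkOrbA3b3

theorem checkOrbA3j11n4 : allUp (orbTab.ok certA) (11 + 1) 57344 = true :=
  allUp_join (by decide +kernel) checkOrbA3b4 checkOrbA3b5

theorem checkOrbA3j11n6 : allUp (orbTab.ok certA) (11 + 1) 61440 = true :=
  allUp_join (by decide +kernel) checkOrbA3b6 checkOrbA3b7

theorem checkOrbA3j12n0 : allUp (orbTab.ok certA) (12 + 1) 49152 = true :=
  allUp_join (by decide +kernel) checkOrbA3j11n0 checkOrbA3j11n2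

theorem checkOrbA3j12n2 : allUp (orbTab.ok certA) (12 + 1) 57344 = true :=
  allUp_join (by decide +kernel) checkOrbA3j11n4 checkOrbA3j11n6

theorem checkOrbA3 : allUp (orbTab.ok certA) (13 + 1) 49152 = true :=
  allUp_join (by decide +kernel) checkOrbA3j12n0 checkOrbA3j12n2

end CfsgLib.ONPres
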