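import Cfsg.Agent.Lib.CosetEnum.OrbitTables
import Cfsg.Agent.Lib.ONPres.DataA
import Cfsg.Agent.Lib.ONPres.DataOrb

/-!
Kernel check of consecutive blocks.
-/

set_option autoImplicit false
set_option Elab.async false
set_option linter.style.longLine false

namespace CfsgLib.ONPres
open CfsgLib.CosetEnum

theorem checkOrbA4b0 : allUp (orbTab.ok certA) 11 65536 = true := by decide +kernel

theorem checkOrbA4b1 : allUp (orbTab.ok certA) 11 67584 = true := by decide +kernel

theorem checkOrbA4b2 : allUp (orbTab.ok certA) 11 69632 = true := by decide +kernel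

theorem checkOrbA4b3 : allUp (orbTab.ok certA) 11 71680 = true := by decide +kernel

theorem checkOrbA4b4 : allUp (orbTab.ok certA) 11 73728 = true := by decide +kernel

theorem checkOrbA4b5 : allUp (orbTab.ok certA) 11 75776 = true := by decide +kernel

theorem checkOrbA4b6 : allUp (orbTab.ok certA) 11 77824 = true := by decide +kernel

theorem checkOrbA4b7 : allUp (orbTab.ok certA) 11 79872 = true := by decide +kernel

theorem checkOrbA4j11n0 : allUp (orbTab.ok certA) (11 + 1) 65536 = true :=
  allUp_join (by decide +kernel) checkOrbA4b0 checkOrbA4b1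

theorem checkOrbA4j11n2 : allUp (orbTab.ok certA) (11 + 1) 69632 = true :=
  allUp_join (by decide +kernel) checkOrbA4b2 checkOrbA4b3

theorem checkOrbA4j11n4 : allUp (orbTab.ok certA) (11 + 1) 73728 = true :=
  allUp_join (by decide +kernel) checkOrbA4b4 checkOrbA4b5

theorem checkOrbA4j11n6 : allUp (orbTab.ok certA) (11 + 1) 77824 = true :=
  allUp_join (by decide +kernel) checkOrbA4b6 checkOrbA4b7

theorem checkOrbA4j12n0 : allUp (orbTab.ok certA) (12 + 1) 65536 = true :=
  allUp_join (by decide +kernel) checkOrbA4j11n0 checkOrbA4j11n2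

theorem checkOrbA4j12n2 : allUp (orbTab.ok certA) (12 + 1) 73728 = true :=
  allUp_join (by decide +kernel) checkOrbA4j11n4 checkOrbA4j11n6

theorem checkOrbA4 : allUp (orbTab.ok certA) (13 + 1) 65536 = true :=
  allUp_join (by decide +kernel) checkOrbA4j12n0 checkOrbA4j12n2

end CfsgLib.ONPres
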