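import Cfsg.Agent.Lib.CosetEnum.OrbitTables
import Cfsg.Agent.Lib.ONPres.DataA
import Cfsg.Agent.Lib.ONPres.DataOrb

/-!
Kernel check of consecutive blocks.
-/

set_option autoImplicit false
set_option Elab.async false
set_option linter.style.longLine false

namespace CfsgLib.ONPres
open CfsgLib.CosetEnum

theorem checkOrbA5b0 : allUp (orbTab.ok certA) 11 81920 = true := by decide +kernel

theorem checkOrbA5b1 : allUp (orbTab.ok certA) 11 83968 = true := by decide +kernel

theorem checkOrbA5b2 : allUp (orbTab.ok certA) 11 86016 = true := by decide +kernel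

theorem checkOrbA5b3 : allUp (orbTab.ok certA) 11 88064 = true := by decide +kernel

theorem checkOrbA5b4 : allUp (orbTab.ok certA) 11 90112 = true := by decide +kernel

theorem checkOrbA5b5 : allUp (orbTab.ok certA) 11 92160 = true := by decide +kernel

theorem checkOrbA5b6 : allUp (orbTab.ok certA) 11 94208 = true := by decide +kernel

theorem checkOrbA5b7 : allUp (orbTab.ok certA) 11 96256 = true := by decide +kernel

theorem checkOrbA5j11n0 : allUp (orbTab.ok certA) (11 + 1) 81920 = true :=
  allUp_join (by decide +kernel) checkOrbA5b0 checkOrbA5b1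

theorem checkOrbA5j11n2 : allUp (orbTab.ok certA) (11 + 1) 86016 = true :=
  allUp_join (by decide +kernel) checkOrbA5b2 checkOrbA5b3

theorem checkOrbA5j11n4 : allUp (orbTab.ok certA) (11 + 1) 90112 = true :=
  allUp_join (by decide +kernel) checkOrbA5b4 checkOrbA5b5

theorem checkOrbA5j11n6 : allUp (orbTab.ok certA) (11 + 1) 94208 = true :=
  allUp_join (by decide +kernel) checkOrbA5b6 checkOrbA5b7

theorem checkOrbA5j12n0 : allUp (orbTab.ok certA) (12 + 1) 81920 = true :=
  allUp_join (by decide +kernel) checkOrbA5j11n0 checkOrbA5j11n2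

theorem checkOrbA5j12n2 : allUp (orbTab.ok certA) (12 + 1) 90112 = true :=
  allUp_join (by decide +kernel) checkOrbA5j11n4 checkOrbA5j11n6

theorem checkOrbA5 : allUp (orbTab.ok certA) (13 + 1) 81920 = true :=
  allUp_join (by decide +kernel) checkOrbA5j12n0 checkOrbA5j12n2

end CfsgLib.ONPres
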