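import Cfsg.Agent.Lib.CosetEnum.OrbitTables
import Cfsg.Agent.Lib.ONPres.DataA
import Cfsg.Agent.Lib.ONPres.DataOrb

/-!
Kernel check of consecutive blocks.
-/

set_option autoImplicit false
set_option Elab.async false
set_option linter.style.longLine false

namespace CfsgLib.ONPres
open CfsgLib.CosetEnum

theorem checkOrbA6b0 : allUp (orbTab.ok certA) 11 98304 = true := by decide +kernel

theorem checkOrbA6b1 : allUp (orbTab.ok certA) 11 100352 = true := by decide +kernel

theorem checkOrbA6b2 : allUp (orbTab.ok certA) 11 102400 = true := by decide +kernel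

theorem checkOrbA6b3 : allUp (orbTab.ok certA) 11 104448 = true := by decide +kernel

theorem checkOrbA6b4 : allUp (orbTab.ok certA) 11 106496 = true := by decide +kernel

theorem checkOrbA6b5 : allUp (orbTab.ok certA) 11 108544 = true := by decide +kernel

theorem checkOrbA6b6 : allUp (orbTab.ok certA) 11 110592 = true := by decide +kernel

theorem checkOrbA6b7 : allUp (orbTab.ok certA) 11 112640 = true := by decide +kernel

theorem checkOrbA6j11n0 : allUp (orbTab.ok certA) (11 + 1) 98304 = true :=
  allUp_join (by decide +kernel) checkOrbA6b0 checkOrbA6b1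

theorem checkOrbA6j11n2 : allUp (orbTab.ok certA) (11 + 1) 102400 = true :=
  allUp_join (by decide +kernel) checkOrbA6b2 checkOrbA6b3

theorem checkOrbA6j11n4 : allUp (orbTab.ok certA) (11 + 1) 106496 = true :=
  allUp_join (by decide +kernel) checkOrbA6b4 checkOrbA6b5

theorem checkOrbA6j11n6 : allUp (orbTab.ok certA) (11 + 1) 110592 = true :=
  allUp_join (by decide +kernel) checkOrbA6b6 checkOrbA6b7

theorem checkOrbA6j12n0 : allUp (orbTab.ok certA) (12 + 1) 98304 = true :=
  allUp_join (by decide +kernel) checkOrbA6j11n0 checkOrbA6j11n2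

theorem checkOrbA6j12n2 : allUp (orbTab.ok certA) (12 + 1) 106496 = true :=
  allUp_join (by decide +kernel) checkOrbA6j11n4 checkOrbA6j11n6

theorem checkOrbA6 : allUp (orbTab.ok certA) (13 + 1) 98304 = true :=
  allUp_join (by decide +kernel) checkOrbA6j12n0 checkOrbA6j12n2

end CfsgLib.ONPres
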