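import Cfsg.Agent.Lib.CosetEnum.OrbitTables
import Cfsg.Agent.Lib.ONPres.DataA
import Cfsg.Agent.Lib.ONPres.DataOrb

/-!
Kernel check of consecutive blocks.
-/

set_option autoImplicit false
set_option Elab.async false
set_option linter.style.longLine false

namespace CfsgLib.ONPres
open CfsgLib.CosetEnum

theorem checkOrbA7b0 : allUp (orbTab.ok certA) 11 114688 = true := by decide +kernel

theorem checkOrbA7b1 : allUp (orbTab.ok certA) 11 116736 = true := by decide +kernel

theorem checkOrbA7b2 : allUp (orbTab.ok certA) 11 118784 = true := by decide +kernel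

theorem checkOrbA7b3 : allUp (orbTab.ok certA) 11 120832 = true := by decide +kernel

theorem checkOrbA7b4 : allUp (orbTab.ok certA) 11 122880 = true := by decide +kernel

theorem checkOrbA7b5 : allUp (orbTab.ok certA) 11 124928 = true := by decide +kernel

theorem checkOrbA7b6 : allUp (orbTab.ok certA) 11 126976 = true := by decide +kernel

theorem checkOrbA7b7 : allUp (orbTab.ok certA) 11 129024 = true := by decide +kernel

theorem checkOrbA7j11n0 : allUp (orbTab.ok certA) (11 + 1) 114688 = true :=
  allUp_join (by decide +kernel) checkOrbA7b0 checkOrbA7b1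

theorem checkOrbA7j11n2 : allUp (orbTab.ok certA) (11 + 1) 118784 = true :=
  allUp_join (by decide +kernel) checkOrbA7b2 checkOrbA7b3

theorem checkOrbA7j11n4 : allUp (orbTab.ok certA) (11 + 1) 122880 = true :=
  allUp_join (by decide +kernel) checkOrbA7b4 checkOrbA7b5

theorem checkOrbA7j11n6 : allUp (orbTab.ok certA) (11 + 1) 126976 = true :=
  allUp_join (by decide +kernel) checkOrbA7b6 checkOrbA7b7

theorem checkOrbA7j12n0 : allUp (orbTab.ok certA) (12 + 1) 114688 = true :=
  allUp_join (by decide +kernel) checkOrbA7j11n0 checkOrbA7j11n2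

theorem checkOrbA7j12n2 : allUp (orbTab.ok certA) (12 + 1) 122880 = true :=
  allUp_join (by decide +kernel) checkOrbA7j11n4 checkOrbA7j11n6

theorem checkOrbA7 : allUp (orbTab.ok certA) (13 + 1) 114688 = true :=
  allUp_join (by decide +kernel) checkOrbA7j12n0 checkOrbA7j12n2

end CfsgLib.ONPres
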