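import Cfsg.Agent.Lib.CosetEnum.OrbitTables
import Cfsg.Agent.Lib.ONPres.DataA
import Cfsg.Agent.Lib.ONPres.DataOrb

/-!
The size of suborbit 3.
-/

set_option autoImplicit false
set_option linter.style.longLine false

namespace CfsgLib.ONPres
open CfsgLib.CosetEnum

theorem sizeA3 : countUp (orbTab.inCls certA 3) 17 0 = 52136 := by decide +kernel

end CfsgLib.ONPres
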