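import Cfsg.Agent.Lib.CosetEnum.OrbitTables
import Cfsg.Agent.Lib.ONPres.DataA

/-!
Kernel check of consecutive blocks.
-/

set_option autoImplicit false
set_option Elab.async false
set_option linter.style.longLine false

namespace CfsgLib.ONPres
open CfsgLib.CosetEnum

theorem checkStepA11b0 : allUp certA.stepOK' 12 180224 = true := by decide +kernel

theorem checkStepA11b1 : allUp certA.stepOK' 12 184320 = true := by decide +kernel

theorem checkStepA11b2 : allUp certA.stepOK' 12 188416 = true := by decide +kernel

theorem checkStepA11b3 : allUp certA.stepOK' 12 192512 = true := by decide +kernel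

theorem checkStepA11j12n0 : allUp certA.stepOK' (12 + 1) 180224 = true :=
  allUp_join (by decide +kernel) checkStepA11b0 checkStepA11b1

theorem checkStepA11j12n2 : allUp certA.stepOK' (12 + 1) 188416 = true :=
  allUp_join (by decide +kernel) checkStepA11b2 checkStepA11b3

theorem checkStepA11 : allUp certA.stepOK' (13 + 1) 180224 = true :=
  allUp_join (by decide +kernel) checkStepA11j12n0 checkStepA11j12n2

end CfsgLib.ONPres
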