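import Cfsg.Agent.Lib.CosetEnum.OrbitTables
import Cfsg.Agent.Lib.ONPres.DataA

/-!
Kernel check of consecutive blocks.
-/

set_option autoImplicit false
set_option Elab.async false
set_option linter.style.longLine false

namespace CfsgLib.ONPres
open CfsgLib.CosetEnum

theorem checkStepA17b0 : allUp certA.stepOK' 12 278528 = true := by decide +kernel

theorem checkStepA17b1 : allUp certA.stepOK' 12 282624 = true := by decide +kernel

theorem checkStepA17b2 : allUp certA.stepOK' 12 286720 = true := by decide +kernel

theorem checkStepA17b3 : allUp certA.stepOK' 12 290816 = true := by decide +kernel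

theorem checkStepA17j12n0 : allUp certA.stepOK' (12 + 1) 278528 = true :=
  allUp_join (by decide +kernel) checkStepA17b0 checkStepA17b1

theorem checkStepA17j12n2 : allUp certA.stepOK' (12 + 1) 286720 = true :=
  allUp_join (by decide +kernel) checkStepA17b2 checkStepA17b3

theorem checkStepA17 : allUp certA.stepOK' (13 + 1) 278528 = true :=
  allUp_join (by decide +kernel) checkStepA17j12n0 checkStepA17j12n2

end CfsgLib.ONPres
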