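import Cfsg.Agent.Lib.CosetEnum.OrbitTables
import Cfsg.Agent.Lib.ONPres.DataA

/-!
Kernel check of consecutive blocks.
-/

set_option autoImplicit false
set_option Elab.async false
set_option linter.style.longLine false

namespace CfsgLib.ONPres
open CfsgLib.CosetEnum

theorem checkStepA27b0 : allUp certA.stepOK' 12 442368 = true := by decide +kernel

theorem checkStepA27b1 : allUp certA.stepOK' 12 446464 = true := by decide +kernel

theorem checkStepA27b2 : allUp certA.stepOK' 12 450560 = true := by decide +kernel

theorem checkStepA27b3 : allUp certA.stepOK' 12 454656 = true := by decide +kernel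

theorem checkStepA27j12n0 : allUp certA.stepOK' (12 + 1) 442368 = true :=
  allUp_join (by decide +kernel) checkStepA27b0 checkStepA27b1

theorem checkStepA27j12n2 : allUp certA.stepOK' (12 + 1) 450560 = true :=
  allUp_join (by decide +kernel) checkStepA27b2 checkStepA27b3

theorem checkStepA27 : allUp certA.stepOK' (13 + 1) 442368 = true :=
  allUp_join (by decide +kernel) checkStepA27j12n0 checkStepA27j12n2

end CfsgLib.ONPres
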