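import Cfsg.Agent.Lib.CosetEnum.OrbitTables
import Cfsg.Agent.Lib.ONPres.DataA

/-!
Kernel check of consecutive blocks.
-/

set_option autoImplicit false
set_option Elab.async false
set_option linter.style.longLine false

namespace CfsgLib.ONPres
open CfsgLib.CosetEnum

theorem checkStepA3b0 : allUp certA.stepOK' 12 49152 = true := by decide +kernel

theorem checkStepA3b1 : allUp certA.stepOK' 12 53248 = true := by decide +kernel

theorem checkStepA3b2 : allUp certA.stepOK' 12 57344 = true := by decide +kernel

theorem checkStepA3b3 : allUp certA.stepOK' 12 61440 = true := by decide +kernel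

theorem checkStepA3j12n0 : allUp certA.stepOK' (12 + 1) 49152 = true :=
  allUp_join (by decide +kernel) checkStepA3b0 checkStepA3b1

theorem checkStepA3j12n2 : allUp certA.stepOK' (12 + 1) 57344 = true :=
  allUp_join (by decide +kernel) checkStepA3b2 checkStepA3b3

theorem checkStepA3 : allUp certA.stepOK' (13 + 1) 49152 = true :=
  allUp_join (by decide +kernel) checkStepA3j12n0 checkStepA3j12n2

end CfsgLib.ONPres
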