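import Cfsg.Agent.Lib.CosetEnum.OrbitTables
import Cfsg.Agent.Lib.ONPres.DataA

/-!
Kernel check of consecutive blocks.
-/

set_option autoImplicit false
set_option Elab.async false
set_option linter.style.longLine false

namespace CfsgLib.ONPres
open CfsgLib.CosetEnum

theorem checkStepA30b0 : allUp certA.stepOK' 12 491520 = true := by decide +kernel

theorem checkStepA30b1 : allUp certA.stepOK' 12 495616 = true := by decide +kernel

theorem checkStepA30b2 : allUp certA.stepOK' 12 499712 = true := by decide +kernel

theorem checkStepA30b3 : allUp certA.stepOK' 12 503808 = true := by decide +kernel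

theorem checkStepA30j12n0 : allUp certA.stepOK' (12 + 1) 491520 = true :=
  allUp_join (by decide +kernel) checkStepA30b0 checkStepA30b1

theorem checkStepA30j12n2 : allUp certA.stepOK' (12 + 1) 499712 = true :=
  allUp_join (by decide +kernel) checkStepA30b2 checkStepA30b3

theorem checkStepA30 : allUp certA.stepOK' (13 + 1) 491520 = true :=
  allUp_join (by decide +kernel) checkStepA30j12n0 checkStepA30j12n2

end CfsgLib.ONPres
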