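import Cfsg.Agent.Lib.CosetEnum.OrbitTables
import Cfsg.Agent.Lib.ONPres.DataA

/-!
Kernel check of consecutive blocks.
-/

set_option autoImplicit false
set_option Elab.async false
set_option linter.style.longLine false

namespace CfsgLib.ONPres
open CfsgLib.CosetEnum

theorem checkStepA32b0 : allUp certA.stepOK' 12 524288 = true := by decide +kernel

theorem checkStepA32b1 : allUp certA.stepOK' 12 528384 = true := by decide +kernel

theorem checkStepA32b2 : allUp certA.stepOK' 12 532480 = true := by decide +kernel

theorem checkStepA32b3 : allUp certA.stepOK' 12 536576 = true := by decide +kernel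

theorem checkStepA32j12n0 : allUp certA.stepOK' (12 + 1) 524288 = true :=
  allUp_join (by decide +kernel) checkStepA32b0 checkStepA32b1

theorem checkStepA32j12n2 : allUp certA.stepOK' (12 + 1) 532480 = true :=
  allUp_join (by decide +kernel) checkStepA32b2 checkStepA32b3

theorem checkStepA32 : allUp certA.stepOK' (13 + 1) 524288 = true :=
  allUp_join (by decide +kernel) checkStepA32j12n0 checkStepA32j12n2

end CfsgLib.ONPres
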