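import Cfsg.Agent.Lib.CosetEnum.OrbitTables
import Cfsg.Agent.Lib.ONPres.DataA

/-!
Kernel check of consecutive blocks.
-/

set_option autoImplicit false
set_option Elab.async false
set_option linter.style.longLine false

namespace CfsgLib.ONPres
open CfsgLib.CosetEnum

theorem checkStepA34b0 : allUp certA.stepOK' 12 557056 = true := by decide +kernel

theorem checkStepA34b1 : allUp certA.stepOK' 12 561152 = true := by decide +kernel

theorem checkStepA34b2 : allUp certA.stepOK' 12 565248 = true := by decide +kernel

theorem checkStepA34b3 : allUp certA.stepOK' 12 569344 = true := by decide +kernel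

theorem checkStepA34j12n0 : allUp certA.stepOK' (12 + 1) 557056 = true :=
  allUp_join (by decide +kernel) checkStepA34b0 checkStepA34b1

theorem checkStepA34j12n2 : allUp certA.stepOK' (12 + 1) 565248 = true :=
  allUp_join (by decide +kernel) checkStepA34b2 checkStepA34b3

theorem checkStepA34 : allUp certA.stepOK' (13 + 1) 557056 = true :=
  allUp_join (by decide +kernel) checkStepA34j12n0 checkStepA34j12n2

end CfsgLib.ONPres
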