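import Cfsg.Agent.Lib.CosetEnum.OrbitTables
import Cfsg.Agent.Lib.ONPres.DataA

/-!
Kernel check of consecutive blocks.
-/

set_option autoImplicit false
set_option Elab.async false
set_option linter.style.longLine false

namespace CfsgLib.ONPres
open CfsgLib.CosetEnum

theorem checkStepA35b0 : allUp certA.stepOK' 12 573440 = true := by decide +kernel

theorem checkStepA35b1 : allUp certA.stepOK' 12 577536 = true := by decide +kernel

theorem checkStepA35b2 : allUp certA.stepOK' 12 581632 = true := by decide +kernel

theorem checkStepA35b3 : allUp certA.stepOK' 12 585728 = true := by decide +kernel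

theorem checkStepA35j12n0 : allUp certA.stepOK' (12 + 1) 573440 = true :=
  allUp_join (by decide +kernel) checkStepA35b0 checkStepA35b1

theorem checkStepA35j12n2 : allUp certA.stepOK' (12 + 1) 581632 = true :=
  allUp_join (by decide +kernel) checkStepA35b2 checkStepA35b3

theorem checkStepA35 : allUp certA.stepOK' (13 + 1) 573440 = true :=
  allUp_join (by decide +kernel) checkStepA35j12n0 checkStepA35j12n2

end CfsgLib.ONPres
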