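import Cfsg.Agent.Lib.CosetEnum.OrbitTables
import Cfsg.Agent.Lib.ONPres.DataA

/-!
Kernel check of consecutive blocks.
-/

set_option autoImplicit false
set_option Elab.async false
set_option linter.style.longLine false

namespace CfsgLib.ONPres
open CfsgLib.CosetEnum

theorem checkStepA5b0 : allUp certA.stepOK' 12 81920 = true := by decide +kernel

theorem checkStepA5b1 : allUp certA.stepOK' 12 86016 = true := by decide +kernel

theorem checkStepA5b2 : allUp certA.stepOK' 12 90112 = true := by decide +kernel

theorem checkStepA5b3 : allUp certA.stepOK' 12 94208 = true := by decide +kernel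

theorem checkStepA5j12n0 : allUp certA.stepOK' (12 + 1) 81920 = true :=
  allUp_join (by decide +kernel) checkStepA5b0 checkStepA5b1

theorem checkStepA5j12n2 : allUp certA.stepOK' (12 + 1) 90112 = true :=
  allUp_join (by decide +kernel) checkStepA5b2 checkStepA5b3

theorem checkStepA5 : allUp certA.stepOK' (13 + 1) 81920 = true :=
  allUp_join (by decide +kernel) checkStepA5j12n0 checkStepA5j12n2

end CfsgLib.ONPres
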