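import Cfsg.Agent.Lib.CosetEnum.OrbitTables
import Cfsg.Agent.Lib.ONPres.DataA

/-!
Kernel check of consecutive blocks.
-/

set_option autoImplicit false
set_option Elab.async false
set_option linter.style.longLine false

namespace CfsgLib.ONPres
open CfsgLib.CosetEnum

theorem checkStepA7b0 : allUp certA.stepOK' 12 114688 = true := by decide +kernel

theorem checkStepA7b1 : allUp certA.stepOK' 12 118784 = true := by decide +kernel

theorem checkStepA7b2 : allUp certA.stepOK' 12 122880 = true := by decide +kernel

theorem checkStepA7b3 : allUp certA.stepOK' 12 126976 = true := by decide +kernel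

theorem checkStepA7j12n0 : allUp certA.stepOK' (12 + 1) 114688 = true :=
  allUp_join (by decide +kernel) checkStepA7b0 checkStepA7b1

theorem checkStepA7j12n2 : allUp certA.stepOK' (12 + 1) 122880 = true :=
  allUp_join (by decide +kernel) checkStepA7b2 checkStepA7b3

theorem checkStepA7 : allUp certA.stepOK' (13 + 1) 114688 = true :=
  allUp_join (by decide +kernel) checkStepA7j12n0 checkStepA7j12n2

end CfsgLib.ONPres
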