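import Cfsg.Agent.Lib.CosetEnum.OrbitTables
import Cfsg.Agent.Lib.ONPres.StepA0
import Cfsg.Agent.Lib.ONPres.StepA1
import Cfsg.Agent.Lib.ONPres.StepA2
import Cfsg.Agent.Lib.ONPres.StepA3
import Cfsg.Agent.Lib.ONPres.StepA4
import Cfsg.Agent.Lib.ONPres.StepA5
import Cfsg.Agent.Lib.ONPres.StepA6
import Cfsg.Agent.Lib.ONPres.StepA7
import Cfsg.Agent.Lib.ONPres.StepA8
import Cfsg.Agent.Lib.ONPres.StepA9
import Cfsg.Agent.Lib.ONPres.StepA10
import Cfsg.Agent.Lib.ONPres.StepA11
import Cfsg.Agent.Lib.ONPres.StepA12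
import Cfsg.Agent.Lib.ONPres.StepA13
import Cfsg.Agent.Lib.ONPres.StepA14
import Cfsg.Agent.Lib.ONPres.StepA15
import Cfsg.Agent.Lib.ONPres.StepA16
import Cfsg.Agent.Lib.ONPres.StepA17
import Cfsg.Agent.Lib.ONPres.StepA18
import Cfsg.Agent.Lib.ONPres.StepA19
import Cfsg.Agent.Lib.ONPres.StepA20
import Cfsg.Agent.Lib.ONPres.StepA21
import Cfsg.Agent.Lib.ONPres.StepA22
import Cfsg.Agent.Lib.ONPres.StepA23
import Cfsg.Agent.Lib.ONPres.StepA24
import Cfsg.Agent.Lib.ONPres.StepA25
import Cfsg.Agent.Lib.ONPres.StepA26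
import Cfsg.Agent.Lib.ONPres.StepA27
import Cfsg.Agent.Lib.ONPres.StepA28
import Cfsg.Agent.Lib.ONPres.StepA29
import Cfsg.Agent.Lib.ONPres.StepA30
import Cfsg.Agent.Lib.ONPres.StepA31
import Cfsg.Agent.Lib.ONPres.StepA32
import Cfsg.Agent.Lib.ONPres.StepA33
import Cfsg.Agent.Lib.ONPres.StepA34
import Cfsg.Agent.Lib.ONPres.StepA35
import Cfsg.Agent.Lib.ONPres.StepA36
import Cfsg.Agent.Lib.ONPres.StepA37
import Cfsg.Agent.Lib.ONPres.StepA38
import Cfsg.Agent.Lib.ONPres.StepA39
import Cfsg.Agent.Lib.ONPres.StepA40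

/-!
Blocks of a kernel check, together.
-/

set_option autoImplicit false
set_option linter.style.longLine false

namespace CfsgLib.ONPres
open CfsgLib.CosetEnum

theorem allStepA : ∀ i < 41 * 2 ^ (12 + 2), certA.stepOK' i = true :=
  allUp_blocks fun f hf => by
    match f, hf with
    | 0, _ => exact checkStepA0
    | 1, _ => exact checkStepA1
    | 2, _ => exact checkStepA2
    | 3, _ => exact checkStepA3
    | 4, _ => exact checkStepA4
    | 5, _ => exact checkStepA5
    | 6, _ => exact checkStepA6
    | 7, _ => exact checkStepA7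
    | 8, _ => exact checkStepA8
    | 9, _ => exact checkStepA9
    | 10, _ => exact checkStepA10
    | 11, _ => exact checkStepA11
    | 12, _ => exact checkStepA12
    | 13, _ => exact checkStepA13
    | 14, _ => exact checkStepA14
    | 15, _ => exact checkStepA15
    | 16, _ => exact checkStepA16
    | 17, _ => exact checkStepA17
    | 18, _ => exact checkStepA18
    | 19, _ => exact checkStepA19
    | 20, _ => exact checkStepA20
    | 21, _ => exact checkStepA21
    | 22, _ => exact checkStepA22
    | 23, _ => exact checkStepA23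
    | 24, _ => exact checkStepA24
    | 25, _ => exact checkStepA25
    | 26, _ => exact checkStepA26
    | 27, _ => exact checkStepA27
    | 28, _ => exact checkStepA28
    | 29, _ => exact checkStepA29
    | 30, _ => exact checkStepA30
    | 31, _ => exact checkStepA31
    | 32, _ => exact checkStepA32
    | 33, _ => exact checkStepA33
    | 34, _ => exact checkStepA34
    | 35, _ => exact checkStepA35
    | 36, _ => exact checkStepA36
    | 37, _ => exact checkStepA37
    | 38, _ => exact checkStepA38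
    | 39, _ => exact checkStepA39
    | 40, _ => exact checkStepA40
    | n + 41, h => exact absurd h (by omega)

end CfsgLib.ONPres
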