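import Cfsg.Prelude.Def_Spor_ON
import Cfsg.Prelude.Def_Sporadic
import Cfsg.Agent.Lib.CosetEnum.Presented
import Cfsg.Agent.Lib.CosetEnum.Nested
import Cfsg.Agent.Lib.CosetEnum.OrbitTables
import Cfsg.Agent.Lib.ONPres.StepA
import Cfsg.Agent.Lib.ONPres.EntryA
import Cfsg.Agent.Lib.ONPres.ActA
import Cfsg.Agent.Lib.ONPres.ImgA
import Cfsg.Agent.Lib.ONPres.NdImgA
import Cfsg.Agent.Lib.ONPres.OrbA
import Cfsg.Agent.Lib.ONPres.SizeA1
import Cfsg.Agent.Lib.ONPres.SizeA2
import Cfsg.Agent.Lib.ONPres.SizeA3
import Cfsg.Agent.Lib.ONPres.SizeA4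
import Cfsg.Agent.Lib.ONPres.LevelA
import Cfsg.Agent.Lib.ONPres.CheckB
import Cfsg.Agent.Lib.ONPres.CheckC
import Cfsg.Agent.Lib.ONPres.CheckX

/-!
The presented O'Nan group: index 122760, order 460815505920, simplicity.
-/

set_option autoImplicit false

namespace CfsgLib.ONPres

open CfsgLib.CosetEnum Cfsg.Spor

/-- the generators in order -/
def letters : List ON.Gen := [.c, .a, .b, .d, .e, .f, .g]

/-- the numbered generators, `7` being the inverse of `g` -/
def gen (i : ℕ) : ON :=
  if i = 7 then (PresentedGroup.of ON.Gen.g)⁻¹ else genOf letters (fun x => PresentedGroup.of x) i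

theorem gen_lt {i : ℕ} (h : i < 7) (h' : i < letters.length) :
    gen i = PresentedGroup.of letters[i] := by
  rw [gen, if_neg h.ne, genOf_of_lt h']

theorem nodes {x : ON.Gen} (hx : x ≠ .g) : x ∈ coxNodes ON.edges := by
  cases x <;> first | exact absurd rfl hx | decide

theorem gen_sq {i : ℕ} (h : i < 6) : gen i * gen i = 1 := by
  rw [gen_lt (by omega) (by simp [letters]; omega)]
  refine of_sq (nodes ?_)
  interval_cases i <;> simp [letters]

theorem certA_complete : certA.Complete :=
  Cert.complete_of_forall _ (by decide +kernel)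
    (fun i hi => allStepA i (lt_of_lt_of_le hi (by decide +kernel)))
    (fun i hi => allEntryA i (lt_of_lt_of_le hi (by decide +kernel)))

theorem certA_action : certA.IsAction :=
  Cert.isAction_of_forall _ (by decide +kernel) (by decide +kernel)
    (fun i hi => allActA i (lt_of_lt_of_le hi (by decide +kernel)))
    (fun i hi => allNdImgA i (lt_of_lt_of_le hi (by decide +kernel)))
    (fun i hi => allImgA i (lt_of_lt_of_le hi (by decide +kernel)))

/-- the further relators as words -/
def extraW : List (List ℕ) := [
  [1, 5, 7, 7],
  [1, 5, 3, 0, 3, 0, 3, 0, 3, 0],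
  [0, 7, 3, 7, 3, 0, 3, 6, 3, 6],
  [3, 7, 0, 7, 0, 3, 0, 6, 0, 6],
  [2, 0, 3, 6, 2, 0, 3, 6, 2, 0, 3, 6, 2, 0, 3, 6, 2, 0, 3, 6],
  [6, 2, 0, 6, 0, 2, 6, 2, 0, 6, 0],
  [6, 4, 3, 6, 3, 4, 6, 4, 3, 6, 3]]

theorem extraWords : List.Forall₂ (fun r w => ∀ (P : Type) [Group P] (f : ON.Gen → P),
    (∀ x, x ≠ .g → f x * f x = 1) →
    FreeGroup.lift f r = prodW (fun i => if i = 7 then (f .g)⁻¹ else genOf letters f i) w)
    ON.extra extraW := by
  unfold ON.extra extraW
  refine .cons ?_ (.cons ?_ (.cons ?_ (.cons ?_ (.cons ?_ (.cons ?_ (.cons ?_ .nil))))))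
  all_goals
    intro P _ f hf
    have hi : ∀ x, x ≠ .g → (f x)⁻¹ = f x := fun x hx => inv_eq_of_mul_eq_one_right (hf x hx)
    simp [prodW, genOf, letters, ON.a, ON.b, ON.c, ON.d, ON.e, ON.f, ON.g, pow_succ, mul_assoc, hi]

/-- a pair word with its label -/
def isPairWord (r : List ℕ) : Bool :=
  (List.range 6).any fun i => (List.range 6).any fun j =>
    r == pairWord i j (coxLabel ON.edges (letters.getD i .g) (letters.getD j .g))

theorem rels_shape : (certA.rels.all fun r => extraW.contains r || isPairWord r) = true := by
  decide +kernel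

theorem pairs_mem : ((List.range 6).all fun i => (List.range 6).all fun j =>
    certA.rels.contains (pairWord i j (coxLabel ON.edges (letters.getD i .g) (letters.getD j .g))) ||
    certA.rels.contains (pairWord j i (coxLabel ON.edges (letters.getD j .g) (letters.getD i .g)))) =
    true := by decide +kernel

theorem extra_mem : ∀ w ∈ extraW, w ∈ certA.rels := by decide +kernel

theorem gen_rel : ∀ r ∈ certA.rels, prodW gen r = 1 := by
  intro r hr
  have h := rels_shape
  simp only [List.all_eq_true, Bool.or_eq_true, List.contains_iff_mem, isPairWord, List.any_eq_true,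
    List.mem_range, beq_iff_eq] at h
  rcases h r hr with hw | ⟨i, hi, j, hj, e⟩
  · obtain ⟨k, hk, rfl⟩ := List.getElem_of_mem hw
    have hlen := extraWords.length_eq
    have h2 := List.forall₂_iff_get.mp extraWords |>.2 k (by omega) hk
    simp only [List.get_eq_getElem] at h2
    have h3 := h2 ON (fun x => PresentedGroup.of x) (fun x hx => of_sq (nodes hx))
    change prodW gen _ = 1
    unfold gen
    rw [← h3]
    have h4 : PresentedGroup.mk (coxRelators ON.edges ∪ {r | r ∈ ON.extra})
        (ON.extra[k]'(by omega)) = 1 :=
      PresentedGroup.one_of_mem (Or.inr (List.getElem_mem _))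
    rw [← h4]
    refine DFunLike.congr_fun (FreeGroup.ext_hom _ _ fun x => ?_) _
    simp
    rfl
  · have hi' : i < letters.length := by simp [letters]; omega
    have hj' : j < letters.length := by simp [letters]; omega
    rw [e, prodW_pairWord, gen_lt (by omega) hi', gen_lt (by omega) hj',
      List.getD_eq_getElem _ _ hi', List.getD_eq_getElem _ _ hj']
    refine of_pair (nodes ?_) (nodes ?_)
    · interval_cases i <;> simp [letters]
    · interval_cases j <;> simp [letters]

theorem gen_inv (g : ℕ) : gen g * gen (certA.inv g) = 1 := by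
  by_cases h6 : g < 6
  · have e : certA.inv g = g := by interval_cases g <;> rfl
    rw [e, gen_sq h6]
  · by_cases h8 : 8 ≤ g
    · have hl : letters.length ≤ g := le_trans (by simp [letters]) h8
      have e : certA.inv g = g := by
        rw [Cert.inv, List.getD_eq_getElem?_getD, List.getElem?_eq_none
          (le_trans (le_of_eq (rfl : certA.invs.length = 8)) h8)]
        rfl
      rw [e, gen, if_neg (by omega), genOf_of_ge hl, one_mul]
    · obtain rfl | rfl : g = 6 ∨ g = 7 := by omega
      · rw [show certA.inv 6 = 7 from rfl, gen_lt (by norm_num) (by simp [letters]), gen, if_pos rfl]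
        exact mul_inv_cancel _
      · rw [show certA.inv 7 = 6 from rfl, gen_lt (i := 6) (by norm_num) (by simp [letters]), gen,
          if_pos rfl]
        exact inv_mul_cancel _

/-- the subgroup generated by `a, …, f` -/
def subA : Subgroup ON := Subgroup.closure {y | ∃ w ∈ certA.subs, prodW gen w = y}

theorem modelA : Model certA subA gen where
  gen_K := by
    rw [show certA.K = 8 from rfl, gen, if_neg (by norm_num), genOf_of_ge (by simp [letters])]
  inv_mul := gen_inv
  rel := gen_rel
  sub w hw := Subgroup.subset_closure ⟨w, hw, rfl⟩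

theorem gen_top : Subgroup.closure {y | ∃ g < certA.K, gen g = y} = ⊤ := by
  rw [eq_top_iff, ← PresentedGroup.closure_range_of (coxRelators ON.edges ∪ {r | r ∈ ON.extra}),
    Subgroup.closure_le]
  rintro y ⟨x, rfl⟩
  have hx : x ∈ letters := by cases x <;> decide
  obtain ⟨i, hi, rfl⟩ := List.getElem_of_mem hx
  have hi' : i < 7 := by simpa [letters] using hi
  exact Subgroup.subset_closure ⟨i, by change i < 8; omega, gen_lt hi' hi⟩

theorem exists_action : ∃ ρ : ON →* Equiv.Perm (Fin certA.N),
    ∀ g < certA.K, ρ (gen g) = letterPerm certA_complete certA_action g := by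
  let L := letterPerm certA_complete certA_action
  let f : ON.Gen → Equiv.Perm (Fin certA.N) := fun x => L (letters.idxOf x)
  have hnd : letters.Nodup := by decide
  have hf : ∀ i (hi : i < letters.length), f letters[i] = L i := fun i hi => by
    simp only [f, List.Nodup.idxOf_getElem hnd i hi]
  have hinv7 : L 7 = (L 6)⁻¹ := by
    refine eq_inv_of_mul_eq_one_left (Equiv.ext fun x => Fin.ext ?_)
    rw [Equiv.Perm.mul_apply, letterPerm_apply _ _ (by decide +kernel),
      letterPerm_apply _ _ (by decide +kernel)]
    exact ((certA_action.T_lt x.2 (show certA.inv 6 < certA.K by decide +kernel)).2)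
  have hrel := prodW_letterPerm_rel certA_complete certA_action
  have hp := pairs_mem
  simp only [List.all_eq_true, List.mem_range, Bool.or_eq_true, List.contains_iff_mem] at hp
  have hpair : ∀ i j, ∀ (hi : i < 6) (hj : j < 6),
      (f (letters[i]'(by simp [letters]; omega)) * f (letters[j]'(by simp [letters]; omega))) ^
        coxLabel ON.edges (letters[i]'(by simp [letters]; omega))
          (letters[j]'(by simp [letters]; omega)) = 1 := by
    intro i j hi hj
    have hi' : i < letters.length := by simp [letters]; omega
    have hj' : j < letters.length := by simp [letters]; omega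
    have key : ∀ a b, (ha : a < letters.length) → (hb : b < letters.length) →
        pairWord a b (coxLabel ON.edges (letters.getD a .g) (letters.getD b .g)) ∈ certA.rels →
        (f letters[a] * f letters[b]) ^ coxLabel ON.edges letters[a] letters[b] = 1 := by
      intro a b ha hb h
      rw [List.getD_eq_getElem _ _ ha, List.getD_eq_getElem _ _ hb] at h
      rw [hf a ha, hf b hb, ← prodW_pairWord]
      exact hrel _ h
    rcases hp i hi j hj with h | h
    · exact key i j hi' hj' h
    · have h' := key j i hj' hi' h
      rw [coxLabel_comm] at h'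
      generalize f letters[i] = p at h' ⊢
      generalize f letters[j] = q at h' ⊢
      have e : p * q = p * (q * p) * p⁻¹ := by group
      rw [e, conj_pow, h', mul_one, mul_inv_cancel]
  have hnode : ∀ x, x ≠ ON.Gen.g → ∃ i, ∃ h : i < 6, letters[i]'(by simp [letters]; omega) = x := by
    intro x hx
    have hmem : x ∈ letters := by cases x <;> decide
    obtain ⟨i, hi, rfl⟩ := List.getElem_of_mem hmem
    refine ⟨i, ?_, rfl⟩
    have hi' : i < 7 := by simpa [letters] using hi
    by_contra hc
    obtain rfl : i = 6 := by omega
    exact hx rfl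
  have hne : ∀ x ∈ coxNodes ON.edges, x ≠ ON.Gen.g := by decide
  have hsq : ∀ x, x ≠ ON.Gen.g → f x * f x = 1 := fun x hx => by
    obtain ⟨i, hi, rfl⟩ := hnode x hx
    have := hpair i i hi hi
    rwa [coxLabel_self, pow_one] at this
  have hall : ∀ r ∈ coxRelators ON.edges ∪ {r | r ∈ ON.extra}, FreeGroup.lift f r = 1 := by
    rintro r (⟨x, hx, y, hy, rfl⟩ | hr)
    · simp only [map_pow, map_mul, FreeGroup.lift_apply_of]
      obtain ⟨i, hi, rfl⟩ := hnode x (hne x hx)
      obtain ⟨j, hj, rfl⟩ := hnode y (hne y hy)
      exact hpair i j hi hj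
    · obtain ⟨k, hk, rfl⟩ := List.getElem_of_mem (Set.mem_ofPred_eq ▸ hr : r ∈ ON.extra)
      have hlen := extraWords.length_eq
      have h2 := List.forall₂_iff_get.mp extraWords |>.2 k hk (by omega)
      simp only [List.get_eq_getElem] at h2
      rw [h2 _ f hsq]
      refine (prodW_congr fun g hg => ?_).trans
        (hrel _ (extra_mem _ (List.getElem_mem (by omega))))
      have hl := certA_action.sub
      simp only [Cert.ndOK, Bool.and_eq_true, List.all_eq_true, Nat.blt_eq] at hl
      have hg8 : g < 8 := hl.2 _ (extra_mem _ (List.getElem_mem (by omega))) g hg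
      split
      · rename_i h7
        subst h7
        refine Eq.trans ?_ hinv7.symm
        exact congrArg _ (hf 6 (by simp [letters]))
      · have hgl : g < letters.length := by simp [letters]; omega
        rw [genOf_of_lt hgl, hf g hgl]
  refine ⟨PresentedGroup.toGroup hall, fun g hg => ?_⟩
  have hg8 : g < 8 := hg
  by_cases h7 : g = 7
  · subst h7
    rw [gen, if_pos rfl, map_inv, PresentedGroup.toGroup.of]
    exact (congrArg _ (hf 6 (by simp [letters]))).trans hinv7.symm
  · have hgl : g < letters.length := by simp [letters]; omega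
    rw [gen_lt (by omega) hgl, PresentedGroup.toGroup.of, hf g hgl]

/-- the action on the 122760 cosets -/
noncomputable def rho : ON →* Equiv.Perm (Fin certA.N) := exists_action.choose

theorem setupA : Setup certA subA gen rho where
  complete := certA_complete
  action := certA_action
  model := modelA
  gen_top := gen_top
  rho_gen := exists_action.choose_spec
  H_eq := rfl

theorem index_subA : subA.index = 122760 := setupA.index_eq.trans rfl

theorem printed_subA :
    ((Subgroup.closure ({ON.a, ON.b, ON.c, ON.d, ON.e, ON.f} : Set (FreeGroup ON.Gen))).map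
      (PresentedGroup.mk (coxRelators ON.edges ∪ {r | r ∈ ON.extra}))) = subA := by
  rw [MonoidHom.map_closure, subA]
  congr 1
  ext y
  have hs : certA.subs = [[0], [1], [2], [3], [4], [5]] := rfl
  simp only [Set.mem_ofPred_eq, hs, List.mem_cons, List.not_mem_nil, or_false, exists_eq_or_imp,
    exists_eq_left, Set.image_insert_eq, Set.image_singleton, Set.mem_insert_iff,
    Set.mem_singleton_iff, prodW_cons, prodW_nil, mul_one]
  simp [gen, genOf, letters, PresentedGroup.of, ON.a, ON.b, ON.c, ON.d, ON.e, ON.f, eq_comm]
  tauto

/-- the six involutory generators -/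
def gen6 (i : ℕ) : ON := if i < 6 then gen i else 1

theorem gen6_sq (i : ℕ) : gen6 i * gen6 i = 1 := by
  unfold gen6
  split
  · exact gen_sq ‹_›
  · simp

/-- the relators in the six involutory generators -/
def rels6 : List (List ℕ) := certA.rels.filter fun r => r.all fun g => Nat.blt g 6

theorem rels6_one : ∀ r ∈ rels6, prodW gen6 r = 1 := by
  intro r hr
  simp only [rels6, List.mem_filter, List.all_eq_true, Nat.blt_eq] at hr
  rw [← gen_rel r hr.1]
  exact prodW_congr fun g hg => by rw [gen6, if_pos (hr.2 g hg)]

theorem genSub6 : genSub gen6 6 = subA := by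
  rw [genSub, subA]
  congr 1
  ext y
  have hs : certA.subs = (List.range 6).map fun g => [g] := rfl
  simp only [Set.mem_ofPred_eq, hs, List.mem_map, List.mem_range]
  constructor
  · rintro ⟨g, hg, rfl⟩
    exact ⟨_, ⟨g, hg, rfl⟩, by rw [gen6, if_pos hg, prodW_cons, prodW_nil, mul_one]⟩
  · rintro ⟨w, ⟨g, hg, rfl⟩, rfl⟩
    exact ⟨g, hg, by rw [gen6, if_pos hg, prodW_cons, prodW_nil, mul_one]⟩

theorem blockC : blockOK certC rels6 1 5 = true := by decide +kernel
theorem blockB : blockOK certB rels6 0 6 = true := by decide +kernel

theorem subA_card : Finite subA ∧ Nat.card subA ≤ 3753792 := by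
  have hC := block_card_le gen6_sq rels6_one certC_complete blockC (subs_closure_bot rfl)
  have hB := block_step gen6_sq rels6_one certB_complete blockB (d := 1) (k := 5)
    (by decide +kernel) (by norm_num) hC
  rw [genSub_blockGen_zero, genSub6] at hB
  exact hB

theorem finite_and_card : Finite ON ∧ Nat.card ON ≤ 460815505920 := by
  haveI := subA_card.1
  have h := finite_card_le certA_complete modelA _ subA_card.2
  rw [gen_top] at h
  exact ⟨haveI := h.1; Finite.of_equiv _ Subgroup.topEquiv.toEquiv,
    by rw [← Nat.card_congr Subgroup.topEquiv.toEquiv]; exact h.2⟩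

instance : Finite ON := finite_and_card.1

theorem levels_chain : TChain certA levels := by
  refine ⟨⟨(by decide +kernel : Nat.blt level0.base certA.N = true) |> Nat.blt_eq.mp, ?_, ?_,
    fun j hj => allLevelA j (lt_of_lt_of_le hj (by decide +kernel))⟩,
    tChain_cons (by decide +kernel) (by decide +kernel) (by decide +kernel) 13 (by decide +kernel)
      (by decide +kernel) <|
    tChain_cons (by decide +kernel) (by decide +kernel) (by decide +kernel) 8 (by decide +kernel)
      (by decide +kernel) <|
    tChain_cons (by decide +kernel) (by decide +kernel) (by decide +kernel) 2 (by decide +kernel)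
      (by decide +kernel) trivial⟩
  · have h : ((tWords levels).all fun w => w.all fun g => Nat.blt g certA.K) = true := by
      decide +kernel
    simp only [List.all_eq_true, Nat.blt_eq] at h
    exact h
  · have h : ((tWords [level1, level2, level3]).all fun w =>
        Nat.beq (certA.run level0.base (certA.revInv w)) level0.base) = true := by decide +kernel
    simp only [List.all_eq_true] at h
    exact fun w hw => Nat.eq_of_beq_eq_true (h w hw)

theorem levels_size : tSize levels = 460815505920 := by decide +kernel

theorem card_faithful : Nat.card ON = 460815505920 ∧ Function.Injective rho :=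
  setupA.card_eq_of_tChain finite_and_card.2 levels_chain levels_size

theorem orbValid : orbTab.Valid certA [5586, 6384, 52136, 58653] 17 where
  check x hx := allOrbA x (lt_of_lt_of_le hx (by decide +kernel))
  le := by decide +kernel
  root := by
    intro k hk
    have h : ((List.range orbTab.roots.length).all fun k => Nat.blt (nth orbTab.roots k 0) certA.N
        && Nat.beq (orbTab.cls (nth orbTab.roots k 0)) k) = true := by decide +kernel
    simp only [List.all_eq_true, List.mem_range, Bool.and_eq_true, Nat.blt_eq] at h
    exact ⟨(h k hk).1, Nat.eq_of_beq_eq_true (h k hk).2⟩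
  zero := by decide +kernel
  len := rfl
  size i hi := by
    have hi' : i < 4 := hi
    interval_cases i
    · exact sizeA1
    · exact sizeA2
    · exact sizeA3
    · exact sizeA4
  unions := by decide +kernel

theorem isON : Cfsg.IsON ON := by
  refine ⟨setupA.isSimpleGroup_of_dvd (by rw [card_faithful.1]; norm_num)
    (orbValid.dvd_card_normal setupA card_faithful.2)
    (p := 5) (a := 1) (k := 1) (w := [2, 0, 3, 6]) (by norm_num) (by decide +kernel)
    (by rw [card_faithful.1]; norm_num) ?_ certX_complete rfl rfl rfl rfl (by decide +kernel),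
    card_faithful.1⟩
  have h := gen_rel [2, 0, 3, 6, 2, 0, 3, 6, 2, 0, 3, 6, 2, 0, 3, 6, 2, 0, 3, 6] (by decide +kernel)
  rw [← h]
  simp [prodW, pow_succ, mul_assoc]

end CfsgLib.ONPres
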