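import Mathlib
import Cfsg.Agent.Lib.CosetEnum.Basic

/-!
Rows of matrices of degree 45 over seven elements, packed with eleven bits for each entry.
-/

set_option autoImplicit false

namespace CfsgLib.ONPres

open CfsgLib.CosetEnum

/-- a packed row -/
def packRow : ℕ → (ℕ → ℕ) → ℕ
  | 0, _ => 0
  | n + 1, f => f 0 + 2048 * packRow n fun k => f (k + 1)

theorem packRow_congr : ∀ {n : ℕ} {f g : ℕ → ℕ}, (∀ k < n, f k = g k) → packRow n f = packRow n g
  | 0, _, _, _ => rfl
  | n + 1, f, g, h => by
    rw [packRow, packRow, h 0 (Nat.succ_pos n), packRow_congr fun k hk => h (k + 1) (Nat.succ_lt_succ hk)]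

theorem packRow_linear : ∀ (n c : ℕ) (f g : ℕ → ℕ),
    c * packRow n f + packRow n g = packRow n fun k => c * f k + g k
  | 0, _, _, _ => by simp [packRow]
  | n + 1, c, f, g => by
    rw [packRow, packRow, packRow, ← packRow_linear n c (fun k => f (k + 1)) fun k => g (k + 1)]
    ring

/-- the entries of a row reduced modulo seven -/
noncomputable def redRow (n : ℕ) : ℕ → ℕ :=
  Nat.rec (fun _ => 0) (fun _ ih x => strict x fun x =>
    Nat.add (Nat.mod (Nat.mod x (nat_lit 2048)) (nat_lit 7))
      (Nat.mul (nat_lit 2048) (ih (Nat.div x (nat_lit 2048))))) n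

theorem redRow_pack : ∀ (n : ℕ) (f : ℕ → ℕ), (∀ k < n, f k < 2048) →
    redRow n (packRow n f) = packRow n fun k => f k % 7
  | 0, _, _ => rfl
  | n + 1, f, h => by
    have ih := redRow_pack n (fun k => f (k + 1)) fun k hk => h (k + 1) (Nat.succ_lt_succ hk)
    have h0 := h 0 (Nat.succ_pos n)
    unfold redRow at ih ⊢
    simp only [strict_eq] at ih ⊢
    show (packRow (n + 1) f % 2048 % 7) + 2048 * _ = _
    rw [packRow, packRow, Nat.add_mul_mod_self_left, Nat.mod_eq_of_lt h0]
    rw [show Nat.div (f 0 + 2048 * packRow n fun k => f (k + 1)) 2048 =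
      packRow n fun k => f (k + 1) by
        show (f 0 + 2048 * packRow n fun k => f (k + 1)) / 2048 = _
        rw [Nat.add_mul_div_left _ _ (by norm_num : 0 < 2048), Nat.div_eq_of_lt h0, zero_add], ih]

/-- a combination of rows -/
noncomputable def rowAcc (N : List ℕ) : ℕ → ℕ :=
  List.rec (fun _ => 0) (fun r _ ih x => strict x fun x =>
    Nat.add (Nat.mul (Nat.mod x (nat_lit 2048)) r) (ih (Nat.div x (nat_lit 2048)))) N

/-- the coefficient sums of a combination -/
def combSum : ℕ → (ℕ → ℕ) → (ℕ → ℕ → ℕ) → ℕ → ℕ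
  | 0, _, _, _ => 0
  | m + 1, c, e, k => c 0 * e 0 k + combSum m (fun j => c (j + 1)) (fun j => e (j + 1)) k

theorem combSum_eq : ∀ (m : ℕ) (c : ℕ → ℕ) (e : ℕ → ℕ → ℕ) (k : ℕ),
    combSum m c e k = ∑ j ∈ Finset.range m, c j * e j k
  | 0, _, _, _ => by simp [combSum]
  | m + 1, c, e, k => by rw [combSum, combSum_eq m, Finset.sum_range_succ', Nat.add_comm]

theorem packRow_zero : ∀ n : ℕ, packRow n (fun _ => 0) = 0
  | 0 => rfl
  | n + 1 => by rw [packRow, packRow_zero n]

theorem rowAcc_pack : ∀ (m n : ℕ) (c : ℕ → ℕ) (e : ℕ → ℕ → ℕ), (∀ j < m, c j < 2048) →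
    rowAcc ((List.range m).map fun j => packRow n (e j)) (packRow m c) =
      packRow n (combSum m c e)
  | 0, n, c, e, _ => by
    show 0 = _
    rw [show combSum 0 c e = fun _ => 0 from rfl, packRow_zero]
  | m + 1, n, c, e, h => by
    have h0 := h 0 (Nat.succ_pos m)
    have ih := rowAcc_pack m n (fun j => c (j + 1)) (fun j => e (j + 1))
      fun j hj => h (j + 1) (Nat.succ_lt_succ hj)
    rw [List.range_succ_eq_map, List.map_cons, List.map_map]
    unfold rowAcc at ih ⊢
    simp only [strict_eq] at ih ⊢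
    show (packRow (m + 1) c % 2048) * packRow n (e 0) + _ = _
    rw [packRow, Nat.add_mul_mod_self_left, Nat.mod_eq_of_lt h0]
    rw [show Nat.div (c 0 + 2048 * packRow m fun k => c (k + 1)) 2048 =
      packRow m fun k => c (k + 1) by
        show (c 0 + 2048 * packRow m fun k => c (k + 1)) / 2048 = _
        rw [Nat.add_mul_div_left _ _ (by norm_num : 0 < 2048), Nat.div_eq_of_lt h0, zero_add]]
    rw [show ((fun j => packRow n (e j)) ∘ Nat.succ) = fun j => packRow n (e (j + 1)) from rfl, ih,
      packRow_linear]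
    rfl

theorem packRow_inj : ∀ {n : ℕ} {f g : ℕ → ℕ}, (∀ k < n, f k < 2048) → (∀ k < n, g k < 2048) →
    packRow n f = packRow n g → ∀ k < n, f k = g k
  | 0, _, _, _, _, _, k, hk => absurd hk (Nat.not_lt_zero k)
  | n + 1, f, g, hf, hg, e, k, hk => by
    rw [packRow, packRow] at e
    have hf0 := hf 0 (Nat.succ_pos n)
    have hg0 := hg 0 (Nat.succ_pos n)
    cases k with
    | zero => omega
    | succ k =>
      exact packRow_inj (fun j hj => hf (j + 1) (Nat.succ_lt_succ hj))
        (fun j hj => hg (j + 1) (Nat.succ_lt_succ hj)) (by omega) k (Nat.lt_of_succ_lt_succ hk)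

/-- entries of a packed row -/
def rowEnt (x k : ℕ) : ℕ := x / 2048 ^ k % 2048 % 7

/-- the matrix of a list of packed rows -/
def toMat (n : ℕ) (L : List ℕ) : Matrix (Fin n) (Fin n) (ZMod 7) :=
  fun i j => (rowEnt (L.getD i 0) j : ZMod 7)

/-- a row in normal form -/
noncomputable def canonRow (n x : ℕ) : Bool := Nat.beq (redRow n x) x

theorem redRow_eq : ∀ (n x : ℕ), redRow n x = packRow n (rowEnt x)
  | 0, _ => rfl
  | n + 1, x => by
    have ih := redRow_eq n (x / 2048)
    unfold redRow at ih ⊢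
    simp only [strict_eq] at ih ⊢
    show x % 2048 % 7 + 2048 * _ = _
    rw [show Nat.div x 2048 = x / 2048 from rfl, ih, packRow,
      show rowEnt x 0 = x % 2048 % 7 by simp [rowEnt]]
    congr 2
    refine packRow_congr fun k _ => ?_
    simp only [rowEnt]
    rw [Nat.div_div_eq_div_mul, pow_succ']

theorem rowEnt_lt (x k : ℕ) : rowEnt x k < 7 := Nat.mod_lt _ (by norm_num)

/-- a row times a matrix -/
noncomputable def stepRow (n : ℕ) (N : List ℕ) (x : ℕ) : ℕ := redRow n (rowAcc N x)

/-- the coordinates of a vector, padded -/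
def vecVal {n : ℕ} (v : Fin n → ZMod 7) (k : ℕ) : ℕ := if h : k < n then (v ⟨k, h⟩).val else 0

theorem vecVal_lt {n : ℕ} (v : Fin n → ZMod 7) (k : ℕ) : vecVal v k < 7 := by
  unfold vecVal
  split
  · exact ZMod.val_lt _
  · norm_num

/-- a row of coordinates as a packed row -/
def ofVec {n : ℕ} (v : Fin n → ZMod 7) : ℕ := packRow n (vecVal v)

theorem stepRow_ofVec {n : ℕ} (hn : 36 * n < 2048) {L : List ℕ} (hL : L.length = n)
    (hc : L.all (canonRow n) = true) (v : Fin n → ZMod 7) :
    stepRow n L (ofVec v) = ofVec (Matrix.vecMul v (toMat n L)) := by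
  have hlist : L = (List.range n).map fun j => packRow n (rowEnt (L.getD j 0)) := by
    refine List.ext_getElem (by simp [hL]) fun j h1 h2 => ?_
    have h := List.all_eq_true.mp hc L[j] (List.getElem_mem _)
    rw [canonRow, Nat.beq_eq, redRow_eq] at h
    rw [List.getElem_map, List.getElem_range, List.getD_eq_getElem _ _ h1]
    exact h.symm
  have hacc := rowAcc_pack n n (vecVal v) (fun j => rowEnt (L.getD j 0))
    fun j _ => lt_trans (vecVal_lt v j) (by norm_num)
  rw [← hlist] at hacc
  have hb : ∀ k, combSum n (vecVal v) (fun j => rowEnt (L.getD j 0)) k < 2048 := fun k => by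
    rw [combSum_eq]
    refine lt_of_le_of_lt (Finset.sum_le_card_nsmul _ _ 36 fun j _ => ?_)
      (by rw [Finset.card_range, smul_eq_mul, mul_comm]; exact hn)
    exact Nat.mul_le_mul (Nat.le_of_lt_succ (vecVal_lt v j)) (Nat.le_of_lt_succ (rowEnt_lt _ k))
  unfold stepRow ofVec
  rw [hacc, redRow_pack n _ fun k _ => hb k]
  refine packRow_congr fun k hk => ?_
  rw [show vecVal (Matrix.vecMul v (toMat n L)) k = (Matrix.vecMul v (toMat n L) ⟨k, hk⟩).val from
    dif_pos hk, combSum_eq, ← ZMod.val_natCast]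
  congr 1
  rw [Nat.cast_sum, Matrix.vecMul, dotProduct,
    ← Fin.sum_univ_eq_sum_range
      (fun j => ((vecVal v j * rowEnt (L.getD j 0) k : ℕ) : ZMod 7)) n]
  refine Finset.sum_congr rfl fun j _ => ?_
  rw [Nat.cast_mul, show vecVal v j = (v j).val from dif_pos j.2, ZMod.natCast_zmod_val]
  rfl

theorem ofVec_injective {n : ℕ} : Function.Injective (ofVec (n := n)) := by
  intro v w e
  funext k
  have h := packRow_inj (fun j _ => lt_trans (vecVal_lt v j) (by norm_num))
    (fun j _ => lt_trans (vecVal_lt w j) (by norm_num)) e k.1 k.2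
  rw [show vecVal v k = (v k).val from dif_pos k.2, show vecVal w k = (w k).val from dif_pos k.2] at h
  exact ZMod.val_injective 7 h

end CfsgLib.ONPres
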