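import Cfsg.Agent.Lib.ONPres.Subgroups

/-!
The group as a permutation group on 122760 points.
-/

set_option autoImplicit false

namespace CfsgLib.ONPres

open CfsgLib.CosetEnum Cfsg.Spor

theorem exists_perm_group : ∃ H : Subgroup (Equiv.Perm (Fin certA.N)), Cfsg.IsON H ∧
    MulAction.IsPretransitive H (Fin certA.N) ∧
    (∀ x : Fin certA.N, Nat.card (MulAction.stabilizer H x) = 3753792) ∧
    (∃ K : Subgroup H, Cfsg.IsJ1 K) ∧ (∃ K : Subgroup H, Cfsg.IsM11 K) := by
  let e : ON ≃* rho.range := MonoidHom.ofInjective card_faithful.2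
  obtain ⟨hs, hc⟩ := isON
  have hcard : Nat.card rho.range = 460815505920 := (Nat.card_congr e.toEquiv).symm.trans hc
  haveI htr : MulAction.IsPretransitive rho.range (Fin certA.N) := by
    refine ⟨fun x y => ?_⟩
    obtain ⟨g, hg⟩ := setupA.pretransitive x
    obtain ⟨h, hh⟩ := setupA.pretransitive y
    refine ⟨⟨rho (h * g⁻¹), _, rfl⟩, ?_⟩
    change rho (h * g⁻¹) x = y
    rw [map_mul, Equiv.Perm.mul_apply, ← hg, map_inv, Equiv.Perm.inv_def, Equiv.symm_apply_apply, hh]
  refine ⟨rho.range, ⟨e.isSimpleGroup_congr.mp hs, hcard⟩, htr, fun x => ?_, ?_, ?_⟩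
  · haveI : Finite rho.range := Finite.of_equiv _ e.toEquiv
    have h := (MulAction.stabilizer rho.range x).card_mul_index
    rw [MulAction.index_stabilizer_of_transitive, Nat.card_fin, hcard] at h
    replace h : Nat.card (MulAction.stabilizer rho.range x) * 122760 = 460815505920 := h
    exact Nat.eq_of_mul_eq_mul_right (by norm_num : 0 < 122760) (h.trans (by norm_num))
  · obtain ⟨K, hK, hKc⟩ := exists_isJ1
    let f := e.subgroupMap K
    exact ⟨K.map (e : ON →* rho.range), f.isSimpleGroup_congr.mp hK,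
      (Nat.card_congr f.toEquiv).symm.trans hKc⟩
  · obtain ⟨K, hK, hKc⟩ := exists_isM11
    let f := e.subgroupMap K
    exact ⟨K.map (e : ON →* rho.range), f.isSimpleGroup_congr.mp hK,
      (Nat.card_congr f.toEquiv).symm.trans hKc⟩

end CfsgLib.ONPres
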