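import Cfsg.Agent.Lib.ONPres.Packed45
import Cfsg.Agent.Lib.ONPres.DataRep45

/-!
Checks of the relations of the matrices of degree 45.
-/

set_option autoImplicit false
set_option Elab.async false
set_option maxRecDepth 100000

namespace CfsgLib.ONPres

open CfsgLib.CosetEnum

/-- a row times the matrices of a word -/
noncomputable def walk45 (w : List ℕ) : ℕ → ℕ :=
  List.rec (fun x => x) (fun g _ ih x => strict (stepRow (nat_lit 45) (mat45 g) x) fun y => ih y) w

/-- a word acts as a scalar -/
noncomputable def scalW (w : List ℕ) (s : ℕ) : Bool :=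
  Cert.allBelow (nat_lit 45) fun i => strict (Nat.pow (nat_lit 2048) i) fun b =>
    Nat.beq (walk45 w b) (Nat.mul s b)

theorem mat45_ok : ((List.range 8).all fun g =>
    (mat45 g).length == 45 && (mat45 g).all (canonRow 45)) = true := by decide +kernel

theorem rel45_0 : scalW [1, 1] 1 = true := by decide +kernel

theorem rel45_1 : scalW [1, 2, 1, 2, 1, 2] 1 = true := by decide +kernel

theorem rel45_2 : scalW [1, 0, 1, 0] 1 = true := by decide +kernel

theorem rel45_3 : scalW [1, 3, 1, 3] 1 = true := by decide +kernel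

theorem rel45_4 : scalW [1, 4, 1, 4] 1 = true := by decide +kernel

theorem rel45_5 : scalW [1, 5, 1, 5] 1 = true := by decide +kernel

theorem rel45_6 : scalW [2, 2] 1 = true := by decide +kernel

theorem rel45_7 : scalW [2, 0, 2, 0, 2, 0] 1 = true := by decide +kernel

theorem rel45_8 : scalW [2, 3, 2, 3] 1 = true := by decide +kernel

theorem rel45_9 : scalW [2, 4, 2, 4] 1 = true := by decide +kernel

theorem rel45_10 : scalW [2, 5, 2, 5] 1 = true := by decide +kernel

theorem rel45_11 : scalW [0, 0] 1 = true := by decide +kernel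

theorem rel45_12 : scalW [0, 3, 0, 3, 0, 3, 0, 3, 0, 3, 0, 3, 0, 3, 0, 3] 1 = true := by decide +kernel

theorem rel45_13 : scalW [0, 4, 0, 4] 1 = true := by decide +kernel

theorem rel45_14 : scalW [0, 5, 0, 5] 1 = true := by decide +kernel

theorem rel45_15 : scalW [3, 3] 1 = true := by decide +kernel

theorem rel45_16 : scalW [3, 4, 3, 4, 3, 4] 1 = true := by decide +kernel

theorem rel45_17 : scalW [3, 5, 3, 5] 1 = true := by decide +kernel

theorem rel45_18 : scalW [4, 4] 1 = true := by decide +kernel

theorem rel45_19 : scalW [4, 5, 4, 5, 4, 5] 1 = true := by decide +kernel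

theorem rel45_20 : scalW [5, 5] 1 = true := by decide +kernel

theorem rel45_21 : scalW [1, 5, 7, 7] 1 = true := by decide +kernel

theorem rel45_22 : scalW [1, 5, 3, 0, 3, 0, 3, 0, 3, 0] 1 = true := by decide +kernel

theorem rel45_23 : scalW [0, 7, 3, 7, 3, 0, 3, 6, 3, 6] 1 = true := by decide +kernel

theorem rel45_24 : scalW [3, 7, 0, 7, 0, 3, 0, 6, 0, 6] 1 = true := by decide +kernel

theorem rel45_25 : scalW [2, 0, 3, 6, 2, 0, 3, 6, 2, 0, 3, 6, 2, 0, 3, 6, 2, 0, 3, 6] 2 = true := by decide +kernel

theorem rel45_26 : scalW [6, 2, 0, 6, 0, 2, 6, 2, 0, 6, 0] 2 = true := by decide +kernel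

theorem rel45_27 : scalW [6, 4, 3, 6, 3, 4, 6, 4, 3, 6, 3] 2 = true := by decide +kernel

theorem inv45_0 : scalW [0, 0] 1 = true := by decide +kernel

theorem inv45_1 : scalW [1, 1] 1 = true := by decide +kernel

theorem inv45_2 : scalW [2, 2] 1 = true := by decide +kernel

theorem inv45_3 : scalW [3, 3] 1 = true := by decide +kernel

theorem inv45_4 : scalW [4, 4] 1 = true := by decide +kernel

theorem inv45_5 : scalW [5, 5] 1 = true := by decide +kernel

theorem inv45_6 : scalW [6, 7] 1 = true := by decide +kernel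

theorem inv45_7 : scalW [7, 6] 1 = true := by decide +kernel

theorem rels45_ok : (rels45.all fun p => scalW p.1 (Nat.mod (Nat.pow 2 p.2) 7)) = true := by
  simp only [rels45, List.all_cons, List.all_nil, Bool.and_eq_true]
  exact ⟨rel45_0, rel45_1, rel45_2, rel45_3, rel45_4, rel45_5, rel45_6, rel45_7, rel45_8, rel45_9, rel45_10, rel45_11, rel45_12, rel45_13, rel45_14, rel45_15, rel45_16, rel45_17, rel45_18, rel45_19, rel45_20, rel45_21, rel45_22, rel45_23, rel45_24, rel45_25, rel45_26, rel45_27, trivial⟩

theorem inv45_ok : ([[0, 0], [1, 1], [2, 2], [3, 3], [4, 4], [5, 5], [6, 7], [7, 6]].all fun w =>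
    scalW w 1) = true := by
  simp only [List.all_cons, List.all_nil, Bool.and_eq_true]
  exact ⟨inv45_0, inv45_1, inv45_2, inv45_3, inv45_4, inv45_5, inv45_6, inv45_7, trivial⟩

end CfsgLib.ONPres
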