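import Cfsg.Agent.Lib.ONPres.HomOn
import Cfsg.Agent.Lib.ONPres.Rep45Check

/-!
The triple cover of the O'Nan group inside the special linear group of degree 45 over seven elements.
-/

set_option autoImplicit false
set_option linter.style.haveILetI false

open scoped commutatorElement

namespace CfsgLib.ONPres

open CfsgLib.CosetEnum Cfsg.Spor

/-- the ambient group -/
abbrev SL45 : Type := Matrix.SpecialLinearGroup (Fin 45) (ZMod 7)

/-- the matrix of a letter -/
noncomputable irreducible_def M45 (g : ℕ) : Matrix (Fin 45) (Fin 45) (ZMod 7) := toMat 45 (mat45 g)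

/-- the product over a word -/
noncomputable def prodM : List ℕ → Matrix (Fin 45) (Fin 45) (ZMod 7)
  | [] => 1
  | g :: w => M45 g * prodM w

theorem walk_ofVec : ∀ {w : List ℕ}, (∀ g ∈ w, g < 8) → ∀ v : Fin 45 → ZMod 7,
    walk45 w (ofVec v) = ofVec (Matrix.vecMul v (prodM w))
  | [], _, v => by rw [prodM, Matrix.vecMul_one]; rfl
  | g :: w, hw, v => by
    have h := List.all_eq_true.mp mat45_ok g (List.mem_range.mpr (hw g List.mem_cons_self))
    rw [Bool.and_eq_true, beq_iff_eq] at h
    have ih := walk_ofVec (w := w) (fun a ha => hw a (List.mem_cons_of_mem _ ha))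
      (Matrix.vecMul v (M45 g))
    unfold walk45 at ih ⊢
    simp only [strict_eq] at ih ⊢
    rw [prodM, ← Matrix.vecMul_vecMul, ← ih, M45_def]
    exact congrArg _ (stepRow_ofVec (by norm_num) h.1 h.2 v)

theorem packRow_single : ∀ (n i : ℕ) (s : ℕ), i < n →
    packRow n (fun k => if k = i then s else 0) = s * 2048 ^ i
  | 0, i, _, h => absurd h (Nat.not_lt_zero i)
  | n + 1, 0, s, _ => by
    rw [packRow, show (fun k => if k + 1 = 0 then s else 0) = fun _ => 0 from
      funext fun k => if_neg (Nat.succ_ne_zero k), packRow_zero, if_pos rfl]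
    simp
  | n + 1, i + 1, s, h => by
    rw [packRow, if_neg (Nat.succ_ne_zero i).symm,
      show (fun k => if k + 1 = i + 1 then s else 0) = fun k => if k = i then s else 0 from
        funext fun k => by simp, packRow_single n i s (Nat.lt_of_succ_lt_succ h), pow_succ]
    ring

theorem scal_spec {w : List ℕ} {s : ℕ} (hw : ∀ g ∈ w, g < 8) (hs : s < 7)
    (h : scalW w s = true) : prodM w = (s : ZMod 7) • (1 : Matrix (Fin 45) (Fin 45) (ZMod 7)) := by
  refine Matrix.ext_of_single_vecMul fun i => ?_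
  refine ofVec_injective ?_
  have hrow := Cert.allBelow_spec h i.1 i.2
  simp only [strict_eq, Nat.beq_eq] at hrow
  have e : ∀ c : ℕ, c < 7 → ofVec (Pi.single i (c : ZMod 7)) = c * 2048 ^ (i : ℕ) := fun c hc => by
    rw [ofVec, ← packRow_single 45 i c i.2]
    refine packRow_congr fun k hk => ?_
    unfold vecVal
    rw [dif_pos hk]
    by_cases hki : k = i
    · subst hki
      rw [Pi.single_eq_same, if_pos rfl, ZMod.val_natCast, Nat.mod_eq_of_lt hc]
    · rw [Pi.single_eq_of_ne (fun e => hki (congrArg Fin.val e)), if_neg hki, ZMod.val_zero]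
  rw [← walk_ofVec hw, Matrix.vecMul_smul, Matrix.vecMul_one, ← Pi.single_smul', smul_eq_mul,
    mul_one, e s hs, show (1 : ZMod 7) = ((1 : ℕ) : ZMod 7) from Nat.cast_one.symm, e 1 (by norm_num),
    one_mul]
  exact hrow

theorem inv_spec {a b : ℕ} (ha : a < 8) (hb : b < 8) (h : scalW [a, b] 1 = true) :
    M45 a * M45 b = 1 := by
  have := scal_spec (w := [a, b]) (by intro g hg; rcases List.mem_pair.mp hg with rfl | rfl <;> assumption)
    (by norm_num) h
  simpa [prodM] using this

/-- the inverse letter -/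
def invLet (g : ℕ) : ℕ := if g = 6 then 7 else if g = 7 then 6 else g

theorem M45_inv {g : ℕ} (hg : g < 8) : M45 g * M45 (invLet g) = 1 ∧ M45 (invLet g) * M45 g = 1 := by
  have h := inv45_ok
  simp only [List.all_cons, List.all_nil, Bool.and_eq_true] at h
  obtain ⟨h0, h1, h2, h3, h4, h5, h6, h7, -⟩ := h
  have t6 : invLet 6 = 7 := rfl
  have t7 : invLet 7 = 6 := rfl
  interval_cases g
  · exact ⟨inv_spec hg hg h0, inv_spec hg hg h0⟩
  · exact ⟨inv_spec hg hg h1, inv_spec hg hg h1⟩
  · exact ⟨inv_spec hg hg h2, inv_spec hg hg h2⟩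
  · exact ⟨inv_spec hg hg h3, inv_spec hg hg h3⟩
  · exact ⟨inv_spec hg hg h4, inv_spec hg hg h4⟩
  · exact ⟨inv_spec hg hg h5, inv_spec hg hg h5⟩
  · rw [t6]; exact ⟨inv_spec hg (by norm_num) h6, inv_spec (by norm_num) hg h7⟩
  · rw [t7]; exact ⟨inv_spec hg (by norm_num) h7, inv_spec (by norm_num) hg h6⟩

theorem rels45_shape : ((certA.rels.all fun r => rels45.any fun p => p.1 == r) &&
    (rels45.all fun p => p.1.all fun g => Nat.blt g 8)) = true := by decide +kernel

theorem rel45 {p : List ℕ × ℕ} (hp : p ∈ rels45) :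
    prodM p.1 = ((2 : ZMod 7) ^ p.2) • (1 : Matrix (Fin 45) (Fin 45) (ZMod 7)) := by
  have hl := rels45_shape
  simp only [Bool.and_eq_true, List.all_eq_true, Nat.blt_eq] at hl
  have h := scal_spec (hl.2 p hp) (Nat.mod_lt _ (by norm_num)) (List.all_eq_true.mp rels45_ok p hp)
  rw [h]
  refine congrArg (fun t : ZMod 7 => t • (1 : Matrix (Fin 45) (Fin 45) (ZMod 7))) ?_
  show (((2 ^ p.2) % 7 : ℕ) : ZMod 7) = _
  rw [ZMod.natCast_mod]
  exact Nat.cast_pow 2 p.2

theorem scalar_det (k : ℕ) :
    (((2 : ZMod 7) ^ k) • (1 : Matrix (Fin 45) (Fin 45) (ZMod 7))).det = 1 := by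
  rw [Matrix.det_smul, Fintype.card_fin, Matrix.det_one, mul_one, ← pow_mul, mul_comm, pow_mul,
    show ((2 : ZMod 7) ^ 45) = 1 by decide +kernel, one_pow]

theorem prodM_det (w : List ℕ) : (prodM w).det = (w.map fun g => (M45 g).det).prod := by
  induction w with
  | nil => simp [prodM]
  | cons a w ih => rw [prodM, Matrix.det_mul, ih, List.map_cons, List.prod_cons]

theorem weights_one (d : ℕ → ZMod 7) (sq : ∀ i, i < 6 → d i * d i = 1) (h67 : d 6 * d 7 = 1)
    (hw : ∀ p ∈ rels45, (p.1.map d).prod = 1) : ∀ g, g < 8 → d g = 1 := by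
  have h12 := hw ([1, 2, 1, 2, 1, 2], 0) (by decide)
  have h20 := hw ([2, 0, 2, 0, 2, 0], 0) (by decide)
  have h34 := hw ([3, 4, 3, 4, 3, 4], 0) (by decide)
  have h45 := hw ([4, 5, 4, 5, 4, 5], 0) (by decide)
  have h15 := hw ([1, 5, 7, 7], 0) (by decide)
  have hb := hw ([1, 5, 3, 0, 3, 0, 3, 0, 3, 0], 0) (by decide)
  have h25 := hw ([2, 0, 3, 6, 2, 0, 3, 6, 2, 0, 3, 6, 2, 0, 3, 6, 2, 0, 3, 6], 1) (by decide)
  have h27 := hw ([6, 4, 3, 6, 3, 4, 6, 4, 3, 6, 3], 1) (by decide)
  simp only [List.map_cons, List.map_nil, List.prod_cons, List.prod_nil, mul_one] at h12 h20 h34 h45 h15 hb h25 h27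
  have two : ∀ t : ZMod 7, t * t = 1 → t = 1 ∨ t = 6 := by decide
  have alg : ∀ x y : ZMod 7, x * y = 1 → ∀ b : ZMod 7, b = 1 ∨ b = 6 →
      y * y = 1 → x * (b * (b * (x * (b * (b * (x * (b * (b * (x * b))))))))) = 1 →
      b * (b * (b * (x * (b * (b * (b * (x * (b * (b * (b * (x * (b * (b * (b * (x * (b * (b * (b * x)))))))))))))))))) = 1 →
      b = 1 ∧ x = 1 ∧ y = 1 := by decide +kernel
  have cube : ∀ s t : ℕ, s < 6 → t < 6 → d s * (d t * (d s * (d t * (d s * d t)))) = 1 → d s = d t := by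
    intro s t hs ht h
    rcases two _ (sq s hs) with e | e <;> rcases two _ (sq t ht) with e' | e' <;> rw [e, e'] at h ⊢ <;>
      revert h <;> decide
  have e21 : d 2 = d 1 := (cube 1 2 (by norm_num) (by norm_num) h12).symm
  have e01 : d 0 = d 1 := ((cube 2 0 (by norm_num) (by norm_num) h20).symm).trans e21
  have e34 : d 3 = d 4 := cube 3 4 (by norm_num) (by norm_num) h34
  have e45 : d 4 = d 5 := cube 4 5 (by norm_num) (by norm_num) h45
  have e15 : d 1 = d 5 := by
    rw [e34, e45, e01] at hb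
    rcases two _ (sq 1 (by norm_num)) with e | e <;> rcases two _ (sq 5 (by norm_num)) with e' | e' <;>
      rw [e, e'] at hb ⊢ <;> revert hb <;> decide
  have hy : d 7 * d 7 = 1 := by
    rw [← e15, ← mul_assoc, sq 1 (by norm_num), one_mul] at h15
    exact h15
  rw [e34, e45, ← e15] at h27 h25
  rw [e21, e01] at h25
  obtain ⟨k1, k6, k7⟩ := alg _ _ h67 _ (two _ (sq 1 (by norm_num))) hy h27 h25
  intro g hg
  interval_cases g
  exacts [e01.trans k1, k1, e21.trans k1, (e34.trans (e45.trans e15.symm)).trans k1,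
    (e45.trans e15.symm).trans k1, e15.symm.trans k1, k6, k7]

theorem det_eq_one {g : ℕ} (hg : g < 8) : (M45 g).det = 1 := by
  refine weights_one (fun g => (M45 g).det) (fun i hi => ?_) ?_ (fun p hp => ?_) g hg
  · have h := (M45_inv (show i < 8 by omega)).1
    rw [show invLet i = i by interval_cases i <;> rfl] at h
    show (M45 i).det * (M45 i).det = 1
    rw [← Matrix.det_mul, h, Matrix.det_one]
  · have h := (M45_inv (show 6 < 8 by norm_num)).1
    rw [show invLet 6 = 7 from rfl] at h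
    show (M45 6).det * (M45 7).det = 1
    rw [← Matrix.det_mul, h, Matrix.det_one]
  · rw [← prodM_det, rel45 hp, scalar_det]

/-- the element of a letter -/
noncomputable def S45 (g : ℕ) : SL45 :=
  if h : g < 8 then ⟨M45 g, det_eq_one h⟩ else 1

theorem S45_val {g : ℕ} (h : g < 8) : (S45 g : Matrix (Fin 45) (Fin 45) (ZMod 7)) = M45 g := by
  rw [show S45 g = ⟨M45 g, det_eq_one h⟩ from dif_pos h]

theorem prodW_S45 : ∀ {w : List ℕ}, (∀ g ∈ w, g < 8) →
    ((prodW S45 w : SL45) : Matrix (Fin 45) (Fin 45) (ZMod 7)) = prodM w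
  | [], _ => rfl
  | g :: w, hw => by
    rw [prodW_cons, prodM, Matrix.SpecialLinearGroup.coe_mul, S45_val (hw g List.mem_cons_self),
      prodW_S45 fun a ha => hw a (List.mem_cons_of_mem _ ha)]

/-- the scalar two -/
noncomputable irreducible_def Z45 : SL45 :=
  ⟨((2 : ZMod 7) ^ 1) • 1, scalar_det 1⟩

theorem Z45_val : (Z45 : Matrix (Fin 45) (Fin 45) (ZMod 7)) = (2 : ZMod 7) • 1 := by
  rw [Z45_def]
  show ((2 : ZMod 7) ^ 1) • (1 : Matrix (Fin 45) (Fin 45) (ZMod 7)) = _
  rw [pow_one]

theorem Z45_pow (k : ℕ) : ((Z45 ^ k : SL45) : Matrix (Fin 45) (Fin 45) (ZMod 7)) =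
    ((2 : ZMod 7) ^ k) • 1 := by
  rw [Matrix.SpecialLinearGroup.coe_pow]
  rw [Z45_val]
  rw [smul_pow, one_pow]

theorem Z45_central (a : SL45) : a * Z45 = Z45 * a := by
  apply Subtype.ext
  rw [Matrix.SpecialLinearGroup.coe_mul, Matrix.SpecialLinearGroup.coe_mul, Z45_val]
  rw [Matrix.mul_smul, Matrix.smul_mul, Matrix.mul_one, Matrix.one_mul]

theorem Z45_order : orderOf Z45 = 3 := by
  haveI : Fact (Nat.Prime 3) := ⟨Nat.prime_three⟩
  refine orderOf_eq_prime (Subtype.ext ?_) fun h => ?_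
  · rw [Z45_pow, show ((2 : ZMod 7) ^ 3) = 1 by decide, one_smul]; rfl
  · have h2 : (Z45 : Matrix (Fin 45) (Fin 45) (ZMod 7)) 0 0 =
        (1 : Matrix (Fin 45) (Fin 45) (ZMod 7)) 0 0 :=
      congrArg (fun A : SL45 => (A : Matrix (Fin 45) (Fin 45) (ZMod 7)) 0 0) h
    rw [Z45_val] at h2
    simp at h2
    revert h2
    decide

theorem nonscalar : (rowEnt ((mat45 0).getD 0 0) 0 != 2 && rowEnt ((mat45 0).getD 0 0) 0 != 1 &&
    rowEnt ((mat45 0).getD 0 0) 0 != 4) = true ∨ (List.range 45).any (fun j =>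
      j != 0 && rowEnt ((mat45 0).getD 0 0) j != 0) = true ∨ (List.range 45).any (fun i =>
      i != 0 && rowEnt ((mat45 0).getD i 0) 0 != 0) = true := by decide +kernel

theorem S45_zero_ne (k : ℕ) : S45 0 ≠ Z45 ^ k := by
  intro h
  have hm := congrArg (fun A : SL45 => (A : Matrix (Fin 45) (Fin 45) (ZMod 7))) h
  rw [S45_val (by norm_num), Z45_pow] at hm
  have he : ∀ i j : Fin 45, (rowEnt ((mat45 0).getD i 0) j : ZMod 7) =
      ((2 : ZMod 7) ^ k) * if i = j then 1 else 0 := fun i j => by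
    have := congrFun (congrFun hm i) j
    rw [M45_def] at this
    unfold toMat at this
    rw [Matrix.smul_apply, Matrix.one_apply, smul_eq_mul] at this
    exact this
  have hz : ∀ n : ℕ, n < 7 → (n : ZMod 7) = 0 → n = 0 := fun n hn e => by
    have := congrArg ZMod.val e
    rwa [ZMod.val_natCast, Nat.mod_eq_of_lt hn, ZMod.val_zero] at this
  rcases nonscalar with h1 | h1 | h1
  · simp only [Bool.and_eq_true, bne_iff_ne] at h1
    have h00 := he 0 0
    rw [if_pos rfl, mul_one] at h00
    have hv := congrArg ZMod.val h00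
    rw [ZMod.val_natCast, Nat.mod_eq_of_lt (rowEnt_lt _ _)] at hv
    have hk : ∀ r, r < 3 → ((2 : ZMod 7) ^ r).val = 1 ∨ ((2 : ZMod 7) ^ r).val = 2 ∨
        ((2 : ZMod 7) ^ r).val = 4 := by decide
    rw [pow_eq_pow_mod k (show (2 : ZMod 7) ^ 3 = 1 by decide)] at hv
    have hrow : rowEnt ((mat45 0).getD 0 0) 0 =
        rowEnt ((mat45 0).getD ((0 : Fin 45) : ℕ) 0) ((0 : Fin 45) : ℕ) := rfl
    rcases hk (k % 3) (Nat.mod_lt _ (by norm_num)) with e | e | e <;> omega
  · simp only [List.any_eq_true, List.mem_range, Bool.and_eq_true, bne_iff_ne] at h1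
    obtain ⟨j, hj, hj0, hne⟩ := h1
    have := he 0 ⟨j, hj⟩
    rw [if_neg (fun e => hj0 (congrArg Fin.val e).symm), mul_zero] at this
    exact hne (hz _ (rowEnt_lt _ _) this)
  · simp only [List.any_eq_true, List.mem_range, Bool.and_eq_true, bne_iff_ne] at h1
    obtain ⟨i, hi, hi0, hne⟩ := h1
    have := he ⟨i, hi⟩ 0
    rw [if_neg (fun e => hi0 (congrArg Fin.val e)), mul_zero] at this
    exact hne (hz _ (rowEnt_lt _ _) this)

attribute [local irreducible] S45

/-- the group generated by the matrices -/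
noncomputable def cov45 : Subgroup SL45 := Subgroup.closure ({y | ∃ g < 8, S45 g = y} ∪ {Z45})

/-- an element in the group -/
noncomputable def T45 (g : ℕ) : cov45 :=
  if h : g < 8 then ⟨S45 g, Subgroup.subset_closure (Or.inl ⟨g, h, rfl⟩)⟩ else 1

/-- the scalar in the group -/
noncomputable def C45 : cov45 := ⟨Z45, Subgroup.subset_closure (Or.inr rfl)⟩

theorem C45_central (a : cov45) : a * C45 = C45 * a := Subtype.ext (Z45_central a)

theorem zpowers_normal_of_central {G : Type*} [Group G] {c : G} (hc : ∀ a, a * c = c * a) :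
    (Subgroup.zpowers c).Normal :=
  ⟨fun x hx a => by
    obtain ⟨k, rfl⟩ := Subgroup.mem_zpowers_iff.mp hx
    rw [((show Commute a c from hc a).zpow_right k).eq, mul_inv_cancel_right]
    exact hx⟩

instance C45_normal : (Subgroup.zpowers C45).Normal := zpowers_normal_of_central C45_central

theorem prodW_T45 : ∀ {w : List ℕ}, (∀ g ∈ w, g < 8) →
    ((prodW T45 w : cov45) : SL45) = prodW S45 w
  | [], _ => rfl
  | g :: w, hw => by
    rw [prodW_cons, prodW_cons, Subgroup.coe_mul,
      prodW_T45 fun a ha => hw a (List.mem_cons_of_mem _ ha)]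
    rw [T45, dif_pos (hw g List.mem_cons_self)]

theorem exists_rep45 : ∃ H : Subgroup SL45, Nat.card (Subgroup.center H) = 3 ∧
    Cfsg.IsON (H ⧸ Subgroup.center H) := by
  let Zc := Subgroup.zpowers C45
  haveI : Zc.Normal := C45_normal
  let q : cov45 →* cov45 ⧸ Zc := QuotientGroup.mk' Zc
  have hl := rels45_shape
  simp only [Bool.and_eq_true, List.all_eq_true, List.any_eq_true, beq_iff_eq, Nat.blt_eq] at hl
  have h67 : prodW T45 [6, 7] = 1 := by
    apply Subtype.ext
    apply Subtype.ext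
    rw [prodW_T45 (by decide), prodW_S45 (by decide)]
    show M45 6 * (M45 7 * 1) = 1
    rw [mul_one]
    exact (M45_inv (show 6 < 8 by norm_num)).1
  obtain ⟨φ, hφ⟩ := exists_hom (fun g => q (T45 g))
    (by
      have h := congrArg q h67
      rw [prodW_cons, prodW_cons, prodW_nil, mul_one, map_mul, map_one] at h
      exact eq_inv_of_mul_eq_one_right h)
    (fun r hr => by
      obtain ⟨p, hp, rfl⟩ := hl.1 r hr
      rw [← map_prodW q T45 p.1]
      refine (QuotientGroup.eq_one_iff _).mpr ?_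
      rw [show prodW T45 p.1 = C45 ^ p.2 from Subtype.ext (Subtype.ext (by
        rw [prodW_T45 (hl.2 p hp), prodW_S45 (hl.2 p hp), rel45 hp, ← Z45_pow]
        rfl))]
      exact pow_mem (Subgroup.mem_zpowers C45) _)
  have hsurj : Function.Surjective φ := by
    rw [← MonoidHom.range_eq_top, eq_top_iff]
    have ht : Subgroup.closure (((↑) : cov45 → SL45) ⁻¹' ({y | ∃ g < 8, S45 g = y} ∪ {Z45})) = ⊤ :=
      Subgroup.closure_closure_coe_preimage
    have h2 : (⊤ : Subgroup cov45) ≤ φ.range.comap q := by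
      rw [← ht, Subgroup.closure_le]
      rintro a (⟨g, hg, he⟩ | he)
      · refine ⟨gen g, ?_⟩
        rw [hφ g hg]
        refine congrArg q (Subtype.ext ?_)
        rw [show T45 g = ⟨S45 g, Subgroup.subset_closure (Or.inl ⟨g, hg, rfl⟩)⟩ from dif_pos hg]
        exact he
      · refine ⟨1, ?_⟩
        rw [map_one]
        refine ((QuotientGroup.eq_one_iff a).mpr ?_).symm
        rw [show a = C45 from Subtype.ext he]
        exact Subgroup.mem_zpowers C45
    intro b _
    obtain ⟨a, rfl⟩ := QuotientGroup.mk'_surjective Zc b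
    exact h2 (Subgroup.mem_top a)
  haveI := isON.1
  have hinj : Function.Injective φ := by
    rw [← MonoidHom.ker_eq_bot_iff]
    refine (Subgroup.Normal.eq_bot_or_eq_top (inferInstance : φ.ker.Normal)).resolve_right fun h => ?_
    have h0 : q (T45 0) = 1 := by
      rw [← hφ 0 (show 0 < 8 by norm_num)]
      exact MonoidHom.mem_ker.mp (h ▸ Subgroup.mem_top _)
    obtain ⟨k, hk⟩ := (Submonoid.mem_powers_iff _ _).mp
      (mem_powers_iff_mem_zpowers.mpr ((QuotientGroup.eq_one_iff _).mp h0))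
    refine S45_zero_ne k ?_
    have := congrArg Subtype.val hk
    rw [T45, dif_pos (show 0 < 8 by norm_num)] at this
    exact this.symm
  let e : ON ≃* cov45 ⧸ Zc := MulEquiv.ofBijective φ ⟨hinj, hsurj⟩
  haveI : IsSimpleGroup (cov45 ⧸ Zc) := e.symm.isSimpleGroup
  have hcen : Subgroup.center cov45 = Zc := by
    refine le_antisymm (fun a ha => ?_) ?_
    · rcases Subgroup.Normal.eq_bot_or_eq_top
        (inferInstance : (Subgroup.center (cov45 ⧸ Zc)).Normal) with hb | ht
      · rw [← QuotientGroup.eq_one_iff, ← Subgroup.mem_bot, ← hb, Subgroup.mem_center_iff]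
        intro b
        obtain ⟨b, rfl⟩ := QuotientGroup.mk'_surjective Zc b
        exact congrArg q (Subgroup.mem_center_iff.mp ha b)
      · exfalso
        have hc : ∀ x y : ON, x * y = y * x := fun x y => e.injective (by
          rw [map_mul, map_mul]
          exact Subgroup.mem_center_iff.mp (ht ▸ Subgroup.mem_top (e y)) (e x))
        letI : CommGroup ON := { (inferInstance : Group ON) with mul_comm := hc }
        have hp := IsSimpleGroup.prime_card (α := ON)
        rw [card_faithful.1] at hp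
        exact absurd hp (by norm_num)
    · rw [Subgroup.zpowers_le, Subgroup.mem_center_iff]
      exact C45_central
  refine ⟨cov45, ?_, ?_⟩
  · rw [hcen, Nat.card_zpowers, ← Subgroup.orderOf_coe]
    exact Z45_order
  · let e2 : cov45 ⧸ Subgroup.center cov45 ≃* ON :=
      (QuotientGroup.quotientMulEquivOfEq hcen).trans e.symm
    exact ⟨e2.isSimpleGroup, (Nat.card_congr e2.toEquiv).trans card_faithful.1⟩

end CfsgLib.ONPres
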