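import Cfsg.Agent.Lib.ONPres.SubConjDefs

/-!
Kernel checks of the candidates for the image of the involution of the point stabiliser.
-/

set_option autoImplicit false
set_option Elab.async false

namespace CfsgLib.ONPres

open CfsgLib.CosetEnum

theorem subBasicOK : subBasic = true := by decide +kernel

theorem subScan0 : ((List.range 9).all fun j => subScan (9 * 0 + j)) = true := by decide +kernel

theorem subScan1 : ((List.range 9).all fun j => subScan (9 * 1 + j)) = true := by decide +kernel

theorem subScan2 : ((List.range 9).all fun j => subScan (9 * 2 + j)) = true := by decide +kernel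

theorem subScan3 : ((List.range 9).all fun j => subScan (9 * 3 + j)) = true := by decide +kernel

theorem subScan4 : ((List.range 9).all fun j => subScan (9 * 4 + j)) = true := by decide +kernel

theorem subScan5 : ((List.range 9).all fun j => subScan (9 * 5 + j)) = true := by decide +kernel

theorem subScan6 : ((List.range 9).all fun j => subScan (9 * 6 + j)) = true := by decide +kernel

theorem subScan7 : ((List.range 9).all fun j => subScan (9 * 7 + j)) = true := by decide +kernel

theorem subScan8 : ((List.range 9).all fun j => subScan (9 * 8 + j)) = true := by decide +kernel

theorem subScanAll (i : ℕ) (hi : i < 81) : subScan i = true := by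
  have key : ((List.range 9).all fun j => subScan (9 * (i / 9) + j)) = true := by
    rcases (show i / 9 = 0 ∨ i / 9 = 1 ∨ i / 9 = 2 ∨ i / 9 = 3 ∨ i / 9 = 4 ∨ i / 9 = 5 ∨ i / 9 = 6 ∨
        i / 9 = 7 ∨ i / 9 = 8 by omega) with e | e | e | e | e | e | e | e | e <;> rw [e]
    · exact subScan0
    · exact subScan1
    · exact subScan2
    · exact subScan3
    · exact subScan4
    · exact subScan5
    · exact subScan6
    · exact subScan7
    · exact subScan8
  simp only [List.all_eq_true, List.mem_range] at key
  have := key (i % 9) (Nat.mod_lt _ (by norm_num))
  rwa [Nat.div_add_mod] at this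

end CfsgLib.ONPres
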