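import Cfsg.Agent.Lib.CosetEnum.Sound
import Cfsg.Agent.S0243
import Cfsg.Agent.Lib.Classical.Transvection

/-!
Automorphisms `M ↦ A⁻¹ (M⁻¹)ᵀ A` of `SL(3,7)` for six symmetric matrices `A`.
-/

set_option autoImplicit false

namespace CfsgLib.ONPres

open Matrix CfsgLib.CosetEnum

/-- `3 × 3` matrices over `ℤ/7` -/
abbrev Mat7 := Matrix (Fin 3) (Fin 3) (ZMod 7)

/-- `SL(3,7)` -/
abbrev SL37 := Matrix.SpecialLinearGroup (Fin 3) (ZMod 7)

/-- the six symmetric matrices, for `c, a, b, d, e, f` -/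
def symA : ℕ → Mat7
  | 0 => !![1, 2, 5; 2, 5, 6; 5, 6, 5]
  | 2 => !![1, 3, 1; 3, 4, 2; 1, 2, 2]
  | 3 => !![0, 1, 6; 1, 5, 5; 6, 5, 5]
  | 4 => !![1, 6, 4; 6, 1, 4; 4, 4, 0]
  | 5 => !![1, 0, 0; 0, 0, 6; 0, 6, 0]
  | _ => 1

/-- their inverses -/
def symAi : ℕ → Mat7
  | 0 => !![4, 1, 6; 1, 6, 3; 6, 3, 6]
  | 2 => !![4, 3, 2; 3, 1, 1; 2, 1, 2]
  | 3 => !![0, 4, 3; 4, 6, 6; 3, 6, 6]
  | 4 => !![2, 5, 1; 5, 2, 1; 1, 1, 0]
  | 5 => !![1, 0, 0; 0, 0, 6; 0, 6, 0]
  | _ => 1

theorem sym_facts : ∀ i, i < 6 → symA i * symAi i = 1 ∧ symAi i * symA i = 1 ∧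
    (symA i)ᵀ = symA i ∧ (symAi i)ᵀ = symAi i := by decide +kernel

theorem sym_high {i : ℕ} (h : 6 ≤ i) : symA i = 1 ∧ symAi i = 1 := by
  obtain ⟨k, rfl⟩ := Nat.exists_eq_add_of_le h
  rw [Nat.add_comm]
  exact ⟨rfl, rfl⟩

theorem sym_mul (i : ℕ) : symA i * symAi i = 1 ∧ symAi i * symA i = 1 ∧
    (symA i)ᵀ = symA i ∧ (symAi i)ᵀ = symAi i := by
  by_cases h : i < 6
  · exact sym_facts i h
  · obtain ⟨h1, h2⟩ := sym_high (Nat.le_of_not_lt h)
    rw [h1, h2]
    exact ⟨one_mul 1, one_mul 1, Matrix.transpose_one, Matrix.transpose_one⟩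

theorem det_sym_mul (i : ℕ) : (symAi i).det * (symA i).det = 1 := by
  rw [← Matrix.det_mul, (sym_mul i).2.1, Matrix.det_one]

/-- the image of a matrix of determinant one -/
def tauMap (i : ℕ) (M : SL37) : SL37 :=
  ⟨symAi i * (M.1.adjugate)ᵀ * symA i, by
    rw [Matrix.det_mul, Matrix.det_mul, Matrix.det_transpose, Matrix.det_adjugate, M.2, one_pow,
      mul_one, det_sym_mul]⟩

theorem adjugate_adj (M : SL37) : (M.1.adjugate)ᵀ.adjugate = M.1ᵀ := by
  rw [Matrix.adjugate_transpose, Matrix.adjugate_adjugate _ (by simp), Matrix.det_transpose, M.2,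
    one_pow, one_smul]

theorem tauMap_tauMap (i : ℕ) (M : SL37) : tauMap i (tauMap i M) = M := by
  apply Subtype.ext
  change symAi i * ((symAi i * (M.1.adjugate)ᵀ * symA i).adjugate)ᵀ * symA i = M.1
  rw [Matrix.adjugate_mul_distrib, Matrix.adjugate_mul_distrib, adjugate_adj]
  obtain ⟨h1, h2, h3, h4⟩ := sym_mul i
  have e1 : (symA i).adjugate = (symA i).det • symAi i := by
    have h := congrArg (fun X => X * symAi i) (Matrix.adjugate_mul (symA i))
    simp only [mul_assoc, h1, mul_one, smul_mul_assoc, one_mul] at h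
    exact h
  have e2 : (symAi i).adjugate = (symAi i).det • symA i := by
    have h := congrArg (fun X => X * symA i) (Matrix.adjugate_mul (symAi i))
    simp only [mul_assoc, h2, mul_one, smul_mul_assoc, one_mul] at h
    exact h
  rw [e1, e2, Matrix.transpose_mul, Matrix.transpose_mul, Matrix.transpose_smul,
    Matrix.transpose_smul, Matrix.transpose_transpose, h3, h4]
  simp only [smul_mul_assoc, mul_smul_comm, smul_smul]
  rw [mul_comm, det_sym_mul, one_smul]
  calc symAi i * (symA i * M.1 * symAi i) * symA i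
      = (symAi i * symA i) * M.1 * (symAi i * symA i) := by noncomm_ring
    _ = M.1 := by rw [h2, one_mul, mul_one]

/-- the automorphism -/
def tau (i : ℕ) : MulAut SL37 where
  toFun := tauMap i
  invFun := tauMap i
  left_inv := tauMap_tauMap i
  right_inv := tauMap_tauMap i
  map_mul' M N := by
    apply Subtype.ext
    change symAi i * ((M.1 * N.1).adjugate)ᵀ * symA i =
      symAi i * (M.1.adjugate)ᵀ * symA i * (symAi i * (N.1.adjugate)ᵀ * symA i)
    rw [Matrix.adjugate_mul_distrib, Matrix.transpose_mul]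
    calc symAi i * ((M.1.adjugate)ᵀ * (N.1.adjugate)ᵀ) * symA i
        = symAi i * (M.1.adjugate)ᵀ * (symA i * symAi i) * ((N.1.adjugate)ᵀ * symA i) := by
          rw [(sym_mul i).1]; noncomm_ring
      _ = _ := by noncomm_ring

/-- the matrix of a product of pairs -/
def pairMat : List ℕ → Mat7
  | i :: j :: w => symAi i * symA j * pairMat w
  | _ => 1

/-- its inverse -/
def pairMatInv : List ℕ → Mat7
  | i :: j :: w => pairMatInv w * (symAi j * symA i)
  | _ => 1

theorem tau_tau (i j : ℕ) (M : SL37) :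
    (tau i (tau j M)).1 = (symAi i * symA j) * M.1 * (symAi j * symA i) := by
  change symAi i * ((symAi j * (M.1.adjugate)ᵀ * symA j).adjugate)ᵀ * symA i = _
  rw [Matrix.adjugate_mul_distrib, Matrix.adjugate_mul_distrib, adjugate_adj]
  obtain ⟨h1, h2, h3, h4⟩ := sym_mul j
  have e1 : (symA j).adjugate = (symA j).det • symAi j := by
    have h := congrArg (fun X => X * symAi j) (Matrix.adjugate_mul (symA j))
    simp only [mul_assoc, h1, mul_one, smul_mul_assoc, one_mul] at h
    exact h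
  have e2 : (symAi j).adjugate = (symAi j).det • symA j := by
    have h := congrArg (fun X => X * symA j) (Matrix.adjugate_mul (symAi j))
    simp only [mul_assoc, h2, mul_one, smul_mul_assoc, one_mul] at h
    exact h
  rw [e1, e2, Matrix.transpose_mul, Matrix.transpose_mul, Matrix.transpose_smul,
    Matrix.transpose_smul, Matrix.transpose_transpose, h3, h4]
  simp only [smul_mul_assoc, mul_smul_comm, smul_smul]
  rw [mul_comm, det_sym_mul, one_smul]
  noncomm_ring

/-- an even number of letters -/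
def evenW : List ℕ → Bool
  | _ :: _ :: w => evenW w
  | [] => true
  | _ => false

theorem prodW_tau : ∀ w, evenW w = true → ∀ M : SL37,
    (prodW tau w M).1 = pairMat w * M.1 * pairMatInv w
  | [], _, M => by simp [pairMat, pairMatInv]
  | [_], h, _ => by simp [evenW] at h
  | i :: j :: w, h, M => by
    have ih := prodW_tau w h M
    rw [prodW_cons, prodW_cons, MulAut.mul_apply, MulAut.mul_apply, tau_tau, ih, pairMat,
      pairMatInv]
    noncomm_ring

theorem pairMatInv_mul : ∀ w, pairMatInv w * pairMat w = 1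
  | [] => by simp [pairMat, pairMatInv]
  | [_] => by simp [pairMat, pairMatInv]
  | i :: j :: w => by
    rw [pairMat, pairMatInv]
    calc pairMatInv w * (symAi j * symA i) * (symAi i * symA j * pairMat w)
        = pairMatInv w * (symAi j * (symA i * symAi i) * symA j) * pairMat w := by noncomm_ring
      _ = 1 := by rw [(sym_mul i).1, mul_one, (sym_mul j).2.1, mul_one, pairMatInv_mul w]

/-- a word acting trivially -/
def trivW (w : List ℕ) : Bool :=
  evenW w && decide (∃ k : ZMod 7, k ≠ 0 ∧ pairMat w = k • (1 : Mat7))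

theorem prodW_tau_eq_one {w : List ℕ} (h : trivW w = true) : prodW tau w = 1 := by
  simp only [trivW, Bool.and_eq_true, decide_eq_true_eq] at h
  obtain ⟨he, k, hk, hQ⟩ := h
  have hinv := pairMatInv_mul w
  rw [hQ, mul_smul_comm, mul_one] at hinv
  ext M : 1
  apply Subtype.ext
  rw [prodW_tau w he, hQ, smul_mul_assoc, one_mul, smul_mul_assoc, ← mul_smul_comm, hinv, mul_one]
  rfl

/-- conjugation -/
def conjSL : SL37 →* MulAut SL37 := MulAut.conj

theorem prodW_tau_eq_conj {w : List ℕ} (he : evenW w = true) {g : SL37} {k : ZMod 7}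
    (hQ : pairMat w = k • g.1) : prodW tau w = conjSL g := by
  have hinv := pairMatInv_mul w
  rw [hQ, mul_smul_comm] at hinv
  have hg : g.1 * (g⁻¹ : SL37).1 = 1 := by
    rw [← Matrix.SpecialLinearGroup.coe_mul, mul_inv_cancel, Matrix.SpecialLinearGroup.coe_one]
  have key : k • pairMatInv w = (g⁻¹ : SL37).1 := by
    have h2 := congrArg (fun X => X * (g⁻¹ : SL37).1) hinv
    simp only [smul_mul_assoc, mul_assoc, hg, mul_one, one_mul] at h2
    exact h2
  ext M : 1
  apply Subtype.ext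
  rw [prodW_tau w he, hQ, smul_mul_assoc, smul_mul_assoc, ← mul_smul_comm, key]
  rfl

/-- words giving the elementary transvections -/
def transWord : ℕ → List ℕ
  | 1 => [2, 0, 1, 3, 0, 2, 3, 4, 3, 0, 2, 1, 3, 0, 5, 4, 3, 0, 2, 3, 0, 3, 4, 3, 0, 3, 0, 2]
  | 2 => [4, 3, 0, 2, 3, 0, 2, 1, 3, 4, 3, 0, 2, 3, 0, 2, 3, 0, 2, 4, 3, 0, 2, 3, 0, 4]
  | 3 => [5, 4, 3, 0, 2, 3, 0, 2, 1, 3, 4, 3, 0, 2, 3, 0, 2, 3, 0, 2, 4, 3, 0, 2, 3, 0, 4, 5]
  | 5 => [2, 0, 1, 3, 4, 3, 0, 2, 3, 5, 4, 3, 0, 2, 3, 0, 2, 4, 3, 0, 2, 3, 0, 4, 3, 5, 4, 3, 0, 2]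
  | 6 => [0, 1, 2, 3, 4, 3, 0, 2, 1, 3, 0, 2, 3, 4, 3, 0, 2, 1, 3, 0, 2, 4, 3, 0, 2, 3, 0, 4]
  | 7 => [0, 1, 2, 0, 4, 3, 0, 2, 1, 5, 4, 3, 0, 2, 3, 0, 3, 4, 3, 0, 2, 1, 3, 0, 4, 3, 5, 4, 3, 0, 2, 1]
  | _ => []

theorem transWord_lt : ∀ n < 9, ((transWord n).all fun g => Nat.blt g 6) = true := by decide

theorem transWord_spec : ∀ i j : Fin 3, i ≠ j → evenW (transWord (3 * i + j)) = true ∧
    ∃ k : ZMod 7, pairMat (transWord (3 * i + j)) = k • Matrix.transvection i j (1 : ZMod 7) := by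
  decide +kernel

theorem tau_outer : tau 1 ∉ conjSL.range := by
  rintro ⟨g, hg⟩
  let M : SL37 := ⟨!![0, 0, 1; 1, 0, 0; 0, 1, 1], by decide +kernel⟩
  have h := congrArg (fun f : MulAut SL37 => Matrix.trace (f M).1) hg
  have e1 : Matrix.trace (conjSL g M).1 = Matrix.trace M.1 := by
    change Matrix.trace (g.1 * M.1 * (g⁻¹ : SL37).1) = _
    rw [Matrix.trace_mul_cycle, ← Matrix.SpecialLinearGroup.coe_mul, inv_mul_cancel,
      Matrix.SpecialLinearGroup.coe_one, one_mul]
  have e2 : Matrix.trace (tau 1 M).1 ≠ Matrix.trace M.1 := by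
    change Matrix.trace (symAi 1 * (M.1.adjugate)ᵀ * symA 1) ≠ _
    rw [show symAi 1 = 1 from rfl, show symA 1 = 1 from rfl, one_mul, mul_one,
      Matrix.trace_transpose, Matrix.adjugate_fin_three, Matrix.trace_fin_three,
      Matrix.trace_fin_three]
    decide +kernel
  exact e2 (by rw [← h]; exact e1)

theorem card_PSL37 : Nat.card (Matrix.ProjectiveSpecialLinearGroup (Fin 3) (ZMod 7)) = 1876896 := by
  haveI : Fact (Nat.Prime 7) := ⟨by norm_num⟩
  have h := Cfsg.Agent.S0243.result (F := ZMod 7) (q := 7) (ZMod.card 7) 3 (by norm_num)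
  rw [Fin.prod_univ_three, show Nat.gcd 3 (7 - 1) = 3 by decide] at h
  simp only [Fin.val_zero, Fin.val_one, Fin.val_two, pow_zero, pow_one] at h
  norm_num at h ⊢
  linarith

theorem card_conjSL : Nat.card conjSL.range = 1876896 := by
  have hker : conjSL.ker = Subgroup.center SL37 := by
    ext g
    rw [MonoidHom.mem_ker, Subgroup.mem_center_iff]
    constructor
    · intro h x
      have := congrArg (fun f : MulAut SL37 => f x) h
      change g * x * g⁻¹ = x at this
      rw [mul_inv_eq_iff_eq_mul] at this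
      exact this.symm
    · intro h
      refine MulEquiv.ext fun x => ?_
      change g * x * g⁻¹ = x
      rw [← h x, mul_inv_cancel_right]
  rw [← card_PSL37]
  exact Nat.card_congr ((QuotientGroup.quotientKerEquivRange conjSL).symm.trans
    (QuotientGroup.quotientMulEquivOfEq hker)).toEquiv

end CfsgLib.ONPres
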