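import Cfsg.Agent.Lib.ONPres.Main
import Cfsg.Agent.Lib.ONPres.SubL37

/-!
The subgroup on six involutory generators has an index two subgroup `PSL(3,7)`.
-/

set_option autoImplicit false

namespace CfsgLib.ONPres

open CfsgLib.CosetEnum Cfsg.Spor

/-- six free letters -/
def free6 (i : ℕ) : FreeGroup (Fin 6) := if h : i < 6 then FreeGroup.of ⟨i, h⟩ else 1

/-- the relators -/
def free6Rels : Set (FreeGroup (Fin 6)) := {x | ∃ w ∈ rels6, prodW free6 w = x}

/-- the group on six involutions -/
abbrev P6 : Type := PresentedGroup free6Rels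

/-- its letters -/
def p6gen (i : ℕ) : P6 := PresentedGroup.mk free6Rels (free6 i)

theorem p6rel : ∀ w ∈ rels6, prodW p6gen w = 1 := by
  intro w hw
  unfold p6gen
  rw [← map_prodW]
  exact PresentedGroup.one_of_mem ⟨w, hw, rfl⟩

theorem rels6_lt : ∀ w ∈ rels6, ∀ g ∈ w, g < 6 := by
  intro w hw
  simp only [rels6, List.mem_filter, List.all_eq_true, Nat.blt_eq] at hw
  exact hw.2

theorem p6sq (i : ℕ) : p6gen i * p6gen i = 1 := by
  by_cases h : i < 6
  · have hall : ((List.range 6).all fun i => rels6.contains [i, i]) = true := by decide +kernel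
    simp only [List.all_eq_true, List.mem_range, List.contains_iff_mem] at hall
    simpa using p6rel _ (hall i h)
  · simp [p6gen, free6, h]

theorem p6gen_of (i : Fin 6) : p6gen i = PresentedGroup.of i := by
  simp [p6gen, free6, PresentedGroup.of]

theorem p6top : genSub p6gen 6 = ⊤ := by
  rw [eq_top_iff, ← PresentedGroup.closure_range_of free6Rels, Subgroup.closure_le]
  rintro y ⟨i, rfl⟩
  exact Subgroup.subset_closure ⟨i, i.2, p6gen_of i⟩

theorem p6card : Finite P6 ∧ Nat.card P6 ≤ 3753792 := by
  have hC := block_card_le p6sq p6rel certC_complete blockC (subs_closure_bot rfl)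
  have hB := block_step p6sq p6rel certB_complete blockB (d := 1) (k := 5)
    (by decide +kernel) (by norm_num) hC
  rw [genSub_blockGen_zero, p6top] at hB
  exact ⟨haveI := hB.1; Finite.of_equiv _ Subgroup.topEquiv.toEquiv,
    by rw [← Nat.card_congr Subgroup.topEquiv.toEquiv]; exact hB.2⟩

instance : Finite P6 := p6card.1

/-- A homomorphism out of `P6`. -/
theorem exists_p6Hom {P : Type*} [Group P] (f : ℕ → P) (h : ∀ w ∈ rels6, prodW f w = 1) :
    ∃ φ : P6 →* P, ∀ i < 6, φ (p6gen i) = f i := by
  have hall : ∀ r ∈ free6Rels, FreeGroup.lift (fun i : Fin 6 => f i) r = 1 := by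
    rintro r ⟨w, hw, rfl⟩
    rw [map_prodW]
    rw [prodW_congr (gen' := f) fun g hg => by simp [free6, rels6_lt w hw g hg]]
    exact h w hw
  refine ⟨PresentedGroup.toGroup hall, fun i hi => ?_⟩
  rw [show p6gen i = PresentedGroup.of (⟨i, hi⟩ : Fin 6) from p6gen_of ⟨i, hi⟩,
    PresentedGroup.toGroup.of]

theorem card_subA : Nat.card subA = 3753792 := by
  have h := subA.card_mul_index
  rw [index_subA, card_faithful.1] at h
  exact Nat.eq_of_mul_eq_mul_right (by norm_num : 0 < 122760) (h.trans (by norm_num))

theorem exists_equiv_subA : Nonempty (P6 ≃* subA) := by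
  haveI := subA_card.1
  obtain ⟨ψ, hψ⟩ := exists_p6Hom gen6 rels6_one
  have hr : ψ.range = subA := by
    rw [MonoidHom.range_eq_map, ← p6top, ← genSub6, genSub, genSub, MonoidHom.map_closure]
    congr 1
    ext y
    simp only [Set.mem_image, Set.mem_ofPred_eq]
    constructor
    · rintro ⟨_, ⟨g, hg, rfl⟩, rfl⟩
      exact ⟨g, hg, (hψ g hg).symm⟩
    · rintro ⟨g, hg, rfl⟩
      exact ⟨_, ⟨g, hg, rfl⟩, hψ g hg⟩
  have hs : Function.Surjective ψ.rangeRestrict := ψ.rangeRestrict_surjective
  have hc : Nat.card ψ.range = 3753792 := by rw [hr, card_subA]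
  have hb : Function.Bijective ψ.rangeRestrict := by
    haveI := Fintype.ofFinite P6
    haveI := Fintype.ofFinite ψ.range
    rw [Fintype.bijective_iff_surjective_and_card]
    refine ⟨hs, ?_⟩
    have h1 := Nat.card_le_card_of_surjective _ hs
    have h2 := p6card.2
    rw [← Nat.card_eq_fintype_card, ← Nat.card_eq_fintype_card]
    omega
  exact ⟨(MulEquiv.ofBijective _ hb).trans (MulEquiv.subgroupCongr hr)⟩

theorem tau_rels : ∀ w ∈ rels6, prodW tau w = 1 := by
  have h : (rels6.all trivW) = true := by decide +kernel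
  simp only [List.all_eq_true] at h
  exact fun w hw => prodW_tau_eq_one (h w hw)

theorem pair_det : ∀ i, i < 6 → ∃ k : ZMod 7, k * k = 1 ∧ (k • pairMat [i, 1]).det = 1 := by
  decide +kernel

theorem pair_mem {i : ℕ} (hi : i < 6) : prodW tau [i, 1] ∈ conjSL.range := by
  obtain ⟨k, hk, hdet⟩ := pair_det i hi
  refine ⟨⟨k • pairMat [i, 1], hdet⟩, (prodW_tau_eq_conj (k := k) rfl ?_).symm⟩
  change pairMat [i, 1] = k • (k • pairMat [i, 1])
  rw [smul_smul, hk, one_smul]

set_option maxHeartbeats 2000000 in
theorem exists_psl : ∃ N : Subgroup P6, N.Normal ∧ N.index = 2 ∧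
    Nonempty (N ≃* Matrix.ProjectiveSpecialLinearGroup (Fin 3) (ZMod 7)) := by
  haveI : Fact (Nat.Prime 7) := ⟨by norm_num⟩
  obtain ⟨φ, hφ⟩ := exists_p6Hom tau tau_rels
  haveI hinn : conjSL.range.Normal := by
    refine ⟨fun x hx f => ?_⟩
    obtain ⟨g, rfl⟩ := hx
    refine ⟨f g, MulEquiv.ext fun M => ?_⟩
    change f g * M * (f g)⁻¹ = f (g * f⁻¹ M * g⁻¹)
    rw [map_mul, map_mul, map_inv]
    simp
  let N : Subgroup P6 := conjSL.range.comap φ
  have hN : N.Normal := hinn.comap φ
  have ha : p6gen 1 ∉ N := fun h => tau_outer (by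
    have h' : φ (p6gen 1) ∈ conjSL.range := h
    rwa [hφ 1 (by norm_num)] at h')
  have hQ : ∀ b : P6, b ∈ N ∨ b * p6gen 1 ∈ N := by
    intro b
    have hb : b ∈ genSub p6gen 6 := by rw [p6top]; trivial
    induction hb using Subgroup.closure_induction with
    | mem y hy =>
      obtain ⟨g, hg, rfl⟩ := hy
      right
      change φ (p6gen g * p6gen 1) ∈ conjSL.range
      rw [map_mul, hφ g hg, hφ 1 (by norm_num)]
      simpa using pair_mem hg
    | one => exact Or.inl N.one_mem
    | mul x y _ _ hx hy =>
      rcases hx with hx | hx <;> rcases hy with hy | hy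
      · exact Or.inl (N.mul_mem hx hy)
      · exact Or.inr (by rw [mul_assoc]; exact N.mul_mem hx hy)
      · refine Or.inr ?_
        have e : x * y * p6gen 1 = x * p6gen 1 * ((p6gen 1)⁻¹ * y * (p6gen 1)⁻¹⁻¹) := by group
        rw [e]
        exact N.mul_mem hx (hN.conj_mem y hy _)
      · refine Or.inl ?_
        have e : x * y = x * p6gen 1 * ((p6gen 1)⁻¹ * (y * p6gen 1) * (p6gen 1)⁻¹⁻¹) *
            (p6gen 1 * p6gen 1)⁻¹ := by group
        rw [e, p6sq, inv_one, mul_one]
        exact N.mul_mem hx (hN.conj_mem _ hy _)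
    | inv x _ hx =>
      rcases hx with hx | hx
      · exact Or.inl (N.inv_mem hx)
      · refine Or.inr ?_
        have e : x⁻¹ * p6gen 1 =
            p6gen 1 * (x * p6gen 1)⁻¹ * (p6gen 1)⁻¹ * (p6gen 1 * p6gen 1) := by group
        rw [e, p6sq, mul_one]
        exact hN.conj_mem _ (N.inv_mem hx) _
  have hidx : N.index = 2 := by
    rw [Subgroup.index_eq_two_iff_exists_notMem_and]
    exact ⟨_, ha, fun b => (hQ b).symm⟩
  have hrange : conjSL.range ≤ φ.range := by
    rintro _ ⟨g, rfl⟩
    have hK : Subgroup.comap conjSL φ.range = ⊤ := by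
      refine CfsgLib.Classical.eq_top_of_transvection_mem _ fun i j hij c => ?_
      obtain ⟨he, k, hk⟩ := transWord_spec i j hij
      have h1 : Matrix.SpecialLinearGroup.transvection hij (1 : ZMod 7) ∈
          Subgroup.comap conjSL φ.range := by
        have hmat : (Matrix.SpecialLinearGroup.transvection hij (1 : ZMod 7)).1 =
            Matrix.transvection i j (1 : ZMod 7) := Matrix.SpecialLinearGroup.transvection_coe hij 1
        rw [← hmat] at hk
        refine ⟨prodW p6gen (transWord (3 * i + j)), ?_⟩
        rw [map_prodW, prodW_congr (gen' := tau) fun x hx => hφ x ?_, prodW_tau_eq_conj he hk]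
        have h := transWord_lt (3 * i + j) (by omega)
        simp only [List.all_eq_true, Nat.blt_eq] at h
        exact h x hx
      have hpow : ∀ n : ℕ, Matrix.SpecialLinearGroup.transvection hij ((n : ℕ) : ZMod 7) =
          Matrix.SpecialLinearGroup.transvection hij 1 ^ n := by
        intro n
        induction n with
        | zero =>
          apply Subtype.ext
          simp [Matrix.SpecialLinearGroup.transvection_coe]
        | succ n ih =>
          rw [pow_succ, ← ih]
          apply Subtype.ext
          simp [Matrix.SpecialLinearGroup.transvection_coe, Matrix.mul_add, Matrix.add_mul, hij.symm,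
            Matrix.single_add, add_assoc]
      rw [show c = ((c.val : ℕ) : ZMod 7) from (ZMod.natCast_zmod_val c).symm, hpow]
      exact Subgroup.pow_mem _ h1 _
    have : g ∈ Subgroup.comap conjSL φ.range := by rw [hK]; trivial
    exact this
  haveI : Finite φ.range := Finite.of_surjective _ φ.rangeRestrict_surjective
  have hinj : Function.Injective φ := by
    have h2 : 2 * 1876896 ≤ Nat.card φ.range := by
      have hmul := (conjSL.range.subgroupOf φ.range).card_mul_index
      rw [Nat.card_congr (Subgroup.subgroupOfEquivOfLe hrange).toEquiv, card_conjSL] at hmul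
      have hne1 : (conjSL.range.subgroupOf φ.range).index ≠ 1 := by
        rw [Ne, Subgroup.index_eq_one, Subgroup.subgroupOf_eq_top]
        exact fun hle => tau_outer (hle ⟨p6gen 1, hφ 1 (by norm_num)⟩)
      have hne0 : (conjSL.range.subgroupOf φ.range).index ≠ 0 := Subgroup.index_ne_zero_of_finite
      have h2le : 1876896 * 2 ≤ 1876896 * (conjSL.range.subgroupOf φ.range).index :=
        Nat.mul_le_mul_left _ (by omega)
      omega
    have hs := φ.rangeRestrict_surjective
    have hb : Function.Bijective φ.rangeRestrict := by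
      haveI := Fintype.ofFinite P6
      haveI := Fintype.ofFinite φ.range
      rw [Fintype.bijective_iff_surjective_and_card]
      refine ⟨hs, ?_⟩
      have h1 := Nat.card_le_card_of_surjective _ hs
      have h3 := p6card.2
      rw [← Nat.card_eq_fintype_card, ← Nat.card_eq_fintype_card]
      omega
    exact fun x y e => hb.1 (Subtype.ext e)
  refine ⟨N, hN, hidx, ⟨?_⟩⟩
  have hmap : N.map φ = conjSL.range := by
    rw [Subgroup.map_comap_eq, inf_eq_right.mpr hrange]
  have hker : conjSL.ker = Subgroup.center SL37 := by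
    ext g
    rw [MonoidHom.mem_ker, Subgroup.mem_center_iff]
    constructor
    · intro h x
      have := congrArg (fun f : MulAut SL37 => f x) h
      change g * x * g⁻¹ = x at this
      rw [mul_inv_eq_iff_eq_mul] at this
      exact this.symm
    · intro h
      refine MulEquiv.ext fun x => ?_
      change g * x * g⁻¹ = x
      rw [← h x, mul_inv_cancel_right]
  exact ((N.equivMapOfInjective φ hinj).trans (MulEquiv.subgroupCongr hmap)).trans
    ((QuotientGroup.quotientKerEquivRange conjSL).symm.trans
      (QuotientGroup.quotientMulEquivOfEq hker))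

/-- transport to the subgroup generated by `a, …, f` -/
theorem exists_psl_subA : ∃ N : Subgroup subA, N.Normal ∧ N.index = 2 ∧
    Nonempty (N ≃* Matrix.ProjectiveSpecialLinearGroup (Fin 3) (ZMod 7)) := by
  obtain ⟨e⟩ := exists_equiv_subA
  obtain ⟨N, hN, hidx, ⟨i⟩⟩ := exists_psl
  refine ⟨N.map e.toMonoidHom, hN.map _ e.surjective, ?_, ⟨(e.subgroupMap N).symm.trans i⟩⟩
  rw [Subgroup.index_map_of_bijective e.bijective, hidx]

end CfsgLib.ONPres
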