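import Cfsg.Agent.Lib.ONPres.Aut
import Cfsg.Agent.Lib.ONPres.SubHom
import Cfsg.Agent.Lib.ONPres.SubConjScan
import Cfsg.Agent.Lib.AutPSL.L37Two

/-!
The subgroups of the presented O'Nan group with a subgroup `PSL(3,7)` of index two.
-/

set_option autoImplicit false

namespace CfsgLib.ONPres

open CfsgLib.CosetEnum Cfsg.Spor
open scoped MatrixGroups

theorem card_psl37 : Nat.card PSL(3, ZMod 7) = 1876896 := by
  obtain ⟨N, -, hidx, ⟨i⟩⟩ := exists_psl_subA
  have h := N.card_mul_index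
  rw [hidx, card_subA] at h
  rw [← Nat.card_congr i.toEquiv]
  omega

/-- the centralizer of an element of order 19 is cyclic -/
theorem mem_zpowers_of_commute {g n : ON} (hn : orderOf n = 19) (h : g * n = n * g) :
    g ∈ Subgroup.zpowers n := by
  obtain ⟨c, k, hk0, hk, hc⟩ := conj_to_zpowers n hn
  obtain ⟨m, hm⟩ : ∃ m, k * m % 19 = 1 := by
    have : ∀ k < 19, 0 < k → ∃ m < 19, k * m % 19 = 1 := by decide
    obtain ⟨m, -, hm⟩ := this k hk hk0
    exact ⟨m, hm⟩
  have hx : c * n ^ m * c⁻¹ = xEl := by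
    rw [← conj_pow, hc, ← pow_mul, x_pow_mod, hm, pow_one]
  have hcomm : (c * g * c⁻¹) * xEl = xEl * (c * g * c⁻¹) := by
    rw [← hx, ← MulAut.conj_apply, ← MulAut.conj_apply, ← map_mul, ← map_mul]
    congr 1
    exact (Commute.pow_right (show Commute g n from h) m).eq
  obtain ⟨j, -, hj⟩ := commute_x hcomm
  rw [← hx, conj_pow] at hj
  rw [mul_left_cancel (mul_right_cancel hj)]
  exact pow_mem (pow_mem (Subgroup.mem_zpowers _) _) _

theorem eq_one_of_centralises {H : Subgroup ON} (N : Subgroup H)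
    (hcard : Nat.card N = 1876896) {h : H} (hh : ∀ n ∈ N, h * n = n * h) : h = 1 := by
  haveI : Fact (Nat.Prime 19) := ⟨by norm_num⟩
  by_contra hne
  obtain ⟨n, hn⟩ := exists_prime_orderOf_dvd_card' (G := N) 19 (by rw [hcard]; norm_num)
  have hn' : orderOf ((n : H) : ON) = 19 := by
    rw [Subgroup.orderOf_coe, Subgroup.orderOf_coe, hn]
  have hord : orderOf (h : ON) = 19 := by
    refine orderOf_eq_prime ?_ fun e => hne (Subtype.ext e)
    obtain ⟨j, hj⟩ := Subgroup.mem_zpowers_iff.1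
      (mem_zpowers_of_commute hn' (congrArg Subtype.val (hh n n.2)))
    rw [← hj, ← zpow_natCast, ← zpow_mul, mul_comm, zpow_mul, zpow_natCast, ← hn',
      pow_orderOf_eq_one, one_zpow]
  have hmem : ∀ m : N, ((m : H) : ON) ∈ Subgroup.zpowers (h : ON) := fun m =>
    mem_zpowers_of_commute hord (congrArg Subtype.val (hh m m.2)).symm
  have h1 := Nat.card_le_card_of_injective
    (fun m : N => (⟨_, hmem m⟩ : Subgroup.zpowers (h : ON)))
    fun a b e => Subtype.ext (Subtype.ext (congrArg (fun z : Subgroup.zpowers (h : ON) => (z : ON)) e))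
  rw [hcard, Nat.card_zpowers, hord] at h1
  norm_num at h1

theorem nonempty_equiv_subA (H : Subgroup ON) (N : Subgroup H) [N.Normal] (hN : N.index = 2)
    (eN : N ≃* PSL(3, ZMod 7)) : Nonempty (subA ≃* H) := by
  obtain ⟨M, hM, hM2, ⟨eM⟩⟩ := exists_psl_subA
  haveI := hM
  exact CfsgLib.AutPSL.nonempty_mulEquiv M hM2 eM
    (fun h hh => eq_one_of_centralises M ((Nat.card_congr eM.toEquiv).trans card_psl37) hh)
    N hN eN
    (fun h hh => eq_one_of_centralises N ((Nat.card_congr eN.toEquiv).trans card_psl37) hh)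

/-- the element `subZ` -/
def zEl : ON := prodW gen subZ

theorem sub_basic : lettersOK subZ = true ∧ zEl * wEl = wEl * zEl ∧ zEl * zEl = 1 ∧
    xEl ∈ subA ∧ wEl ∈ subA ∧ zEl ∈ subA ∧
    ∀ T : Subgroup ON, xEl ∈ T → wEl ∈ T → zEl ∈ T → subA ≤ T := by
  have h := subBasicOK
  simp only [subBasic, Bool.and_eq_true, List.all_eq_true, Nat.blt_eq] at h
  obtain ⟨⟨⟨⟨⟨⟨hz, hx⟩, hw⟩, hidx⟩, hc⟩, hs⟩, hg⟩ := h
  have hlz : lettersOK subZ = true := lettersOK_iff.2 fun g hgm => lt_trans (hz g hgm) (show 6 < 8 by norm_num)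
  have hmem : ∀ w : List ℕ, (∀ g ∈ w, g < 6) → prodW gen w ∈ subA := fun w hw => prodW_mem fun g hgm => by
    rw [← genSub6, genSub]
    exact Subgroup.subset_closure ⟨g, hw g hgm, by rw [gen6, if_pos (hw g hgm)]⟩
  have hl : ∀ i, lettersOK (subL i) = true := fun i => by
    rcases i with _ | _ | _ | _ | _ | i <;>
      simp [subL, lX, lW, hlz, lettersOK_revInv]
    rfl
  refine ⟨hlz, ?_, ?_, hmem _ hx, hmem _ hw, hmem _ hz, fun T hxT hwT hzT => ?_⟩
  · have e := eq_of_check (lettersOK_append hlz lW) (lettersOK_append lW hlz) hc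
    rwa [prodW_append, prodW_append] at e
  · have e := eq_of_check (lettersOK_append hlz hlz) (w := []) rfl hs
    rwa [prodW_append, prodW_nil] at e
  · rw [← genSub6, genSub, Subgroup.closure_le]
    rintro _ ⟨i, hi, rfl⟩
    have hlen : subGens.length = 6 := rfl
    have hm : subGens.getD i [] ∈ subGens := by
      rw [List.getD_eq_getElem _ _ (by omega)]
      exact List.getElem_mem _
    have hli : lettersOK [i] = true := by simp [lettersOK]; omega
    have e := eq_of_check (lettersOK_substW fun j _ => hl j) hli (hg i (List.mem_range.2 hi))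
    rw [prodW_cons, prodW_nil, mul_one] at e
    rw [SetLike.mem_coe, gen6, if_pos hi, ← e, prodW_substW]
    refine prodW_mem fun j hj => ?_
    have hj5 := hidx _ hm j hj
    interval_cases j <;>
      simp only [subL, List.getD_cons_zero, List.getD_cons_succ, modelA.revInv_eq]
    exacts [hxT, hzT, inv_mem hxT, hwT, inv_mem hwT]

theorem cand_mem {g : ON} (hg : g * wEl = wEl * g) (h2 : g * g = 1) :
    g ∈ subA ∨ tauHom g ∈ subA := by
  have hfix : ∀ p, rho wEl p = p → rho wEl (rho g p) = rho g p := fun p hp => by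
    rw [← Equiv.Perm.mul_apply, ← map_mul, ← hg, map_mul, Equiv.Perm.mul_apply, hp]
  obtain ⟨a, ha, hpa⟩ := w_fix (hfix _ w_fix_base)
  obtain ⟨c, hc, hqc⟩ := w_fix (hfix _ w_fix_B)
  have hd1 : (9 * a + c) / 9 = a := by omega
  have hd2 : (9 * a + c) % 9 = c := by omega
  have hi : 9 * a + c < 81 := by omega
  have hp := List.all_eq_true.mp autPairsOK _ (List.mem_range.mpr hi)
  have hs := subScanAll _ hi
  unfold pairOK at hp
  unfold subScan at hs
  rw [hd1, hd2] at hp
  cases hcase : autPairs.getD (9 * a + c) none with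
  | none =>
    exfalso
    rw [hcase] at hp
    have hu : autU.getD a [] ∈ autU := by
      rw [List.getD_eq_getElem _ _ (show a < autU.length from ha)]
      exact List.getElem_mem _
    have hlu := letters_elems.2.2.2.2.2.1 _ hu
    have hu0 := Nat.eq_of_beq_eq_true (List.all_eq_true.mp autFixU a (List.mem_range.mpr ha))
    set h := (prodW gen (autU.getD a []))⁻¹ * g
    have hh : h ∈ subA := by
      rw [setupA.mem_iff, map_mul, map_inv, Equiv.Perm.mul_apply, Equiv.Perm.inv_eq_iff_eq]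
      exact Fin.ext (by rw [rho_act hlu]; exact hpa.trans hu0.symm)
    have hcls := orbValid.cls_rho setupA hh ptB
    rw [show (rho h ptB : ℕ) = act (certA.revInv (autU.getD a [])) (autFix.getD c 0) by
      rw [← hqc, ← rho_act (lettersOK_revInv hlu), modelA.revInv_eq, map_mul,
        Equiv.Perm.mul_apply]] at hcls
    rw [show orbTab.cls (ptB : ℕ) = orbTab.cls autB from rfl] at hcls
    simp only [hcls, Nat.beq_refl, Bool.not_true] at hp
    cases hp
  | some g0 =>
    rw [hcase] at hp hs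
    simp only [Bool.and_eq_true] at hp
    simp only [List.all_eq_true] at hs
    have h0 : rho ((prodW gen g0)⁻¹ * g) setupA.base = setupA.base := by
      rw [map_mul, map_inv, Equiv.Perm.mul_apply, Equiv.Perm.inv_eq_iff_eq]
      exact Fin.ext (by rw [rho_act hp.1.1]; exact hpa.trans (Nat.eq_of_beq_eq_true hp.1.2).symm)
    have hB : rho ((prodW gen g0)⁻¹ * g) ptB = ptB := by
      rw [map_mul, map_inv, Equiv.Perm.mul_apply, Equiv.Perm.inv_eq_iff_eq]
      exact Fin.ext (by rw [rho_act hp.1.1]; exact hqc.trans (Nat.eq_of_beq_eq_true hp.2).symm)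
    obtain ⟨s, hsm, hse⟩ := exists_stab h0 hB
    have hv : lettersOK (g0 ++ s) = true :=
      lettersOK_append hp.1.1 (letters_elems.2.2.2.2.2.2.1 _ hsm)
    have hgv : prodW gen (g0 ++ s) = g := by rw [prodW_append, hse, mul_inv_cancel_left]
    have hcand := hs s hsm
    have e1 : eqW (g0 ++ s ++ autW) (autW ++ (g0 ++ s)) = true :=
      (eqW_iff (lettersOK_append hv lW) (lettersOK_append lW hv)).2
        (by rw [prodW_append gen (g0 ++ s) autW, prodW_append gen autW (g0 ++ s), hgv]; exact hg)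
    have e2 : eqW ((g0 ++ s) ++ (g0 ++ s)) [] = true :=
      (eqW_iff (lettersOK_append hv hv) (w := []) rfl).2 (by rw [prodW_append gen (g0 ++ s) (g0 ++ s), prodW_nil, hgv, h2])
    rw [subCand, e1, e2] at hcand
    simp only [Bool.not_true, Bool.false_or, Bool.or_eq_true] at hcand
    have hfix0 : ∀ {u : List ℕ}, lettersOK u = true → Nat.beq (act u 0) 0 = true →
        prodW gen u ∈ subA := fun hu hu0 =>
      (setupA.mem_iff _).2 (Fin.ext (by rw [rho_act hu]; exact Nat.eq_of_beq_eq_true hu0))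
    rcases hcand with hcand | hcand
    · exact Or.inl (hgv ▸ hfix0 hv hcand)
    · refine Or.inr ?_
      rw [← hgv, tau_word hv, ← img_word]
      exact hfix0 (lettersOK_substW fun i _ => lettersOK_img i) hcand

/-- Every such subgroup is mapped to `subA` by an automorphism. -/
theorem exists_aut_map (H : Subgroup ON) (N : Subgroup H) [N.Normal] (hN : N.index = 2)
    (eN : N ≃* PSL(3, ZMod 7)) : ∃ α : MulAut ON, H.map α.toMonoidHom = subA := by
  obtain ⟨-, hzw, hz2, hxA, hwA, hzA, hgen⟩ := sub_basic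
  obtain ⟨θ⟩ := nonempty_equiv_subA H N hN eN
  obtain ⟨c, k, hk0, hk, hc⟩ := conj_to_zpowers ((θ ⟨xEl, hxA⟩ : H) : ON) (by
    rw [Subgroup.orderOf_coe, MulEquiv.orderOf_eq, Subgroup.orderOf_mk, x_order])
  let f₁ : subA →* ON := ((MulAut.conj c).toMonoidHom.comp H.subtype).comp θ.toMonoidHom
  have h1x : f₁ ⟨xEl, hxA⟩ = xEl ^ k := hc
  obtain ⟨m', hm'⟩ : ∃ m, k * m % 19 = 1 := by
    have : ∀ k < 19, 0 < k → ∃ m < 19, k * m % 19 = 1 := by decide
    obtain ⟨m, -, hm⟩ := this k hk hk0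
    exact ⟨m, hm⟩
  set u := f₁ ⟨wEl, hwA⟩ with hu
  have hwx : (⟨wEl, hwA⟩ : subA) * ⟨xEl, hxA⟩ ^ m' * (⟨wEl, hwA⟩ : subA)⁻¹ =
      ⟨xEl, hxA⟩ ^ (8 * m') := by
    refine Subtype.ext ?_
    show wEl * xEl ^ m' * wEl⁻¹ = xEl ^ (8 * m')
    rw [← conj_pow, w_x, mul_inv_cancel_right, ← pow_mul]
  have h2 : u * xEl * u⁻¹ = xEl ^ 8 := by
    have e := congrArg f₁ hwx
    rw [map_mul, map_mul, map_inv, map_pow, map_pow, h1x, ← pow_mul, ← pow_mul, ← hu,
      x_pow_mod, hm', pow_one] at e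
    rw [e, mul_left_comm, mul_comm 8, x_pow_mod, Nat.mul_mod, hm']
  have hcomm : (wEl⁻¹ * u) * xEl = xEl * (wEl⁻¹ * u) := by
    calc (wEl⁻¹ * u) * xEl = wEl⁻¹ * (u * xEl * u⁻¹) * u := by group
      _ = wEl⁻¹ * (xEl ^ 8 * wEl) * (wEl⁻¹ * u) := by rw [h2]; group
      _ = xEl * (wEl⁻¹ * u) := by rw [← w_x, inv_mul_cancel_left]
  obtain ⟨j, -, hj⟩ := commute_x hcomm
  have huw : u = wEl * xEl ^ j := by rw [← hj, mul_inv_cancel_left]
  set m := 12 * j % 19
  let f : subA →* ON := (MulAut.conj (xEl ^ m)).toMonoidHom.comp f₁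
  have hfx : f ⟨xEl, hxA⟩ = xEl ^ k := by
    show xEl ^ m * f₁ ⟨xEl, hxA⟩ * (xEl ^ m)⁻¹ = _
    rw [h1x, ← pow_add, add_comm, pow_add, mul_inv_cancel_right]
  have hmw : xEl ^ m * wEl = wEl * xEl ^ (12 * m) := by
    have e : wEl * xEl ^ (12 * m) * wEl⁻¹ = xEl ^ m := by
      rw [← conj_pow, w_x, mul_inv_cancel_right, ← pow_mul, x_pow_mod (8 * _), x_pow_mod m]
      congr 1
      omega
    rw [← e, inv_mul_cancel_right]
  have hfw : f ⟨wEl, hwA⟩ = wEl := by
    show xEl ^ m * u * (xEl ^ m)⁻¹ = _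
    rw [huw, ← mul_assoc, hmw, mul_assoc wEl, ← pow_add, mul_assoc wEl, mul_eq_left,
      mul_inv_eq_one, x_pow_mod, x_pow_mod m]
    congr 1
    omega
  have hfzw : f ⟨zEl, hzA⟩ * wEl = wEl * f ⟨zEl, hzA⟩ := by
    have e := congrArg f (show (⟨zEl, hzA⟩ : subA) * ⟨wEl, hwA⟩ = ⟨wEl, hwA⟩ * ⟨zEl, hzA⟩ from
      Subtype.ext hzw)
    rwa [map_mul, map_mul, hfw] at e
  have hfz2 : f ⟨zEl, hzA⟩ * f ⟨zEl, hzA⟩ = 1 := by
    rw [← map_mul, show (⟨zEl, hzA⟩ : subA) * ⟨zEl, hzA⟩ = 1 from Subtype.ext hz2, map_one]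
  -- an automorphism carrying `x` and the image of `subZ` into `subA` carries `H` onto it
  have key : ∀ α : MulAut ON, α xEl = xEl → α wEl = wEl → α (f ⟨zEl, hzA⟩) ∈ subA →
      ∃ β : MulAut ON, H.map β.toMonoidHom = subA := by
    intro α hαx hαw hαz
    refine ⟨α * MulAut.conj (xEl ^ m) * MulAut.conj c, ?_⟩
    let F : subA →* ON := α.toMonoidHom.comp f
    have hF : H.map (α * MulAut.conj (xEl ^ m) * MulAut.conj c).toMonoidHom = F.range := by
      ext y
      constructor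
      · rintro ⟨v, hv, rfl⟩
        obtain ⟨s, hs⟩ := θ.surjective ⟨v, hv⟩
        refine ⟨s, ?_⟩
        show α (MulAut.conj (xEl ^ m) (MulAut.conj c ((θ s : H) : ON))) = _
        rw [hs]
        rfl
      · rintro ⟨s, rfl⟩
        exact ⟨((θ s : H) : ON), (θ s).2, rfl⟩
    have hle : F.range ≤ subA := by
      rw [MonoidHom.range_eq_map, Subgroup.map_le_iff_le_comap]
      have h1 := hgen ((subA.comap F).map subA.subtype)
        ⟨⟨xEl, hxA⟩, show α (f ⟨xEl, hxA⟩) ∈ subA by rw [hfx, map_pow, hαx]; exact pow_mem hxA k, rfl⟩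
        ⟨⟨wEl, hwA⟩, show α (f ⟨wEl, hwA⟩) ∈ subA by rw [hfw, hαw]; exact hwA, rfl⟩
        ⟨⟨zEl, hzA⟩, hαz, rfl⟩
      intro s _
      obtain ⟨s', hs', e⟩ := h1 s.2
      obtain rfl : s' = s := Subtype.ext e
      exact hs'
    rw [hF]
    have hinj : Function.Injective F := fun s t e =>
      θ.injective (Subtype.ext ((MulAut.conj c).injective
        ((MulAut.conj (xEl ^ m)).injective (α.injective e))))
    haveI := subA_card.1
    exact Subgroup.eq_of_le_of_card_ge hle
      (Nat.card_congr (MonoidHom.ofInjective hinj).toEquiv).le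
  rcases cand_mem hfzw hfz2 with h | h
  · exact key 1 rfl rfl h
  · exact key tauAut tau_xwy.1 tau_xwy.2.1 h

end CfsgLib.ONPres
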