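import Cfsg.Agent.Lib.ONPres.AutDefs

/-!
The Boolean checks for the subgroups of index 122760 of the presented O'Nan group.
-/

set_option autoImplicit false

namespace CfsgLib.ONPres

open CfsgLib.CosetEnum

/-- an involution of the point stabiliser commuting with `autW` -/
def subZ : List ℕ :=
  [3, 0, 3, 1, 2, 0, 3, 4, 0, 3, 0, 3, 2, 0, 3, 4, 0, 3, 0, 3, 2, 0, 3, 4, 1, 0]

/-- `autX`, `subZ`, `autW` and inverses -/
def subL (i : ℕ) : List ℕ :=
  [autX, subZ, certA.revInv autX, autW, certA.revInv autW].getD i []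

/-- the six involutory generators in `subL` -/
def subGens : List (List ℕ) :=
  [[0, 1, 4, 2, 2, 1, 0, 0, 0, 1, 0, 1, 4, 0, 3],
   [0, 1, 2, 1, 0, 1, 2, 3, 3, 0, 1, 2, 1, 3, 2],
   [1, 0, 0, 3, 2, 1, 0, 1, 3, 2, 3, 2, 1],
   [1, 0, 1, 2, 1, 0, 3, 3, 2, 1, 0, 1, 3],
   [0, 0, 1, 2, 2, 3, 0, 1, 2, 1, 3, 0, 3, 0, 1, 2, 2],
   [0, 1, 0, 0, 1, 2, 3, 2, 1, 3, 3, 2, 2, 1, 2]]

/-- the checks on `subZ` -/
noncomputable def subBasic : Bool :=
  (subZ.all fun g => Nat.blt g 6) && (autX.all fun g => Nat.blt g 6) &&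
    (autW.all fun g => Nat.blt g 6) && (subGens.all fun t => t.all fun i => Nat.blt i 5) &&
    eqW (subZ ++ autW) (autW ++ subZ) && eqW (subZ ++ subZ) [] &&
    (List.range 6).all fun i => eqW (substW subL (subGens.getD i [])) [i]

/-- an involution commuting with `autW` fixes 0, or its image does -/
noncomputable def subCand (v : List ℕ) : Bool :=
  !eqW (v ++ autW) (autW ++ v) || !eqW (v ++ v) [] || Nat.beq (act v 0) 0 ||
    Nat.beq (act (substImg v) 0) 0

/-- all the candidates with given images of 0 and `autB` -/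
noncomputable def subScan (i : ℕ) : Bool :=
  match autPairs.getD i none with
  | none => true
  | some g => autStab.all fun s => subCand (g ++ s)

end CfsgLib.ONPres
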