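import Cfsg.Agent.Lib.ONPres.SubConj

/-!
Index and suborbits of the subgroups `PSL(3,7):2` of the O'Nan group.
-/

set_option autoImplicit false

namespace CfsgLib.ONPres

open CfsgLib.CosetEnum Cfsg.Spor
open scoped MatrixGroups

/-- the number of points in a class -/
theorem card_cls (i : ℕ) (hi : i < 4) :
    (Finset.univ.filter fun p : Fin certA.N => orbTab.cls (p : ℕ) = i + 1).card =
      [5586, 6384, 52136, 58653].getD i 0 := by
  have h := orbValid.size i hi
  rw [countUp_eq] at h
  refine Eq.trans ?_ h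
  rw [← Finset.card_map Fin.valEmbedding]
  refine congrArg Finset.card ?_
  ext q
  simp only [Finset.mem_map, Finset.mem_filter, Finset.mem_univ, true_and, Finset.mem_Ico,
    Fin.valEmbedding_apply, OrbTab.inCls, strict_eq, band_eq_true, ltB_iff]
  constructor
  · rintro ⟨p, hp, rfl⟩
    exact ⟨⟨Nat.zero_le _, by have := pt_lt p; norm_num; omega⟩, p.2, by rw [hp]; exact Nat.beq_refl _⟩
  · rintro ⟨-, hq, hc⟩
    exact ⟨⟨q, hq⟩, Nat.eq_of_beq_eq_true hc, rfl⟩

theorem orbits_of_equiv {G : Type*} [Group G] (e : G ≃* ON) (H : Subgroup G) (N : Subgroup H)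
    [N.Normal] (hN : N.index = 2) (eN : N ≃* PSL(3, ZMod 7)) :
    H.index = 122760 ∧ ∃ q₁ q₂ q₃ q₄ : G ⧸ H, (MulAction.orbit H q₁).ncard = 6384 ∧
      (MulAction.orbit H q₂).ncard = 5586 ∧ (MulAction.orbit H q₃).ncard = 58653 ∧
      (MulAction.orbit H q₄).ncard = 52136 := by
  classical
  haveI : Finite G := Finite.of_equiv _ e.symm.toEquiv
  let ι : H ≃* H.map e.toMonoidHom := e.subgroupMap H
  haveI : (N.map ι.toMonoidHom).Normal := Subgroup.Normal.map inferInstance _ ι.surjective
  obtain ⟨α, hα⟩ := exists_aut_map (H.map e.toMonoidHom) (N.map ι.toMonoidHom)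
    (by rw [Subgroup.index_map_of_bijective ι.bijective, hN])
    ((ι.subgroupMap N).symm.trans eN)
  let φ : G ≃* ON := e.trans α
  have hφ : H.map φ.toMonoidHom = subA := by
    rw [← hα, Subgroup.map_map]
    rfl
  have hmem : ∀ g, φ g ∈ subA ↔ g ∈ H := fun g => by
    rw [← hφ]
    exact Subgroup.mem_map_iff_mem φ.injective
  have hidx : H.index = 122760 := by
    rw [← index_subA, ← hφ, Subgroup.index_map_of_bijective φ.bijective]
  refine ⟨hidx, ?_⟩
  let P : G ⧸ H → Fin certA.N := Quotient.lift (fun g => rho (φ g) setupA.base) fun a b hab => by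
    have h : a⁻¹ * b ∈ H := QuotientGroup.leftRel_apply.1 hab
    rw [← hmem, map_mul, map_inv, setupA.mem_iff, map_mul, map_inv, Equiv.Perm.mul_apply,
      Equiv.Perm.inv_eq_iff_eq] at h
    exact h.symm
  have hP : ∀ g : G, P (g : G ⧸ H) = rho (φ g) setupA.base := fun _ => rfl
  have hinj : Function.Injective P := by
    intro a b
    induction a using QuotientGroup.induction_on with
    | _ a =>
      induction b using QuotientGroup.induction_on with
      | _ b =>
        intro h
        rw [hP, hP] at h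
        rw [QuotientGroup.eq, ← hmem, map_mul, map_inv, setupA.mem_iff, map_mul, map_inv,
          Equiv.Perm.mul_apply, Equiv.Perm.inv_eq_iff_eq]
        exact h.symm
  have hbij : Function.Bijective P := by
    haveI := Fintype.ofFinite (G ⧸ H)
    rw [Fintype.bijective_iff_injective_and_card]
    refine ⟨hinj, ?_⟩
    rw [← Nat.card_eq_fintype_card, Fintype.card_fin]
    exact hidx.trans (index_subA.symm.trans setupA.index_eq)
  have hact : ∀ (h : H) (q : G ⧸ H), P (h • q) = rho (φ h) (P q) := by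
    intro h q
    induction q using QuotientGroup.induction_on with
    | _ g =>
      show P (((h : G) * g : G) : G ⧸ H) = _
      rw [hP, hP, map_mul, map_mul, Equiv.Perm.mul_apply]
  have horb : ∀ i, i < 4 → ∃ q : G ⧸ H,
      (MulAction.orbit H q).ncard = [5586, 6384, 52136, 58653].getD i 0 := by
    intro i hi
    obtain ⟨h1, h2⟩ := orbValid.root (i + 1) (by rw [orbValid.len]; simp; omega)
    obtain ⟨q, hq⟩ := hbij.2 ⟨_, h1⟩
    refine ⟨q, ?_⟩
    rw [← card_cls i hi, ← Set.ncard_coe_finset, ← Set.ncard_image_of_injective _ hinj]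
    congr 1
    ext p
    simp only [Set.mem_image, Finset.coe_filter, Finset.mem_univ, true_and, Set.mem_ofPred_eq]
    constructor
    · rintro ⟨_, ⟨h, rfl⟩, rfl⟩
      rw [hact, orbValid.cls_rho setupA ((hmem h).2 h.2), hq]
      exact h2
    · intro hp
      obtain ⟨s, hs, hsp⟩ := (orbValid.orbit_iff setupA (P q) p).2 (by rw [hq, hp]; exact h2)
      obtain ⟨g, rfl⟩ := φ.surjective s
      exact ⟨_, ⟨⟨g, (hmem g).1 hs⟩, rfl⟩, by rw [hact]; exact hsp⟩
  obtain ⟨a, ha⟩ := horb 0 (by norm_num)
  obtain ⟨b, hb⟩ := horb 1 (by norm_num)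
  obtain ⟨c, hc⟩ := horb 2 (by norm_num)
  obtain ⟨d, hd⟩ := horb 3 (by norm_num)
  exact ⟨b, a, d, c, hb, ha, hd, hc⟩

end CfsgLib.ONPres
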