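import Cfsg.Agent.Lib.ONPres.Main
import Cfsg.Agent.Lib.ONSub.Groups

/-!
Subgroups of orders 175560 and 7920, and the permutation group on 122760 points.
-/

set_option autoImplicit false

namespace CfsgLib.ONPres

open CfsgLib.CosetEnum Cfsg.Spor

/-- substitution of words for two generators and the inverse of the second -/
def subgW (a b : List ℕ) (w : List ℕ) : List ℕ :=
  (w.map fun g => if g = 0 then a else if g = 1 then b else if g = 2 then certA.revInv b
    else []).flatten

theorem prodW_subgW (a b : List ℕ) : ∀ w : List ℕ, prodW gen (subgW a b w) =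
    prodW (fun g => if g = 0 then prodW gen a else if g = 1 then prodW gen b
      else if g = 2 then (prodW gen b)⁻¹ else 1) w
  | [] => rfl
  | g :: w => by
    have e : subgW a b (g :: w) = (if g = 0 then a else if g = 1 then b
        else if g = 2 then certA.revInv b else []) ++ subgW a b w := rfl
    rw [e, prodW_append, prodW_subgW a b w, prodW_cons]
    congr 1
    split_ifs <;> simp [modelA.revInv_eq]

/-- the checks that two words satisfy relators on the chain's bases and do not vanish -/
noncomputable def subOK (a b : List ℕ) (R : List (List ℕ)) : Bool :=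
  (a.all fun g => Nat.blt g certA.K) && (b.all fun g => Nat.blt g certA.K) &&
    (R.all fun w => ((subgW a b w).all fun g => Nat.blt g certA.K) &&
      levels.all fun l => Nat.beq (certA.run l.base (certA.revInv (subgW a b w))) l.base) &&
    !(levels.all fun l => Nat.beq (certA.run l.base (certA.revInv a)) l.base)

theorem exists_subgroup {a b : List ℕ} {R : List (List ℕ)} (h : subOK a b R = true)
    (hs : IsSimpleGroup (TwoGen R)) : ∃ K : Subgroup ON, Nonempty (TwoGen R ≃* K) := by
  simp only [subOK, Bool.and_eq_true, Bool.not_eq_true', List.all_eq_true] at h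
  obtain ⟨⟨⟨ha, -⟩, hR⟩, hne⟩ := h
  obtain ⟨φ, hφ⟩ := exists_twoHom (R := R)
    (fun g => if g = 0 then prodW gen a else if g = 1 then prodW gen b
      else if g = 2 then (prodW gen b)⁻¹ else 1)
    (by norm_num) (fun n => by simp) (fun w hw => by
      rw [← prodW_subgW]
      refine setupA.eq_one_of_bases levels_chain ?_ card_faithful.2 ?_ ?_
      · rw [card_faithful.1, levels_size]
      · simp only [List.all_eq_true]; exact (hR w hw).1
      · simp only [List.all_eq_true]; exact (hR w hw).2)
  have hker : φ.ker = ⊥ := by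
    refine ((inferInstance : φ.ker.Normal).eq_bot_or_eq_top).resolve_right fun htop => ?_
    have h1 : φ (twoGen R 0) = 1 := MonoidHom.mem_ker.1 (htop ▸ Subgroup.mem_top _)
    rw [hφ 0, if_pos rfl] at h1
    rw [← Bool.not_eq_true] at hne
    apply hne
    simp only [List.all_eq_true]
    intro l hl
    rw [Nat.beq_eq]
    by_cases hb : l.base < certA.N
    · have hlt : ∀ g ∈ a, g < certA.K := fun g hg => by simpa [Nat.blt_eq] using ha g hg
      rw [← setupA.rho_prodW hlt ⟨l.base, hb⟩, h1, map_one]
      rfl
    · have hall : (levels.all fun l => Nat.blt l.base certA.N) = true := by decide +kernel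
      simp only [List.all_eq_true, Nat.blt_eq] at hall
      exact absurd (hall l hl) hb
  exact ⟨φ.range, ⟨MonoidHom.ofInjective ((MonoidHom.ker_eq_bot_iff φ).1 hker)⟩⟩

theorem subOK_M : subOK [7, 4, 7, 2, 0, 4, 7, 2, 0, 6] [7, 3, 1, 5, 0, 6, 3] ONSub.relsM = true := by
  decide +kernel

theorem subOK_J : subOK [7, 2, 0, 4, 7, 2, 0, 4] [3, 0, 2, 7, 2, 7, 2, 4, 6, 6, 3, 2, 0, 3]
    ONSub.relsJ = true := by
  decide +kernel

theorem exists_isM11 : ∃ K : Subgroup ON, Cfsg.IsM11 K := by
  obtain ⟨hs, hc⟩ := ONSub.isM11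
  obtain ⟨K, ⟨e⟩⟩ := exists_subgroup subOK_M hs
  exact ⟨K, e.isSimpleGroup_congr.mp hs,
    by rw [← Nat.card_congr e.toEquiv, hc]⟩

theorem exists_isJ1 : ∃ K : Subgroup ON, Cfsg.IsJ1 K := by
  obtain ⟨hs, hc⟩ := ONSub.isJ1
  obtain ⟨K, ⟨e⟩⟩ := exists_subgroup subOK_J hs
  exact ⟨K, e.isSimpleGroup_congr.mp hs,
    by rw [← Nat.card_congr e.toEquiv, hc]⟩

end CfsgLib.ONPres
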